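import Cfsg.Agent.GlaubermanCorr.Step
import Cfsg.Agent.Char.ExtendInv
import Cfsg.Agent.Char.CosetSquare
import Cfsg.Agent.Char.Central

/-!
# Extensions along a cyclic quotient, functions extended by zero, sums over a coset
-/

set_option autoImplicit false

namespace CfsgLib.PPrimeCount

open Finset Cfsg
open scoped ComplexConjugate

universe u

variable {G : Type u} [Group G]

open scoped Classical in
/-- A function on a subgroup, extended by zero. -/
noncomputable def lift0 (K : Subgroup G) (θ : ↥K → ℂ) (x : G) : ℂ :=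
  if h : x ∈ K then θ ⟨x, h⟩ else 0

theorem lift0_of_mem {K : Subgroup G} (θ : ↥K → ℂ) {x : G} (h : x ∈ K) :
    lift0 K θ x = θ ⟨x, h⟩ := dif_pos h

@[simp] theorem lift0_coe {K : Subgroup G} (θ : ↥K → ℂ) (x : ↥K) : lift0 K θ (x : G) = θ x :=
  lift0_of_mem θ x.2

/-- Restriction of a function to a subgroup, through the extension by zero. -/
noncomputable def res {K : Subgroup G} (C : Subgroup G) (θ : ↥K → ℂ) : ↥C → ℂ :=
  fun c => lift0 K θ (c : G)

theorem res_apply {K C : Subgroup G} (θ : ↥K → ℂ) (c : ↥C) (h : (c : G) ∈ K) :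
    res C θ c = θ ⟨c, h⟩ := lift0_of_mem θ h

theorem res_eq {K C : Subgroup G} (hCK : C ≤ K) (θ : ↥K → ℂ) :
    res C θ = fun c : ↥C => θ ⟨c, hCK c.2⟩ := funext fun c => lift0_of_mem θ (hCK c.2)

theorem isCharacter_res {K C : Subgroup G} (hCK : C ≤ K) {θ : ↥K → ℂ}
    (hθ : IsCharacter ↥K θ) : IsCharacter ↥C (res C θ) := by
  rw [res_eq hCK]
  exact CfsgLib.Char.IsCharacter.comp hθ (Subgroup.inclusion hCK)

theorem res_res {K D C : Subgroup G} (hCD : C ≤ D) (hDK : D ≤ K) (θ : ↥K → ℂ) :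
    res C (res D θ) = res C θ := funext fun c => by
  rw [res_apply (res D θ) c (hCD c.2), res_apply θ c (hDK (hCD c.2))]
  exact res_apply θ (⟨c, hCD c.2⟩ : ↥D) (hDK (hCD c.2))

theorem res_self {K : Subgroup G} (θ : ↥K → ℂ) : res K θ = θ := funext fun c => lift0_coe θ c

variable [Fintype G]

/-- A cyclic quotient gives `CycData`. -/
theorem exists_cycData (N : Subgroup G) [N.Normal] (y : G)
    (hgen : ∀ g, ∃ k ∈ N, ∃ i : ℕ, g = k * y ^ i) :
    ∃ (q : ℕ) (_ : NeZero q) (lam : G →* ℂˣ) (ω : ℂ), GlaubermanCorr.CycData N y q lam ω := by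
  set z : G ⧸ N := (y : G ⧸ N)
  have hz : ∀ a : G ⧸ N, a ∈ Subgroup.zpowers z := by
    intro a
    induction a using QuotientGroup.induction_on with | _ g =>
    obtain ⟨k, hk, i, rfl⟩ := hgen g
    rw [QuotientGroup.mk_mul, (QuotientGroup.eq_one_iff k).mpr hk, one_mul, QuotientGroup.mk_pow]
    exact Subgroup.npow_mem_zpowers z i
  have hq0 : orderOf z ≠ 0 := (orderOf_pos z).ne'
  refine ⟨orderOf z, ⟨hq0⟩, ?_⟩
  have hω := Complex.isPrimitiveRoot_exp (orderOf z) hq0
  set ω : ℂ := Complex.exp (2 * Real.pi * Complex.I / orderOf z)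
  let w : ℂˣ := Units.mk0 ω (hω.ne_zero hq0)
  have hw : IsPrimitiveRoot w (orderOf z) := IsPrimitiveRoot.coe_units_iff.mp hω
  let lam0 := monoidHomOfForallMemZpowers hz (show orderOf w ∣ orderOf z from hw.eq_orderOf ▸ dvd_rfl)
  have hlam0 : lam0 z = w := monoidHomOfForallMemZpowers_apply_gen hz _
  refine ⟨lam0.comp (QuotientGroup.mk' N), ω, hω, ?_, fun g => ?_, hgen⟩
  · change ((lam0 z : ℂˣ) : ℂ) = ω
    rw [hlam0]; rfl
  · rw [← QuotientGroup.eq_one_iff]
    change lam0 (g : G ⧸ N) = 1 ↔ _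
    obtain ⟨i, hi⟩ := mem_powers_iff_mem_zpowers.mpr (hz (g : G ⧸ N))
    simp only at hi
    rw [← hi, map_pow, hlam0, ← orderOf_dvd_iff_pow_eq_one, ← orderOf_dvd_iff_pow_eq_one,
      ← hw.eq_orderOf]

/-- An invariant irreducible character extends along a cyclic quotient. -/
theorem exists_extension_cyclic (N : Subgroup G) [N.Normal] (y : G)
    (hgen : ∀ g, ∃ k ∈ N, ∃ i : ℕ, g = k * y ^ i) {θ : ↥N → ℂ} (hθ : IsIrrCharacter ↥N θ)
    (hinv : ∀ k k' : ↥N, (k' : G) = y * k * y⁻¹ → θ k' = θ k) :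
    ∃ η, IsIrrCharacter G η ∧ ∀ k : ↥N, η k = θ k := by
  obtain ⟨q, hq, lam, ω, h⟩ := exists_cycData N y hgen
  exact h.exists_extension ⟨θ, hθ⟩ hinv

/-- Sums over the conjugates by a subgroup on which the character stays irreducible. -/
theorem sum_conj_mul (N : Subgroup G) [Fintype ↥N] {η : G → ℂ} (hη : IsIrrCharacter G η)
    (hres : IsIrrCharacter ↥N (fun n : ↥N => η n)) (x v : G) :
    ∑ n : ↥N, η (x * ((n : G) * v * (n : G)⁻¹)) = (Nat.card ↥N : ℂ) * η x * η v / η 1 := by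
  classical
  obtain ⟨d, ρ, hρ, rfl⟩ := id hη
  have : Representation.IsIrreducible (ρ.comp N.subtype : Representation ℂ ↥N (Fin d → ℂ)) :=
    (CfsgLib.Char.isIrreducible_iff_isIrrCharacter _).mpr hres
  let A : Module.End ℂ (Fin d → ℂ) := ∑ n : ↥N, ρ ((n : G) * v * (n : G)⁻¹)
  have hA : A = (LinearMap.trace ℂ _ A / (Module.finrank ℂ (Fin d → ℂ) : ℂ)) • 1 := by
    refine CfsgLib.Char.eq_smul_one_of_commute (ρ.comp N.subtype : Representation ℂ ↥N (Fin d → ℂ)) A
      fun g => ?_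
    change ρ (g : G) * A = A * ρ (g : G)
    simp only [A, Finset.mul_sum, Finset.sum_mul, ← map_mul]
    refine Fintype.sum_equiv (Equiv.mulLeft g) _ _ fun b => ?_
    congr 1
    simp only [Equiv.coe_mulLeft, Subgroup.coe_mul]; group
  have htr : LinearMap.trace ℂ _ A = (Nat.card ↥N : ℂ) * ρ.character v := by
    simp only [A, map_sum]
    change ∑ b : ↥N, ρ.character ((b : G) * v * (b : G)⁻¹) = _
    rw [Finset.sum_congr rfl fun (b : ↥N) _ => (CfsgLib.Char.IsIrrCharacter.isClassFunction hη) v (b : G),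
      Finset.sum_const, Finset.card_univ, nsmul_eq_mul, Nat.card_eq_fintype_card]
  have h := congrArg (fun B : Module.End ℂ (Fin d → ℂ) => LinearMap.trace ℂ _ (ρ x * B)) hA
  simp only [mul_smul_comm, mul_one, map_smul, smul_eq_mul, htr] at h
  simp only [A, Finset.mul_sum, map_sum, ← map_mul] at h
  rw [ρ.char_one]
  simp only [Representation.character] at h ⊢
  rw [h]; ring

/-- On every coset of a normal subgroup on which `η` stays irreducible the mean of `|η|²` is one. -/
theorem sum_norm_coset (N : Subgroup G) [N.Normal] [Fintype ↥N] {η : G → ℂ} (hη : IsIrrCharacter G η)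
    (hres : IsIrrCharacter ↥N (fun n : ↥N => η n)) (y : G) :
    ∑ n : ↥N, η ((n : G) * y) * conj (η ((n : G) * y)) = (Nat.card ↥N : ℂ) := by
  classical
  have := Fintype.ofFinite (G ⧸ N)
  have hS := CfsgLib.Char.isCharacter_cosetSquare N (CfsgLib.Char.IsIrrCharacter.isCharacter hη)
  have hne : classInner (CfsgLib.Char.cosetSquare N η) (fun _ => (1 : ℂ)) ≠ 0 := by
    rw [CfsgLib.Char.classInner_cosetSquare]
    have : classInner (fun g => η g * conj (η g)) (fun _ : G => (1 : ℂ)) = classInner η η := by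
      simp [CfsgLib.Char.classInner_def]
    rw [this, CfsgLib.Char.IsIrrCharacter.classInner_self hη]
    exact one_ne_zero
  have hconst : CfsgLib.Char.cosetSquare N η = fun _ => (1 : ℂ) :=
    CfsgLib.Char.IsCharacter.eq_of_constituent hS CfsgLib.Char.isIrrCharacter_one hne
      (by rw [CfsgLib.Char.cosetSquare_one, CfsgLib.Char.IsIrrCharacter.classInner_self hres])
  have h1 := congrFun hconst (y : G ⧸ N)
  rw [CfsgLib.Char.cosetSquare, inv_mul_eq_one₀ (by exact_mod_cast Nat.card_pos.ne')] at h1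
  rw [h1]
  refine Finset.sum_bij (fun (n : ↥N) _ => (n : G) * y) (fun n _ => ?_) (fun a _ b _ e => ?_)
    (fun g hg => ?_) (fun n _ => rfl)
  · simp [(QuotientGroup.eq_one_iff (n : G)).mpr n.2]
  · exact Subtype.ext (mul_right_cancel e)
  · have hg' := (Finset.mem_filter.mp hg).2
    refine ⟨⟨g * y⁻¹, ?_⟩, Finset.mem_univ _, by simp⟩
    rw [← QuotientGroup.eq_one_iff]
    simp [hg']

end CfsgLib.PPrimeCount
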