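import Cfsg.Agent.PPrimeCount.Ext
import Cfsg.Agent.GlaubermanCorr.Action

/-!
# The scalar attached to two elements commuting modulo a subgroup and fixing its character
-/

set_option autoImplicit false

namespace CfsgLib.PPrimeCount

open Finset Cfsg
open scoped ComplexConjugate
open GlaubermanCorr (InvBy)

universe u

variable {G : Type u} [Group G]

/-- The elements normalizing `K` and fixing `θ`. -/
def stab (K : Subgroup G) (θ : ↥K → ℂ) : Subgroup G where
  carrier := {g | g ∈ Subgroup.normalizer (K : Set G) ∧ InvBy K g θ}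
  mul_mem' {a b} ha hb := by
    refine ⟨mul_mem ha.1 hb.1, fun k k' e => ?_⟩
    have hm : b * (k : G) * b⁻¹ ∈ K := (Subgroup.mem_normalizer_iff.mp hb.1 k).mp k.2
    rw [ha.2 ⟨_, hm⟩ k' (by rw [e]; simp [mul_assoc]), hb.2 k ⟨_, hm⟩ rfl]
  one_mem' := ⟨one_mem _, fun k k' e => congrArg θ (Subtype.ext (by simpa using e))⟩
  inv_mem' {a} ha := ⟨inv_mem ha.1, fun k k' e => (ha.2 k' k (by rw [e]; simp [mul_assoc])).symm⟩

theorem mem_stab {K : Subgroup G} {θ : ↥K → ℂ} {g : G} :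
    g ∈ stab K θ ↔ g ∈ Subgroup.normalizer (K : Set G) ∧ InvBy K g θ := Iff.rfl

theorem conj_mem_of_stab {K : Subgroup G} {θ : ↥K → ℂ} {g : G} (hg : g ∈ stab K θ) {k : G}
    (hk : k ∈ K) : g * k * g⁻¹ ∈ K := (Subgroup.mem_normalizer_iff.mp hg.1 k).mp hk

theorem le_stab {K : Subgroup G} {θ : ↥K → ℂ} (hθ : IsClassFunction ↥K θ) : K ≤ stab K θ := by
  refine fun k hk => ⟨Subgroup.le_normalizer hk, fun a a' e => ?_⟩
  rw [show a' = ⟨k, hk⟩ * a * ⟨k, hk⟩⁻¹ from Subtype.ext (by simpa using e)]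
  exact hθ _ _

/-- `g` and `h` commute modulo `K`. -/
def CommMod (K : Subgroup G) (g h : G) : Prop := g * h * g⁻¹ * h⁻¹ ∈ K

theorem CommMod.symm {K : Subgroup G} {g h : G} (hc : CommMod K g h) : CommMod K h g := by
  have := inv_mem hc
  unfold CommMod
  convert this using 1
  group

theorem CommMod.mono {K K' : Subgroup G} (hle : K ≤ K') {g h : G} (hc : CommMod K g h) :
    CommMod K' g h := hle hc

theorem commMod_self (K : Subgroup G) (g : G) : CommMod K g g := by
  unfold CommMod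
  simp

theorem commMod_one (K : Subgroup G) (g : G) : CommMod K g 1 := by
  unfold CommMod
  simp

theorem CommMod.mul_right {K : Subgroup G} {g h h' : G} (hn : h ∈ Subgroup.normalizer (K : Set G))
    (hc : CommMod K g h) (hc' : CommMod K g h') : CommMod K g (h * h') := by
  have h1 := (Subgroup.mem_normalizer_iff.mp hn _).mp hc'
  have h2 := mul_mem hc h1
  unfold CommMod
  convert h2 using 1
  group

theorem CommMod.mul_left {K : Subgroup G} {g g' h : G} (hn : g ∈ Subgroup.normalizer (K : Set G))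
    (hc : CommMod K g h) (hc' : CommMod K g' h) : CommMod K (g * g') h :=
  (hc.symm.mul_right hn hc'.symm).symm

theorem CommMod.inv_right {K : Subgroup G} {g h : G} (hn : h ∈ Subgroup.normalizer (K : Set G))
    (hc : CommMod K g h) : CommMod K g h⁻¹ := by
  have h1 := (Subgroup.mem_normalizer_iff.mp (inv_mem hn) _).mp (inv_mem hc)
  unfold CommMod
  convert h1 using 1
  group

theorem CommMod.pow_right {K : Subgroup G} {g h : G} (hn : h ∈ Subgroup.normalizer (K : Set G))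
    (hc : CommMod K g h) : ∀ n : ℕ, CommMod K g (h ^ n)
  | 0 => by rw [pow_zero]; exact commMod_one K g
  | n + 1 => by rw [pow_succ]; exact (hc.pow_right hn n).mul_right (pow_mem hn n) hc

theorem CommMod.pow_left {K : Subgroup G} {g h : G} (hn : g ∈ Subgroup.normalizer (K : Set G))
    (hc : CommMod K g h) (n : ℕ) : CommMod K (g ^ n) h := (hc.symm.pow_right hn n).symm

/-- Commutators of coset representatives. -/
theorem comm_coset_mem {K : Subgroup G} {g h : G} (hg : g ∈ Subgroup.normalizer (K : Set G))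
    (hh : h ∈ Subgroup.normalizer (K : Set G)) (hc : CommMod K g h) {k k' : G} (hk : k ∈ K)
    (hk' : k' ∈ K) : CommMod K (k * g) (k' * h) := by
  have h1 := (Subgroup.mem_normalizer_iff.mp hg k').mp hk'
  have h2 := (Subgroup.mem_normalizer_iff.mp hh k⁻¹).mp (inv_mem hk)
  have := mul_mem (mul_mem (mul_mem (mul_mem hk h1) hc) h2) (inv_mem hk')
  unfold CommMod
  convert this using 1
  group

open scoped Classical in
/-- The scalar by which an extension of `θ` along `g` is changed by `h`, as a mean over the two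
cosets of the character of `θ` at commutators. -/
noncomputable def commScalar [Finite G] (K : Subgroup G) (θ : ↥K → ℂ) (g h : G) : ℂ :=
  letI : Fintype ↥K := Fintype.ofFinite _
  θ 1 / (Nat.card ↥K : ℂ) ^ 2 *
    ∑ k : ↥K, ∑ k' : ↥K, conj (lift0 K θ ((k : G) * g * ((k' : G) * h) * ((k : G) * g)⁻¹ * ((k' : G) * h)⁻¹))

variable [Fintype G] {K : Subgroup G} {θ : ↥K → ℂ}

theorem commScalar_def [Fintype ↥K] (g h : G) : commScalar K θ g h =
    θ 1 / (Nat.card ↥K : ℂ) ^ 2 *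
      ∑ k : ↥K, ∑ k' : ↥K, conj (lift0 K θ ((k : G) * g * ((k' : G) * h) * ((k : G) * g)⁻¹ * ((k' : G) * h)⁻¹)) := by
  unfold commScalar
  congr 1
  convert rfl

theorem commScalar_coset_left {k0 : G} (hk0 : k0 ∈ K) (g h : G) :
    commScalar K θ (k0 * g) h = commScalar K θ g h := by
  classical
  rw [commScalar_def, commScalar_def]
  congr 1
  refine Fintype.sum_equiv (Equiv.mulRight (⟨k0, hk0⟩ : ↥K)) _ _ fun k => ?_
  simp only [Equiv.coe_mulRight, Subgroup.coe_mul, mul_assoc]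

theorem commScalar_coset_right {k0 : G} (hk0 : k0 ∈ K) (g h : G) :
    commScalar K θ g (k0 * h) = commScalar K θ g h := by
  classical
  rw [commScalar_def, commScalar_def]
  congr 1
  refine Finset.sum_congr rfl fun k _ => ?_
  refine Fintype.sum_equiv (Equiv.mulRight (⟨k0, hk0⟩ : ↥K)) _ _ fun k' => ?_
  simp only [Equiv.coe_mulRight, Subgroup.coe_mul, mul_assoc]

theorem commScalar_swap (hθ : IsIrrCharacter ↥K θ) (g h : G) :
    commScalar K θ h g = conj (commScalar K θ g h) := by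
  classical
  rw [commScalar_def, commScalar_def, map_mul, map_div₀, map_pow, Complex.conj_natCast, map_sum]
  obtain ⟨d, -, hd⟩ := CfsgLib.Char.IsIrrCharacter.exists_degree hθ
  rw [hd, Complex.conj_natCast, Finset.sum_comm]
  congr 1
  refine Finset.sum_congr rfl fun k _ => ?_
  rw [map_sum]
  refine Finset.sum_congr rfl fun k' _ => ?_
  have key : ∀ a b : G, b = a⁻¹ → conj (lift0 K θ b) = conj (conj (lift0 K θ a)) := by
    rintro a b rfl
    by_cases ha : a ∈ K
    · rw [lift0_of_mem θ ha, lift0_of_mem θ (inv_mem ha)]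
      congr 1
      exact CfsgLib.Char.IsIrrCharacter.apply_inv hθ ⟨a, ha⟩
    · rw [lift0, lift0, dif_neg ha, dif_neg (fun h' => ha (by simpa using inv_mem h'))]
      simp
  exact key _ _ (by group)

variable (hθ : IsIrrCharacter ↥K θ)
include hθ

/-- The value of the scalar, computed from an extension. -/
theorem commScalar_eq {Γ : Subgroup G} [Fintype ↥Γ] (hKΓ : K ≤ Γ) (hΓn : Γ ≤ Subgroup.normalizer (K : Set G))
    {η : ↥Γ → ℂ} (hη : IsIrrCharacter ↥Γ η) (hres : ∀ (k : G) (hk : k ∈ K), η ⟨k, hKΓ hk⟩ = θ ⟨k, hk⟩)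
    {g h : G} (hg : g ∈ Γ) (hh : h ∈ Subgroup.normalizer (K : Set G)) (hgh : CommMod K g h)
    (hΓh : ∀ y ∈ Γ, h * y * h⁻¹ ∈ Γ) (lam : ↥Γ →* ℂˣ) (hlamK : ∀ y : ↥Γ, (y : G) ∈ K → lam y = 1)
    (htw : ∀ y : ↥Γ, η ⟨h * y * h⁻¹, hΓh y y.2⟩ = (lam y : ℂ) * η y) :
    commScalar K θ g h = (lam ⟨g, hg⟩ : ℂ) := by
  classical
  set N := K.subgroupOf Γ
  have : N.Normal := (Subgroup.normal_subgroupOf_iff_le_normalizer hKΓ).mpr hΓn
  let e : ↥N ≃* ↥K := Subgroup.subgroupOfEquivOfLe hKΓ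
  have hresN : IsIrrCharacter ↥N (fun n : ↥N => η n) := by
    have : (fun n : ↥N => η n) = fun n => θ (e n) := funext fun n => hres _ n.2
    rw [this]
    exact CfsgLib.Char.IsIrrCharacter.comp_surjective hθ e.toMonoidHom e.surjective
  have h1θ : η 1 = θ 1 := hres 1 (one_mem K)
  have hη1 : η 1 ≠ 0 := CfsgLib.Char.IsIrrCharacter.apply_one_ne_zero hη
  have hcard : Nat.card ↥N = Nat.card ↥K := Nat.card_congr e.toEquiv
  set lg : ℂ := (lam ⟨g, hg⟩ : ℂ)
  have hlg : lg ≠ 0 := Units.ne_zero _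
  let X : ↥N → ↥Γ := fun n => (n : ↥Γ) * ⟨g, hg⟩
  have hlamX : ∀ n : ↥N, (lam (X n) : ℂ) = lg := fun n => by
    simp only [X, map_mul, hlamK (n : ↥Γ) n.2, one_mul, lg]
  -- the inner sum
  have hinner : ∀ n : ↥N, ∑ k' : ↥K, conj (lift0 K θ ((((n : ↥Γ) : G) * g) * ((k' : G) * h) *
      (((n : ↥Γ) : G) * g)⁻¹ * ((k' : G) * h)⁻¹)) =
      (Nat.card ↥K : ℂ) / θ 1 * (lg * (η (X n) * conj (η (X n)))) := by
    intro n
    let v : ↥Γ := ⟨h * (((X n)⁻¹ : ↥Γ) : G) * h⁻¹, hΓh _ ((X n)⁻¹).2⟩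
    have hv : η v = (lg)⁻¹ * conj (η (X n)) := by
      rw [htw (X n)⁻¹, map_inv, Units.val_inv_eq_inv_val, hlamX,
        CfsgLib.Char.IsIrrCharacter.apply_inv hη]
    have hterm : ∀ m : ↥N, lift0 K θ ((((n : ↥Γ) : G) * g) * ((e m : G) * h) *
        (((n : ↥Γ) : G) * g)⁻¹ * ((e m : G) * h)⁻¹) = η (X n * ((m : ↥Γ) * v * (m : ↥Γ)⁻¹)) := by
      intro m
      have hmem := comm_coset_mem (hΓn hg) hh hgh (show ((n : ↥Γ) : G) ∈ K from n.2) (e m).2
      rw [lift0_of_mem θ hmem, ← hres _ hmem]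
      congr 1
      apply Subtype.ext
      simp [X, v, e, Subgroup.subgroupOfEquivOfLe, mul_assoc]
    rw [← e.toEquiv.sum_comp]
    simp only [MulEquiv.toEquiv_eq_coe, EquivLike.coe_coe, hterm]
    rw [← map_sum, sum_conj_mul N hη hresN, hcard, hv, map_div₀, map_mul, map_mul, map_mul, map_inv₀,
      Complex.conj_natCast, Complex.conj_conj, h1θ]
    have hlc : (starRingEnd ℂ lg)⁻¹ = lg := by
      rw [← Complex.inv_eq_conj (CfsgLib.Char.norm_hom_eq_one lam ⟨g, hg⟩), inv_inv]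
    obtain ⟨d, -, hd⟩ := CfsgLib.Char.IsIrrCharacter.exists_degree hθ
    rw [hlc, hd, Complex.conj_natCast]
    ring
  have he : ∀ n : ↥N, ((e.toEquiv n : ↥K) : G) = ((n : ↥Γ) : G) := fun _ => rfl
  rw [commScalar_def, ← e.toEquiv.sum_comp]
  simp only [he]
  rw [Finset.sum_congr rfl (fun n _ => hinner n), ← Finset.mul_sum,
    ← Finset.mul_sum, show ∑ n : ↥N, η (X n) * conj (η (X n)) = (Nat.card ↥N : ℂ) from
      sum_norm_coset N hη hresN ⟨g, hg⟩, hcard]
  have hK0 : (Nat.card ↥K : ℂ) ≠ 0 := by simp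
  have hθ0 : θ 1 ≠ 0 := CfsgLib.Char.IsIrrCharacter.apply_one_ne_zero hθ
  field_simp

end CfsgLib.PPrimeCount
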