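import Cfsg.Agent.PPrimeCount.Comm

/-!
# Properties of the scalar of two commuting elements of the stabilizer
-/

set_option autoImplicit false

namespace CfsgLib.PPrimeCount

open Finset Cfsg
open scoped ComplexConjugate
open GlaubermanCorr (InvBy)

universe u

variable {G : Type u} [Group G]

theorem exists_mul_pow_of_mem_sup [Finite G] {K : Subgroup G} {g : G}
    (hg : g ∈ Subgroup.normalizer (K : Set G)) {x : G} (hx : x ∈ K ⊔ Subgroup.zpowers g) :
    ∃ k ∈ K, ∃ i : ℕ, x = k * g ^ i := by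
  have hx' : x ∈ ((K ⊔ Subgroup.zpowers g : Subgroup G) : Set G) := hx
  rw [Subgroup.coe_mul_of_right_le_normalizer_left K (Subgroup.zpowers g)
    (Subgroup.zpowers_le.mpr hg)] at hx'
  obtain ⟨k, hk, z, hz, rfl⟩ := Set.mem_mul.mp hx'
  obtain ⟨i, hi⟩ := mem_powers_iff_mem_zpowers.mpr hz
  exact ⟨k, hk, i, by rw [← hi]⟩

theorem sup_zpowers_le_normalizer {K : Subgroup G} {g : G} (hg : g ∈ Subgroup.normalizer (K : Set G)) :
    K ⊔ Subgroup.zpowers g ≤ Subgroup.normalizer (K : Set G) :=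
  sup_le Subgroup.le_normalizer (Subgroup.zpowers_le.mpr hg)

theorem conj_mem_sup_zpowers [Finite G] {K : Subgroup G} {g h : G} (hg : g ∈ Subgroup.normalizer (K : Set G))
    (hh : h ∈ Subgroup.normalizer (K : Set G)) (hc : CommMod K g h) :
    ∀ y ∈ K ⊔ Subgroup.zpowers g, h * y * h⁻¹ ∈ K ⊔ Subgroup.zpowers g := by
  intro y hy
  obtain ⟨k, hk, i, rfl⟩ := exists_mul_pow_of_mem_sup hg hy
  have h1 : h * k * h⁻¹ ∈ K := (Subgroup.mem_normalizer_iff.mp hh k).mp hk
  have h2 : h * g * h⁻¹ ∈ K ⊔ Subgroup.zpowers g := by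
    rw [show h * g * h⁻¹ = (g * h * g⁻¹ * h⁻¹)⁻¹ * g by group]
    exact mul_mem (Subgroup.mem_sup_left (inv_mem hc)) (Subgroup.mem_sup_right (Subgroup.mem_zpowers g))
  rw [show h * (k * g ^ i) * h⁻¹ = h * k * h⁻¹ * (h * g * h⁻¹) ^ i by rw [conj_pow]; group]
  exact mul_mem (Subgroup.mem_sup_left h1) (pow_mem h2 i)

/-- A character with irreducible restriction is irreducible. -/
theorem isIrrCharacter_of_restrict [Fintype G] {χ : G → ℂ} (hχ : IsCharacter G χ) {H : Subgroup G}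
    (hres : IsIrrCharacter ↥H (fun n : ↥H => χ n)) : IsIrrCharacter G χ := by
  obtain ⟨d, ρ, rfl⟩ := hχ
  have : Representation.IsIrreducible (ρ.comp H.subtype : Representation ℂ ↥H (Fin d → ℂ)) :=
    (CfsgLib.Char.isIrreducible_iff_isIrrCharacter _).mpr hres
  exact ⟨d, ρ, CfsgLib.Char.isIrreducible_of_restrict ρ
    (ρ.comp H.subtype : Representation ℂ ↥H (Fin d → ℂ)) (fun _ => rfl), rfl⟩

/-- The restriction to `Γ` of a character of a larger group, irreducible on `K`, is irreducible. -/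
theorem isIrrCharacter_res_of_res [Fintype G] {K Γ Γ' : Subgroup G} (hKΓ : K ≤ Γ) (hΓ : Γ ≤ Γ')
    {η : ↥Γ' → ℂ} (hη : IsCharacter ↥Γ' η) {θ : ↥K → ℂ} (hθ : IsIrrCharacter ↥K θ)
    (hres : res K η = θ) : IsIrrCharacter ↥Γ (res Γ η) := by
  classical
  refine isIrrCharacter_of_restrict (H := K.subgroupOf Γ) (isCharacter_res hΓ hη) ?_
  let e : ↥(K.subgroupOf Γ) ≃* ↥K := Subgroup.subgroupOfEquivOfLe hKΓ
  have he : (fun n : ↥(K.subgroupOf Γ) => res Γ η n) = fun n => θ (e n) := funext fun n => by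
    rw [← hres]
    rfl
  rw [he]
  exact CfsgLib.Char.IsIrrCharacter.comp_surjective hθ e.toMonoidHom e.surjective

variable [Fintype G] {K : Subgroup G} {θ : ↥K → ℂ} (hθ : IsIrrCharacter ↥K θ)
include hθ

/-- An extension of `θ` along `g`. -/
theorem exists_ext {g : G} (hg : g ∈ stab K θ) :
    ∃ η : ↥(K ⊔ Subgroup.zpowers g) → ℂ, IsIrrCharacter ↥(K ⊔ Subgroup.zpowers g) η ∧
      ∀ (k : G) (hk : k ∈ K), η ⟨k, le_sup_left (b := Subgroup.zpowers g) hk⟩ = θ ⟨k, hk⟩ := by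
  classical
  set Γ := K ⊔ Subgroup.zpowers g
  have hKΓ : K ≤ Γ := le_sup_left
  have : (K.subgroupOf Γ).Normal :=
    (Subgroup.normal_subgroupOf_iff_le_normalizer hKΓ).mpr (sup_zpowers_le_normalizer hg.1)
  let e : ↥(K.subgroupOf Γ) ≃* ↥K := Subgroup.subgroupOfEquivOfLe hKΓ
  let g' : ↥Γ := ⟨g, Subgroup.mem_sup_right (Subgroup.mem_zpowers g)⟩
  obtain ⟨η, hη, hres⟩ := exists_extension_cyclic (K.subgroupOf Γ) g' (fun x => by
      obtain ⟨k, hk, i, hi⟩ := exists_mul_pow_of_mem_sup hg.1 x.2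
      exact ⟨⟨k, hKΓ hk⟩, Subgroup.mem_subgroupOf.mpr hk, i, Subtype.ext (by simpa [g'] using hi)⟩)
    (CfsgLib.Char.IsIrrCharacter.comp_surjective hθ e.toMonoidHom e.surjective)
    (fun k k' hk => hg.2 (e k) (e k') (by
      have := congrArg Subtype.val hk
      simpa [g', e, Subgroup.subgroupOfEquivOfLe] using this))
  exact ⟨η, hη, fun k hk => (hres ⟨⟨k, hKΓ hk⟩, Subgroup.mem_subgroupOf.mpr hk⟩).trans rfl⟩

/-- The linear character by which `h` moves an extension. -/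
theorem exists_lam {Γ : Subgroup G} (hKΓ : K ≤ Γ) (hΓn : Γ ≤ Subgroup.normalizer (K : Set G))
    {η : ↥Γ → ℂ} (hη : IsIrrCharacter ↥Γ η) (hres : ∀ (k : G) (hk : k ∈ K), η ⟨k, hKΓ hk⟩ = θ ⟨k, hk⟩)
    {h : G} (hh : h ∈ stab K θ) (hΓh : ∀ y ∈ Γ, h * y * h⁻¹ ∈ Γ) :
    ∃ lam : ↥Γ →* ℂˣ, (∀ y : ↥Γ, (y : G) ∈ K → lam y = 1) ∧
      ∀ y : ↥Γ, η ⟨h * y * h⁻¹, hΓh y y.2⟩ = (lam y : ℂ) * η y := by
  classical
  have : (K.subgroupOf Γ).Normal := (Subgroup.normal_subgroupOf_iff_le_normalizer hKΓ).mpr hΓn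
  let e : ↥(K.subgroupOf Γ) ≃* ↥K := Subgroup.subgroupOfEquivOfLe hKΓ
  let c : ↥Γ →* ↥Γ :=
    { toFun := fun y => ⟨h * y * h⁻¹, hΓh y y.2⟩
      map_one' := Subtype.ext (by simp)
      map_mul' := fun a b => Subtype.ext (by simp [mul_assoc]) }
  have hcinj : Function.Injective c := fun a b hab => Subtype.ext (by
    simpa [c] using congrArg Subtype.val hab)
  have hθ' : IsIrrCharacter ↥(K.subgroupOf Γ) (fun n => θ (e n)) :=
    CfsgLib.Char.IsIrrCharacter.comp_surjective hθ e.toMonoidHom e.surjective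
  obtain ⟨lam, hlam, hmul⟩ := CfsgLib.Char.exists_twist_of_extensions hθ' hη
    (fun n => hres ((n : ↥Γ) : G) n.2)
    (CfsgLib.Char.IsIrrCharacter.comp_surjective hη c (Finite.injective_iff_surjective.mp hcinj))
    (fun n => by
      have h1 : η (c n) = θ ⟨_, conj_mem_of_stab hh n.2⟩ := hres _ (conj_mem_of_stab hh n.2)
      exact h1.trans (hh.2 (e n) ⟨_, conj_mem_of_stab hh n.2⟩ rfl))
  exact ⟨lam, fun y hy => hlam ⟨y, hy⟩, fun y => (congrFun hmul y).trans (mul_comm _ _)⟩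

/-- The scalar has absolute value one. -/
theorem norm_commScalar {g h : G} (hg : g ∈ stab K θ) (hh : h ∈ stab K θ) (hc : CommMod K g h) :
    ‖commScalar K θ g h‖ = 1 := by
  classical
  obtain ⟨η, hη, hres⟩ := exists_ext hθ hg
  have hn := sup_zpowers_le_normalizer hg.1
  obtain ⟨lam, hlam, htw⟩ := exists_lam hθ le_sup_left hn hη hres hh (conj_mem_sup_zpowers hg.1 hh.1 hc)
  rw [commScalar_eq hθ le_sup_left hn hη hres (Subgroup.mem_sup_right (Subgroup.mem_zpowers g)) hh.1 hc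
    (conj_mem_sup_zpowers hg.1 hh.1 hc) lam hlam htw]
  exact CfsgLib.Char.norm_hom_eq_one lam _

theorem commScalar_mul_right {g h h' : G} (hg : g ∈ stab K θ) (hh : h ∈ stab K θ) (hh' : h' ∈ stab K θ)
    (hc : CommMod K g h) (hc' : CommMod K g h') :
    commScalar K θ g (h * h') = commScalar K θ g h * commScalar K θ g h' := by
  classical
  obtain ⟨η, hη, hres⟩ := exists_ext hθ hg
  let Γ := K ⊔ Subgroup.zpowers g
  have hn := sup_zpowers_le_normalizer hg.1
  have hgΓ : g ∈ Γ := Subgroup.mem_sup_right (Subgroup.mem_zpowers g)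
  have hm := conj_mem_sup_zpowers hg.1 hh.1 hc
  have hm' := conj_mem_sup_zpowers hg.1 hh'.1 hc'
  have hcc := hc.mul_right hh.1 hc'
  have hmm := conj_mem_sup_zpowers hg.1 (mul_mem hh.1 hh'.1) hcc
  obtain ⟨l, hl, ht⟩ := exists_lam hθ le_sup_left hn hη hres hh hm
  obtain ⟨l', hl', ht'⟩ := exists_lam hθ le_sup_left hn hη hres hh' hm'
  let c' : ↥Γ →* ↥Γ :=
    { toFun := fun y => ⟨h' * y * h'⁻¹, hm' y y.2⟩
      map_one' := Subtype.ext (by simp)
      map_mul' := fun a b => Subtype.ext (by simp [mul_assoc]) }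
  rw [commScalar_eq hθ le_sup_left hn hη hres hgΓ (mul_mem hh.1 hh'.1) hcc hmm (l.comp c' * l')
      (fun y hy => by
        rw [MonoidHom.mul_apply, MonoidHom.comp_apply, hl' y hy, mul_one]
        exact hl _ (conj_mem_of_stab hh' hy))
      (fun y => by
        have e : (⟨h * h' * y * (h * h')⁻¹, hmm y y.2⟩ : ↥Γ) =
            ⟨h * (c' y : G) * h⁻¹, hm (c' y) (c' y).2⟩ := Subtype.ext (by simp [c', mul_assoc])
        rw [e, ht (c' y), MonoidHom.mul_apply, MonoidHom.comp_apply, Units.val_mul,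
          show η (c' y) = _ from ht' y, mul_assoc]),
    commScalar_eq hθ le_sup_left hn hη hres hgΓ hh.1 hc hm l hl ht,
    commScalar_eq hθ le_sup_left hn hη hres hgΓ hh'.1 hc' hm' l' hl' ht',
    MonoidHom.mul_apply, MonoidHom.comp_apply, Units.val_mul]
  congr 2
  have hk : h' * g * h'⁻¹ * g⁻¹ ∈ K := by
    have := inv_mem hc'
    rwa [show (g * h' * g⁻¹ * h'⁻¹)⁻¹ = h' * g * h'⁻¹ * g⁻¹ by group] at this
  rw [show c' ⟨g, hgΓ⟩ = ⟨_, le_sup_left (b := Subgroup.zpowers g) hk⟩ * ⟨g, hgΓ⟩ from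
    Subtype.ext (by simp [c', mul_assoc]), map_mul, hl _ hk, one_mul]

theorem commScalar_mul_left {g g' h : G} (hg : g ∈ stab K θ) (hg' : g' ∈ stab K θ) (hh : h ∈ stab K θ)
    (hc : CommMod K g h) (hc' : CommMod K g' h) :
    commScalar K θ (g * g') h = commScalar K θ g h * commScalar K θ g' h := by
  rw [commScalar_swap hθ h (g * g'), commScalar_swap hθ h g, commScalar_swap hθ h g',
    commScalar_mul_right hθ hh hg hg' hc.symm hc'.symm, map_mul]

theorem commScalar_one_right {g : G} (hg : g ∈ stab K θ) : commScalar K θ g 1 = 1 := by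
  classical
  obtain ⟨η, hη, hres⟩ := exists_ext hθ hg
  rw [commScalar_eq hθ le_sup_left (sup_zpowers_le_normalizer hg.1) hη hres
    (Subgroup.mem_sup_right (Subgroup.mem_zpowers g)) (one_mem _) (commMod_one K g)
    (fun y hy => by simpa using hy) 1 (fun y _ => rfl)
    (fun y => by simp)]
  simp

theorem commScalar_one_left {g : G} (hg : g ∈ stab K θ) : commScalar K θ 1 g = 1 := by
  rw [commScalar_swap hθ g 1, commScalar_one_right hθ hg, map_one]

theorem commScalar_mem_right {g k : G} (hg : g ∈ stab K θ) (hk : k ∈ K) : commScalar K θ g k = 1 := by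
  rw [← mul_one k, commScalar_coset_right hk, commScalar_one_right hθ hg]

theorem commScalar_mem_left {g k : G} (hg : g ∈ stab K θ) (hk : k ∈ K) : commScalar K θ k g = 1 := by
  rw [← mul_one k, commScalar_coset_left hk, commScalar_one_left hθ hg]

theorem commScalar_pow_right {g h : G} (hg : g ∈ stab K θ) (hh : h ∈ stab K θ) (hc : CommMod K g h) :
    ∀ n : ℕ, commScalar K θ g (h ^ n) = commScalar K θ g h ^ n
  | 0 => by rw [pow_zero, pow_zero, commScalar_one_right hθ hg]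
  | n + 1 => by
    rw [pow_succ, pow_succ, commScalar_mul_right hθ hg (pow_mem hh n) hh (hc.pow_right hh.1 n) hc,
      commScalar_pow_right hg hh hc n]

theorem commScalar_pow_left {g h : G} (hg : g ∈ stab K θ) (hh : h ∈ stab K θ) (hc : CommMod K g h) (n : ℕ) :
    commScalar K θ (g ^ n) h = commScalar K θ g h ^ n := by
  rw [commScalar_swap hθ h (g ^ n), commScalar_pow_right hθ hh hg hc.symm, map_pow, ← commScalar_swap hθ h g]

/-- Elements of coprime orders modulo `K` give the scalar one. -/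
theorem commScalar_eq_one_of_coprime {g h : G} (hg : g ∈ stab K θ) (hh : h ∈ stab K θ) (hc : CommMod K g h)
    {m n : ℕ} (hm : g ^ m ∈ K) (hn : h ^ n ∈ K) (hco : Nat.Coprime m n) : commScalar K θ g h = 1 := by
  have h1 : commScalar K θ g h ^ m = 1 := by
    rw [← commScalar_pow_left hθ hg hh hc, commScalar_mem_left hθ hh hm]
  have h2 : commScalar K θ g h ^ n = 1 := by
    rw [← commScalar_pow_right hθ hg hh hc, commScalar_mem_right hθ hg hn]
  have h3 : commScalar K θ g h ^ Nat.gcd m n = 1 := pow_gcd_eq_one.mpr ⟨h1, h2⟩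
  rwa [hco.gcd_eq_one, pow_one] at h3

theorem commScalar_self {g : G} (hg : g ∈ stab K θ) : commScalar K θ g g = 1 := by
  classical
  obtain ⟨η, hη, hres⟩ := exists_ext hθ hg
  rw [commScalar_eq hθ le_sup_left (sup_zpowers_le_normalizer hg.1) hη hres
    (Subgroup.mem_sup_right (Subgroup.mem_zpowers g)) hg.1 (commMod_self K g)
    (conj_mem_sup_zpowers hg.1 hg.1 (commMod_self K g)) 1 (fun y _ => rfl)
    (fun y => by
      rw [MonoidHom.one_apply, Units.val_one, one_mul]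
      exact CfsgLib.Char.IsIrrCharacter.isClassFunction hη y
        ⟨g, Subgroup.mem_sup_right (Subgroup.mem_zpowers g)⟩)]
  simp

/-- An element fixing an extension along `g` gives the scalar one. -/
theorem commScalar_eq_one_of_fixed {Γ : Subgroup G} (hKΓ : K ≤ Γ) (hΓn : Γ ≤ Subgroup.normalizer (K : Set G))
    {η : ↥Γ → ℂ} (hη : IsIrrCharacter ↥Γ η) (hres : res K η = θ) {g h : G} (hg : g ∈ Γ)
    (hh : h ∈ Subgroup.normalizer (K : Set G)) (hc : CommMod K g h) (hΓh : ∀ y ∈ Γ, h * y * h⁻¹ ∈ Γ)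
    (hfix : InvBy Γ h η) : commScalar K θ g h = 1 := by
  classical
  rw [commScalar_eq hθ hKΓ hΓn hη (fun k hk => by rw [← hres, res_apply η ⟨k, hk⟩ (hKΓ hk)]) hg hh hc
    hΓh 1 (fun y _ => rfl) (fun y => by
      rw [MonoidHom.one_apply, Units.val_one, one_mul]
      exact hfix y _ rfl)]
  simp

/-- Conversely an element with scalar one fixes every extension along `g`. -/
theorem invBy_of_commScalar_eq_one {g h : G} (hg : g ∈ stab K θ) (hh : h ∈ stab K θ) (hc : CommMod K g h)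
    (h1 : commScalar K θ g h = 1) {η : ↥(K ⊔ Subgroup.zpowers g) → ℂ}
    (hη : IsIrrCharacter ↥(K ⊔ Subgroup.zpowers g) η) (hres : res K η = θ) :
    InvBy (K ⊔ Subgroup.zpowers g) h η := by
  classical
  have hn := sup_zpowers_le_normalizer hg.1
  have hgΓ : g ∈ K ⊔ Subgroup.zpowers g := Subgroup.mem_sup_right (Subgroup.mem_zpowers g)
  have hres' : ∀ (k : G) (hk : k ∈ K), η ⟨k, le_sup_left (b := Subgroup.zpowers g) hk⟩ = θ ⟨k, hk⟩ :=
    fun k hk => by rw [← hres, res_apply η ⟨k, hk⟩ (le_sup_left (b := Subgroup.zpowers g) hk)]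
  have hm := conj_mem_sup_zpowers hg.1 hh.1 hc
  obtain ⟨lam, hlam, htw⟩ := exists_lam hθ le_sup_left hn hη hres' hh hm
  rw [commScalar_eq hθ le_sup_left hn hη hres' hgΓ hh.1 hc hm lam hlam htw] at h1
  intro y y' e
  obtain ⟨k, hk, i, hi⟩ := exists_mul_pow_of_mem_sup hg.1 y.2
  have hy : y = ⟨k, le_sup_left (b := Subgroup.zpowers g) hk⟩ * ⟨g, hgΓ⟩ ^ i := Subtype.ext (by simpa using hi)
  rw [show y' = ⟨h * y * h⁻¹, hm y y.2⟩ from Subtype.ext e, htw y]
  have : lam y = 1 := by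
    rw [hy, map_mul, map_pow, hlam _ hk, one_mul, show lam ⟨g, hgΓ⟩ = 1 from Units.ext h1, one_pow]
  rw [this, Units.val_one, one_mul]

/-- Enlarging the group: the scalar of a character restricting to `θ` is the scalar of `θ`. -/
theorem commScalar_mono {K' : Subgroup G} (hKK' : K ≤ K') {θ' : ↥K' → ℂ} (hθ' : IsIrrCharacter ↥K' θ')
    (hres : res K θ' = θ) {g h : G} (hg : g ∈ stab K θ) (hh : h ∈ stab K θ) (hg' : g ∈ stab K' θ')
    (hh' : h ∈ stab K' θ') (hc : CommMod K g h) :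
    commScalar K' θ' g h = commScalar K θ g h := by
  classical
  obtain ⟨η', hη', hres'⟩ := exists_ext hθ' hg'
  let Γ := K ⊔ Subgroup.zpowers g
  let Γ' := K' ⊔ Subgroup.zpowers g
  have hΓΓ' : Γ ≤ Γ' := sup_le_sup_right hKK' _
  have hgΓ : g ∈ Γ := Subgroup.mem_sup_right (Subgroup.mem_zpowers g)
  have hn' := sup_zpowers_le_normalizer hg'.1
  have hm := conj_mem_sup_zpowers hg.1 hh.1 hc
  have hm' := conj_mem_sup_zpowers hg'.1 hh'.1 (hc.mono hKK')
  obtain ⟨lam, hlam, htw⟩ := exists_lam hθ' le_sup_left hn' hη' hres' hh' hm'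
  have hresK : res K η' = θ := funext fun c => by
    rw [← hres, res_apply η' c (le_sup_left (b := Subgroup.zpowers g) (hKK' c.2)),
      res_apply θ' c (hKK' c.2), hres' _ (hKK' c.2)]
  rw [commScalar_eq hθ' le_sup_left hn' hη' hres' (hΓΓ' hgΓ) hh'.1 (hc.mono hKK') hm' lam hlam htw,
    commScalar_eq hθ le_sup_left (sup_zpowers_le_normalizer hg.1)
      (isIrrCharacter_res_of_res le_sup_left hΓΓ' (CfsgLib.Char.IsIrrCharacter.isCharacter hη') hθ hresK)
      (fun k hk => by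
        rw [res_apply η' _ (hΓΓ' (le_sup_left (b := Subgroup.zpowers g) hk)), ← hresK,
          res_apply η' ⟨k, hk⟩ (le_sup_left (b := Subgroup.zpowers g) (hKK' hk))])
      hgΓ hh.1 hc hm (lam.comp (Subgroup.inclusion hΓΓ')) (fun y hy => hlam _ (hKK' hy))
      (fun y => by
        rw [res_apply η' _ (hΓΓ' (hm y y.2)), res_apply η' y (hΓΓ' y.2)]
        exact htw ⟨y, hΓΓ' y.2⟩)]
  rfl

end CfsgLib.PPrimeCount
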