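import Cfsg.Agent.PPrimeCount.Over
import Cfsg.Agent.PPrimeCount.CommProps
import Cfsg.Agent.Char.ExtendInv
import Cfsg.Agent.Char.Monomial
import Cfsg.Prelude.Def_Blocks

/-!
# Characters of degree prime to `p` over an invariant character, through extensions to `MS`
-/

set_option autoImplicit false

namespace CfsgLib.PPrimeCount

open Finset Cfsg
open scoped ComplexConjugate commutatorElement
open GlaubermanCorr (InvBy Inv)

universe u

variable {G : Type u} [Group G]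

theorem exists_mul_of_mem_sup {M S : Subgroup G} (hSM : S ≤ Subgroup.normalizer (M : Set G)) {x : G}
    (hx : x ∈ M ⊔ S) : ∃ m ∈ M, ∃ s ∈ S, x = m * s := by
  have hx' : x ∈ ((M ⊔ S : Subgroup G) : Set G) := hx
  rw [Subgroup.coe_mul_of_right_le_normalizer_left M S hSM] at hx'
  obtain ⟨m, hm, s, hs, rfl⟩ := Set.mem_mul.mp hx'
  exact ⟨m, hm, s, hs, rfl⟩

theorem sup_le_normalizer_left {M S : Subgroup G} (hSM : S ≤ Subgroup.normalizer (M : Set G)) :
    M ⊔ S ≤ Subgroup.normalizer (M : Set G) := sup_le Subgroup.le_normalizer hSM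

theorem commutator_le_self (S : Subgroup G) : ⁅S, S⁆ ≤ S :=
  Subgroup.commutator_le.mpr fun s hs t ht => by
    rw [commutatorElement_def]; exact mul_mem (mul_mem (mul_mem hs ht) (inv_mem hs)) (inv_mem ht)

variable [Fintype G]

omit [Fintype G] in
theorem relIndex_sup_dvd_pow [Finite G] {p : ℕ} [Fact p.Prime] {M S : Subgroup G} (hS : IsPGroup p ↥S)
    (hSM : S ≤ Subgroup.normalizer (M : Set G)) : ∃ e, M.relIndex (M ⊔ S) ∣ p ^ e := by
  obtain ⟨e, he⟩ := hS.exists_card_eq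
  refine ⟨e, ?_⟩
  have h1 := CfsgLib.Solvable.card_sup_mul_card_inf (A := S) (K := M) hSM
  rw [sup_comm, he] at h1
  have h2 : Nat.card ↥M * M.relIndex (M ⊔ S) = Nat.card ↥(M ⊔ S) := by
    rw [← Nat.card_congr (Subgroup.subgroupOfEquivOfLe (le_sup_left (a := M) (b := S))).toEquiv]
    exact Subgroup.card_mul_index _
  rw [← h2, mul_comm (p ^ e), mul_assoc] at h1
  exact Dvd.intro _ (Nat.eq_of_mul_eq_mul_left Nat.card_pos h1)

/-- All extensions to `MS` restrict alike to `M⁅S,S⁆`. -/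
theorem res_commutator_eq {M S : Subgroup G} (hSM : S ≤ Subgroup.normalizer (M : Set G)) {θ : ↥M → ℂ}
    (hθ : IsIrrCharacter ↥M θ) {η η' : ↥(M ⊔ S) → ℂ} (hη : IsIrrCharacter ↥(M ⊔ S) η)
    (hη' : IsIrrCharacter ↥(M ⊔ S) η') (hres : res M η = θ) (hres' : res M η' = θ) :
    res (M ⊔ ⁅S, S⁆) η = res (M ⊔ ⁅S, S⁆) η' := by
  classical
  have hn : ∀ h ∈ M ⊔ S, ∀ m ∈ M, h * m * h⁻¹ ∈ M := fun h hh m hm =>
    conj_mem_of_normalizer (sup_le_normalizer_left hSM hh) hm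
  have := subgroupOf_normal_of_conj hn
  let e : ↥(M.subgroupOf (M ⊔ S)) ≃* ↥M := Subgroup.subgroupOfEquivOfLe le_sup_left
  have hval : ∀ (f : ↥(M ⊔ S) → ℂ), res M f = θ → ∀ n : ↥(M.subgroupOf (M ⊔ S)), f n = θ (e n) :=
    fun f hf n => by rw [← hf]; exact (res_apply f (e n) (n : ↥(M ⊔ S)).2).symm
  obtain ⟨ν, hν, hmul⟩ := CfsgLib.Char.exists_twist_of_extensions
    (CfsgLib.Char.IsIrrCharacter.comp_surjective hθ e.toMonoidHom e.surjective) hη (hval η hres) hη'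
    (hval η' hres')
  have hle : M ⊔ ⁅S, S⁆ ≤ M ⊔ S := sup_le_sup_left (commutator_le_self S) M
  funext x
  rw [res_apply η x (hle x.2), res_apply η' x (hle x.2), hmul, Pi.mul_apply]
  suffices h : ν ⟨x, hle x.2⟩ = 1 by rw [h, Units.val_one, mul_one]
  have hker : M ⊔ ⁅S, S⁆ ≤ ν.ker.map (M ⊔ S).subtype := by
    refine sup_le (fun m hm => ⟨⟨m, Subgroup.mem_sup_left hm⟩, hν ⟨_, Subgroup.mem_subgroupOf.mpr hm⟩, rfl⟩)
      (Subgroup.commutator_le.mpr fun s hs t ht =>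
        ⟨⁅(⟨s, Subgroup.mem_sup_right hs⟩ : ↥(M ⊔ S)), ⟨t, Subgroup.mem_sup_right ht⟩⁆, ?_, rfl⟩)
    simp [MonoidHom.mem_ker, map_commutatorElement, commutatorElement_eq_one_iff_commute, Commute.all]
  obtain ⟨y, hy, hyx⟩ := hker x.2
  rw [show (⟨x, hle x.2⟩ : ↥(M ⊔ S)) = y from Subtype.ext hyx.symm]
  exact hy

theorem cast_charDegree {H : Type u} [Group H] {χ : H → ℂ} (hχ : IsCharacter H χ) :
    χ 1 = (charDegree χ : ℂ) := by
  obtain ⟨n, hn⟩ := CfsgLib.Char.IsCharacter.exists_degree hχ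
  rw [charDegree, hn, Complex.natCast_re, Nat.floor_natCast]

open scoped Classical in
/-- A character of degree prime to `p` over an invariant one gives an extension to `MS`. -/
theorem exists_extension_of_pprime {p : ℕ} [Fact p.Prime] {M S H : Subgroup G} (hS : IsPGroup p ↥S)
    (hMH : M ≤ H) (hSH : S ≤ H) (hn : ∀ h ∈ H, ∀ m ∈ M, h * m * h⁻¹ ∈ M)
    (hnP : ∀ h ∈ H, ∀ x ∈ M ⊔ S, h * x * h⁻¹ ∈ M ⊔ S) {θ : ↥M → ℂ} (hθ : IsIrrCharacter ↥M θ)
    (hinv : Inv M H θ) {χ : ↥H → ℂ} (hχ : IsIrrCharacter ↥H χ) (hdeg : ¬ p ∣ charDegree χ)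
    (hover : classInner (res M χ) θ ≠ 0) :
    ¬ p ∣ charDegree θ ∧ ∃ η : ↥(M ⊔ S) → ℂ, IsIrrCharacter ↥(M ⊔ S) η ∧ res M η = θ := by
  have hPH : M ⊔ S ≤ H := sup_le hMH hSH
  have hSM : S ≤ Subgroup.normalizer (M : Set G) := fun s hs =>
    Subgroup.mem_normalizer_fintype (hn s (hSH hs))
  have hχc := CfsgLib.Char.IsIrrCharacter.isCharacter hχ
  have := subgroupOf_normal_of_conj hnP
  let e : ↥((M ⊔ S).subgroupOf H) ≃* ↥(M ⊔ S) := Subgroup.subgroupOfEquivOfLe hPH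
  obtain ⟨ξ', hξ', hne'⟩ := CfsgLib.Char.exists_constituent_restrict (N := (M ⊔ S).subgroupOf H) hχ
  let ξ : ↥(M ⊔ S) → ℂ := fun x => ξ' (e.symm x)
  have hξ : IsIrrCharacter ↥(M ⊔ S) ξ :=
    CfsgLib.Char.IsIrrCharacter.comp_surjective hξ' e.symm.toMonoidHom e.symm.surjective
  obtain ⟨k, -, hk⟩ := CfsgLib.Char.exists_degree_ratio hχ hξ' hne'
  have hξ1 : ξ 1 = ξ' 1 := congrArg ξ' (map_one e.symm)
  have hdξ : ¬ p ∣ charDegree ξ := fun hd => hdeg (by
    rw [← hξ1, cast_charDegree hχc, cast_charDegree (CfsgLib.Char.IsIrrCharacter.isCharacter hξ),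
      ← Nat.cast_mul, Nat.cast_inj] at hk
    rw [hk]; exact hd.mul_left k)
  -- `ξ` lies over `θ`
  have hsmul := res_eq_smul hMH hn hχ hθ hinv hover
  have hinvP : Inv M (M ⊔ S) θ := fun x hx => hinv x (hPH hx)
  have hnM : ∀ h ∈ M ⊔ S, ∀ m ∈ M, h * m * h⁻¹ ∈ M := fun h hh => hn h (hPH hh)
  have := subgroupOf_normal_of_conj hnM
  let eM : ↥(M.subgroupOf (M ⊔ S)) ≃* ↥M := Subgroup.subgroupOfEquivOfLe le_sup_left
  obtain ⟨φ', hφ', hφne⟩ := CfsgLib.Char.exists_constituent_restrict (N := M.subgroupOf (M ⊔ S)) hξ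
  let φ : ↥M → ℂ := fun x => φ' (eM.symm x)
  have hφ : IsIrrCharacter ↥M φ :=
    CfsgLib.Char.IsIrrCharacter.comp_surjective hφ' eM.symm.toMonoidHom eM.symm.surjective
  have hξφ : classInner (res M ξ) φ ≠ 0 := by
    refine fun h0 => hφne ?_
    rw [← h0, ← GlaubermanCorr.classInner_comp_equiv eM (res M ξ) φ]
    congr 1
    · exact funext fun n => (res_apply ξ (eM n) (n : ↥(M ⊔ S)).2).symm
  have hχξ : classInner (res (M ⊔ S) χ) ξ ≠ 0 := by
    refine fun h0 => hne' ?_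
    rw [← h0, ← GlaubermanCorr.classInner_comp_equiv e (res (M ⊔ S) χ) ξ]
    congr 1
    · exact funext fun n => (res_apply χ (e n) (n : ↥H).2).symm
  have hφθ : φ = θ := by
    by_contra hne
    have h0 : classInner (res M χ) φ = 0 := by
      rw [hsmul, CfsgLib.Char.classInner_smul_left, CfsgLib.Char.IsIrrCharacter.classInner_of_ne hθ hφ (Ne.symm hne),
        mul_zero]
    refine (mul_ne_zero hχξ hξφ) ?_
    have := Fintype.ofFinite (IrrCharacter ↥(M ⊔ S))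
    rw [res_eq (le_sup_left.trans hPH), GlaubermanCorr.classInner_trans hPH le_sup_left hχc] at h0
    choose a ha using fun ψ : IrrCharacter ↥(M ⊔ S) =>
      CfsgLib.Char.IsCharacter.exists_classInner_eq_natCast (isCharacter_res hPH hχc) ψ.2
    choose b hb using fun ψ : IrrCharacter ↥(M ⊔ S) =>
      CfsgLib.Char.IsCharacter.exists_classInner_eq_natCast
        (isCharacter_res (le_sup_left (a := M) (b := S)) (CfsgLib.Char.IsIrrCharacter.isCharacter ψ.2)) hφ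
    have hab : ∀ ψ : IrrCharacter ↥(M ⊔ S),
        classInner (fun d : ↥(M ⊔ S) => χ ⟨d, hPH d.2⟩) (ψ : ↥(M ⊔ S) → ℂ) *
          classInner (fun c : ↥M => (ψ : ↥(M ⊔ S) → ℂ) ⟨c, (le_sup_left (b := S)) c.2⟩) φ =
        ((a ψ * b ψ : ℕ) : ℂ) := fun ψ => by
      rw [← res_eq hPH, ← res_eq (le_sup_left (a := M) (b := S)), ha, hb, Nat.cast_mul]
    simp only [hab] at h0
    rw [← Nat.cast_sum, Nat.cast_eq_zero, Finset.sum_eq_zero_iff] at h0
    have h2 := h0 ⟨ξ, hξ⟩ (Finset.mem_univ _)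
    rw [ha ⟨ξ, hξ⟩, hb ⟨ξ, hξ⟩, ← Nat.cast_mul, h2, Nat.cast_zero]
  rw [hφθ] at hξφ
  obtain ⟨d, hd⟩ := CfsgLib.Char.IsCharacter.exists_classInner_eq_natCast
    (isCharacter_res (le_sup_left (a := M) (b := S)) (CfsgLib.Char.IsIrrCharacter.isCharacter hξ)) hθ
  have hdeq : charDegree ξ = d * charDegree θ := by
    have h1 := apply_one_eq_mult_mul le_sup_left hnM hξ hθ hinvP hξφ
    rw [hd, cast_charDegree (CfsgLib.Char.IsIrrCharacter.isCharacter hξ),
      cast_charDegree (CfsgLib.Char.IsIrrCharacter.isCharacter hθ)] at h1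
    exact_mod_cast h1
  obtain ⟨i, hi⟩ := relIndex_sup_dvd_pow hS hSM
  refine ⟨fun hd' => hdξ (hdeq ▸ hd'.mul_left d), ξ, hξ, res_eq_of_rel_pIndex le_sup_left hnM hi hξ hθ hinvP
    (rel_iff.mpr ⟨d, hd, fun h0 => hdξ (hdeq ▸ ((ZMod.natCast_eq_zero_iff d p).mp h0).mul_right _)⟩)⟩

open scoped Classical in
/-- With an extension to `MS` given, the characters of degree prime to `p` over `θ` are those over
the restriction of the extension to `M⁅S,S⁆`. -/
theorem pprime_over_iff {p : ℕ} [Fact p.Prime] {M S H : Subgroup G} (hS : IsPGroup p ↥S)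
    (hMH : M ≤ H) (hSH : S ≤ H) (hn : ∀ h ∈ H, ∀ m ∈ M, h * m * h⁻¹ ∈ M)
    (hnP : ∀ h ∈ H, ∀ x ∈ M ⊔ S, h * x * h⁻¹ ∈ M ⊔ S) (hidx : ¬ p ∣ (M ⊔ S).relIndex H)
    {θ : ↥M → ℂ} (hθ : IsIrrCharacter ↥M θ) (hinv : Inv M H θ) (hdθ : ¬ p ∣ charDegree θ)
    {η : ↥(M ⊔ S) → ℂ} (hη : IsIrrCharacter ↥(M ⊔ S) η) (hres : res M η = θ) {χ : ↥H → ℂ}
    (hχ : IsIrrCharacter ↥H χ) :
    (¬ p ∣ charDegree χ ∧ classInner (res M χ) θ ≠ 0) ↔
      classInner (res (M ⊔ ⁅S, S⁆) χ) (res (M ⊔ ⁅S, S⁆) η) ≠ 0 := by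
  have hPH : M ⊔ S ≤ H := sup_le hMH hSH
  have hSM : S ≤ Subgroup.normalizer (M : Set G) := fun s hs =>
    Subgroup.mem_normalizer_fintype (hn s (hSH hs))
  have hdP : M ⊔ ⁅S, S⁆ ≤ M ⊔ S := sup_le_sup_left (commutator_le_self S) M
  have hMd : M ≤ M ⊔ ⁅S, S⁆ := le_sup_left
  have hχc := CfsgLib.Char.IsIrrCharacter.isCharacter hχ
  have hnd : ∀ h ∈ M ⊔ S, ∀ m ∈ M ⊔ ⁅S, S⁆, h * m * h⁻¹ ∈ M ⊔ ⁅S, S⁆ := by
    intro h hh m hm
    obtain ⟨a, ha, s, hs, rfl⟩ := exists_mul_of_mem_sup hSM hh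
    have h1 : s * m * s⁻¹ ∈ M ⊔ ⁅S, S⁆ := by
      obtain ⟨b, hb, c, hc, rfl⟩ :=
        exists_mul_of_mem_sup ((commutator_le_self S).trans hSM) hm
      rw [show s * (b * c) * s⁻¹ = s * b * s⁻¹ * (⁅s, c⁆ * c) by rw [commutatorElement_def]; group]
      exact mul_mem (Subgroup.mem_sup_left (conj_mem_of_normalizer (hSM hs) hb))
        (Subgroup.mem_sup_right (mul_mem (Subgroup.commutator_mem_commutator hs (commutator_le_self S hc)) hc))
    rw [show a * s * m * (a * s)⁻¹ = a * (s * m * s⁻¹) * a⁻¹ by group]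
    exact mul_mem (mul_mem (hMd ha) h1) (inv_mem (hMd ha))
  have hθ1 : IsIrrCharacter ↥(M ⊔ ⁅S, S⁆) (res (M ⊔ ⁅S, S⁆) η) :=
    isIrrCharacter_res_of_res hMd hdP (CfsgLib.Char.IsIrrCharacter.isCharacter hη) hθ hres
  have := Fintype.ofFinite (IrrCharacter ↥(M ⊔ S))
  choose a ha using fun ψ : IrrCharacter ↥(M ⊔ S) =>
    CfsgLib.Char.IsCharacter.exists_classInner_eq_natCast (isCharacter_res hPH hχc) ψ.2
  have hsum : ∀ {N : Subgroup G} (hN : N ≤ M ⊔ S) (f : ↥N → ℂ), classInner (res N χ) f =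
      ∑ ψ : IrrCharacter ↥(M ⊔ S), (a ψ : ℂ) * classInner (res N (ψ : ↥(M ⊔ S) → ℂ)) f := by
    intro N hN f
    rw [res_eq (hN.trans hPH), GlaubermanCorr.classInner_trans hPH hN hχc]
    exact Finset.sum_congr rfl fun ψ _ => by rw [← ha, res_eq hPH, res_eq hN]
  have hinvP : Inv M (M ⊔ S) θ := fun x hx => hinv x (hPH hx)
  have hnM : ∀ h ∈ M ⊔ S, ∀ m ∈ M, h * m * h⁻¹ ∈ M := fun h hh => hn h (hPH hh)
  -- constituents over `res η` are extensions
  have hover1 : ∀ ψ : ↥(M ⊔ S) → ℂ, IsIrrCharacter ↥(M ⊔ S) ψ →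
      classInner (res (M ⊔ ⁅S, S⁆) ψ) (res (M ⊔ ⁅S, S⁆) η) ≠ 0 → res M ψ = θ := by
    intro ψ hψ hne
    have := subgroupOf_normal_of_conj hnd
    let e : ↥((M ⊔ ⁅S, S⁆).subgroupOf (M ⊔ S)) ≃* ↥(M ⊔ ⁅S, S⁆) := Subgroup.subgroupOfEquivOfLe hdP
    have hval : ∀ f : ↥(M ⊔ S) → ℂ, (fun n : ↥((M ⊔ ⁅S, S⁆).subgroupOf (M ⊔ S)) => f n) =
        fun n => res (M ⊔ ⁅S, S⁆) f (e n) := fun f => funext fun n =>
      (res_apply f (e n) (n : ↥(M ⊔ S)).2).symm
    obtain ⟨β, ⟨hβ, hk⟩, hβψ⟩ := (CfsgLib.Char.gallagher_one (N := (M ⊔ ⁅S, S⁆).subgroupOf (M ⊔ S)) hη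
      (by rw [hval]; exact CfsgLib.Char.IsIrrCharacter.comp_surjective hθ1 e.toMonoidHom e.surjective)).surjOn
      (show ψ ∈ _ from ⟨hψ, by
        rw [hval, hval, GlaubermanCorr.classInner_comp_equiv e]; exact hne⟩)
    simp only at hβψ
    have hβ1 : β 1 = 1 := CfsgLib.Char.IsIrrCharacter.apply_one_eq_one_of_commutators hβ fun x y => by
      refine hk _ (Subgroup.mem_subgroupOf.mpr ?_)
      obtain ⟨b, hb, s, hs, hx⟩ := exists_mul_of_mem_sup hSM x.2
      obtain ⟨c, hc, t, ht, hy⟩ := exists_mul_of_mem_sup hSM y.2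
      simp only [Subgroup.coe_mul, Subgroup.coe_inv, hx, hy]
      have h1 : s * t * s⁻¹ * t⁻¹ ∈ M ⊔ ⁅S, S⁆ := by
        rw [← commutatorElement_def]
        exact Subgroup.mem_sup_right (Subgroup.commutator_mem_commutator hs ht)
      have := mul_mem (mul_mem (mul_mem (mul_mem (hMd hb) (hMd (conj_mem_of_normalizer (hSM hs) hc))) h1)
        (hMd (conj_mem_of_normalizer (hSM ht) (inv_mem hb)))) (hMd (inv_mem hc))
      convert this using 1
      group
    funext m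
    rw [res_apply ψ m ((le_sup_left (b := S)) m.2), ← hβψ, Pi.mul_apply,
      hk ⟨(m : G), (le_sup_left (b := S)) m.2⟩ (Subgroup.mem_subgroupOf.mpr (hMd m.2)), hβ1, one_mul, ← hres,
      res_apply η m ((le_sup_left (b := S)) m.2)]
  constructor
  · rintro ⟨hdeg, hover⟩
    obtain ⟨-, ξ, hξ, hξres⟩ := exists_extension_of_pprime hS hMH hSH hn hnP hθ hinv hχ hdeg hover
    -- some constituent lies over `θ`
    rw [hsum le_sup_left] at hover
    obtain ⟨ψ, -, hψ⟩ := Finset.exists_ne_zero_of_sum_ne_zero hover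
    have hψa : a ψ ≠ 0 := fun h => hψ (by rw [h, Nat.cast_zero, zero_mul])
    have hdψ : ¬ p ∣ charDegree (ψ : ↥(M ⊔ S) → ℂ) := by
      intro hd
      have := subgroupOf_normal_of_conj hnP
      let e : ↥((M ⊔ S).subgroupOf H) ≃* ↥(M ⊔ S) := Subgroup.subgroupOfEquivOfLe hPH
      have hne : classInner (fun n : ↥((M ⊔ S).subgroupOf H) => χ n) (fun n => (ψ : ↥(M ⊔ S) → ℂ) (e n)) ≠ 0 := by
        rw [show (fun n : ↥((M ⊔ S).subgroupOf H) => χ n) = fun n => res (M ⊔ S) χ (e n) from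
          funext fun n => (res_apply χ (e n) (n : ↥H).2).symm, GlaubermanCorr.classInner_comp_equiv e, ha]
        exact_mod_cast hψa
      obtain ⟨k, -, hk⟩ := CfsgLib.Char.exists_degree_ratio hχ
        (CfsgLib.Char.IsIrrCharacter.comp_surjective ψ.2 e.toMonoidHom e.surjective) hne
      rw [map_one e.toMonoidHom, cast_charDegree hχc, cast_charDegree (CfsgLib.Char.IsIrrCharacter.isCharacter ψ.2),
        ← Nat.cast_mul, Nat.cast_inj] at hk
      exact hdeg (hk ▸ hd.mul_left k)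
    have hψres : res M (ψ : ↥(M ⊔ S) → ℂ) = θ := by
      obtain ⟨i, hi⟩ := relIndex_sup_dvd_pow hS hSM
      obtain ⟨d, hd⟩ := CfsgLib.Char.IsCharacter.exists_classInner_eq_natCast
        (isCharacter_res (le_sup_left (a := M) (b := S)) (CfsgLib.Char.IsIrrCharacter.isCharacter ψ.2)) hθ
      refine res_eq_of_rel_pIndex le_sup_left hnM hi ψ.2 hθ hinvP (rel_iff.mpr ⟨d, hd, fun h0 => hdψ ?_⟩)
      have h1 := apply_one_eq_mult_mul le_sup_left hnM ψ.2 hθ hinvP (right_ne_zero_of_mul hψ)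
      rw [hd, cast_charDegree (CfsgLib.Char.IsIrrCharacter.isCharacter ψ.2),
        cast_charDegree (CfsgLib.Char.IsIrrCharacter.isCharacter hθ), ← Nat.cast_mul, Nat.cast_inj] at h1
      exact h1 ▸ ((ZMod.natCast_eq_zero_iff d p).mp h0).mul_right _
    have h1 := res_commutator_eq hSM hθ ψ.2 hη hψres hres
    choose b hb using fun φ : IrrCharacter ↥(M ⊔ S) =>
      CfsgLib.Char.IsCharacter.exists_classInner_eq_natCast
        (isCharacter_res hdP (CfsgLib.Char.IsIrrCharacter.isCharacter φ.2)) hθ1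
    rw [hsum hdP, Finset.sum_congr rfl (g := fun φ => ((a φ * b φ : ℕ) : ℂ))
      (fun φ _ => by rw [hb, Nat.cast_mul]), ← Nat.cast_sum, Nat.cast_ne_zero]
    intro h0
    have h2 := (Finset.sum_eq_zero_iff.mp h0) ψ (Finset.mem_univ _)
    have hb1 : b ψ = 1 := by
      have h3 := hb ψ
      rw [h1, CfsgLib.Char.IsIrrCharacter.classInner_self hθ1] at h3
      exact_mod_cast h3.symm
    rw [hb1, mul_one] at h2
    exact hψa h2
  · intro hover
    rw [hsum hdP] at hover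
    obtain ⟨ψ, -, hψ⟩ := Finset.exists_ne_zero_of_sum_ne_zero hover
    have hψres := hover1 _ ψ.2 (right_ne_zero_of_mul hψ)
    have hψa : a ψ ≠ 0 := fun h => hψ (by rw [h, Nat.cast_zero, zero_mul])
    constructor
    · intro hd
      have := subgroupOf_normal_of_conj hnP
      let e : ↥((M ⊔ S).subgroupOf H) ≃* ↥(M ⊔ S) := Subgroup.subgroupOfEquivOfLe hPH
      have hne : classInner (fun n : ↥((M ⊔ S).subgroupOf H) => χ n) (fun n => (ψ : ↥(M ⊔ S) → ℂ) (e n)) ≠ 0 := by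
        rw [show (fun n : ↥((M ⊔ S).subgroupOf H) => χ n) = fun n => res (M ⊔ S) χ (e n) from
          funext fun n => (res_apply χ (e n) (n : ↥H).2).symm, GlaubermanCorr.classInner_comp_equiv e, ha]
        exact_mod_cast hψa
      obtain ⟨k, hkd, hk⟩ := CfsgLib.Char.exists_degree_ratio hχ
        (CfsgLib.Char.IsIrrCharacter.comp_surjective ψ.2 e.toMonoidHom e.surjective) hne
      have hψ1 : (ψ : ↥(M ⊔ S) → ℂ) 1 = θ 1 := by
        rw [← hψres, res_apply _ 1 (one_mem _)]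
        rfl
      rw [map_one e.toMonoidHom, hψ1, cast_charDegree hχc, cast_charDegree (CfsgLib.Char.IsIrrCharacter.isCharacter hθ),
        ← Nat.cast_mul, Nat.cast_inj] at hk
      rw [hk] at hd
      exact ((Fact.out : p.Prime).dvd_mul.mp hd).elim (fun h => hidx (h.trans hkd)) hdθ
    · choose b hb using fun φ : IrrCharacter ↥(M ⊔ S) =>
        CfsgLib.Char.IsCharacter.exists_classInner_eq_natCast
          (isCharacter_res (le_sup_left (a := M) (b := S)) (CfsgLib.Char.IsIrrCharacter.isCharacter φ.2)) hθ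
      rw [hsum le_sup_left, Finset.sum_congr rfl (g := fun φ => ((a φ * b φ : ℕ) : ℂ))
        (fun φ _ => by rw [hb, Nat.cast_mul]), ← Nat.cast_sum, Nat.cast_ne_zero]
      intro h0
      have h2 := (Finset.sum_eq_zero_iff.mp h0) ψ (Finset.mem_univ _)
      have hb1 : b ψ = 1 := by
        have h3 := hb ψ
        rw [hψres, CfsgLib.Char.IsIrrCharacter.classInner_self hθ] at h3
        exact_mod_cast h3.symm
      rw [hb1, mul_one] at h2
      exact hψa h2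

end CfsgLib.PPrimeCount
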