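import Cfsg.Agent.PPrimeCount.RelGroup
import Cfsg.Agent.PPrimeCount.ExtendP
import Mathlib.GroupTheory.SchurZassenhaus

/-!
# Lifting a commuting pair of elements of order prime to `p`
-/

set_option autoImplicit false

namespace CfsgLib.PPrimeCount

open scoped commutatorElement

universe u

variable {G : Type u} [Group G] [Finite G]

/-- Two elements of order prime to `p` commuting modulo `C⁅S,S⁆` may be moved inside their cosets to two
elements of order prime to `p` commuting modulo `C`. -/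
theorem exists_coprime_lift {p : ℕ} [Fact p.Prime] {C S T : Subgroup G} (hS : IsPGroup p ↥S) (hST : S ≤ T)
    (hTC : T ≤ Subgroup.normalizer (C : Set G)) (hTS : T ≤ Subgroup.normalizer (S : Set G)) {a b : G}
    (ha : a ∈ T) (hb : b ∈ T) (hao : ¬ p ∣ orderOf a) (hbo : ¬ p ∣ orderOf b)
    (hc : CommMod (C ⊔ ⁅S, S⁆) a b) :
    ∃ a' ∈ T, ∃ b' ∈ T, a * a'⁻¹ ∈ C ⊔ ⁅S, S⁆ ∧ b * b'⁻¹ ∈ C ⊔ ⁅S, S⁆ ∧ ¬ p ∣ orderOf a' ∧
      ¬ p ∣ orderOf b' ∧ CommMod C a' b' := by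
  classical
  have hTd : T ≤ Subgroup.normalizer ((C ⊔ ⁅S, S⁆ : Subgroup G) : Set G) := fun t ht =>
    Subgroup.mem_normalizer_fintype fun x hx => by
      obtain ⟨c, hc', s, hs, rfl⟩ := exists_mul_of_mem_sup ((commutator_le_self S).trans (hST.trans hTC)) hx
      rw [show t * (c * s) * t⁻¹ = t * c * t⁻¹ * (t * s * t⁻¹) by group]
      refine mul_mem (Subgroup.mem_sup_left (conj_mem_of_normalizer (hTC ht) hc')) (Subgroup.mem_sup_right ?_)
      have hle : ⁅S, S⁆ ≤ (⁅S, S⁆ : Subgroup G).comap (MulAut.conj t).toMonoidHom :=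
        Subgroup.commutator_le.mpr fun u hu v hv => by
          rw [Subgroup.mem_comap, map_commutatorElement]
          exact Subgroup.commutator_mem_commutator (conj_mem_of_normalizer (hTS ht) hu)
            (conj_mem_of_normalizer (hTS ht) hv)
      exact hle hs
  obtain ⟨W, hW⟩ : ∃ W, W = (C ⊔ ⁅S, S⁆) ⊓ T := ⟨_, rfl⟩
  obtain ⟨X, hX⟩ : ∃ X, X = W ⊔ Subgroup.closure ({a, b} : Set G) := ⟨_, rfl⟩
  have hWT : W ≤ T := hW ▸ inf_le_right
  have hclT : Subgroup.closure ({a, b} : Set G) ≤ T := by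
    rw [Subgroup.closure_le]; rintro z (rfl | rfl); exacts [ha, hb]
  have hXT : X ≤ T := hX ▸ sup_le hWT hclT
  have hWX : W ≤ X := hX ▸ le_sup_left
  have hXW : X ≤ Subgroup.normalizer (W : Set G) := fun t ht => Subgroup.mem_normalizer_fintype fun x hx => by
    subst hW
    exact Subgroup.mem_inf.mpr ⟨conj_mem_of_normalizer (hTd (hXT ht)) hx.1, mul_mem (mul_mem (hXT ht) hx.2) (inv_mem (hXT ht))⟩
  set W' := W.subgroupOf X with hW'
  set N0 := C.subgroupOf X with hN0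
  have hW'n : W'.Normal := ⟨fun m hm g => Subgroup.mem_subgroupOf.mpr
    (conj_mem_of_normalizer (hXW g.2) (Subgroup.mem_subgroupOf.mp hm))⟩
  have hN0n : N0.Normal := ⟨fun m hm g => Subgroup.mem_subgroupOf.mpr
    (conj_mem_of_normalizer (hTC (hXT g.2)) (Subgroup.mem_subgroupOf.mp hm))⟩
  have hN0W : N0 ≤ W' := fun x hx => Subgroup.mem_subgroupOf.mpr
    (hW ▸ ⟨Subgroup.mem_sup_left (Subgroup.mem_subgroupOf.mp hx), hXT x.2⟩)
  have haX : a ∈ X := hX ▸ Subgroup.mem_sup_right (Subgroup.subset_closure (Set.mem_insert a {b}))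
  have hbX : b ∈ X := hX ▸ Subgroup.mem_sup_right (Subgroup.subset_closure (Set.mem_insert_of_mem a rfl))
  have hWd : W ≤ C ⊔ ⁅S, S⁆ := hW ▸ inf_le_left
  -- `X / W` is abelian of order prime to `p`
  have hcl : ∀ x : ↥X, ∃ z : ↥X, (z : G) ∈ Subgroup.closure ({a, b} : Set G) ∧
      (x : ↥X ⧸ W') = (z : ↥X ⧸ W') := by
    intro x
    have hx : (x : G) ∈ W ⊔ Subgroup.closure ({a, b} : Set G) := hX ▸ x.2
    have hclW : Subgroup.closure ({a, b} : Set G) ≤ Subgroup.normalizer (W : Set G) :=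
      le_trans (hX ▸ le_sup_right) hXW
    obtain ⟨w, hw, z, hz, hwz⟩ := exists_mul_of_mem_sup hclW hx
    refine ⟨⟨z, hX ▸ Subgroup.mem_sup_right hz⟩, hz, ?_⟩
    rw [show x = ⟨w, hWX hw⟩ * ⟨z, hX ▸ Subgroup.mem_sup_right hz⟩ from Subtype.ext hwz, QuotientGroup.mk_mul,
      (QuotientGroup.eq_one_iff (N := W') _).mpr (Subgroup.mem_subgroupOf.mpr hw), one_mul]
  have hcomm : ∀ x y : ↥X ⧸ W', x * y = y * x := by
    intro x y
    induction x using QuotientGroup.induction_on with | _ x =>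
    induction y using QuotientGroup.induction_on with | _ y =>
    obtain ⟨x', hx', ex⟩ := hcl x
    obtain ⟨y', hy', ey⟩ := hcl y
    rw [ex, ey]
    have h1 : CommMod (C ⊔ ⁅S, S⁆) (x' : G) y' := commMod_of_mem_closure (hTd ha) (hTd hb) hc hx' hy'
    have h2 : x' * y' * x'⁻¹ * y'⁻¹ ∈ W' := Subgroup.mem_subgroupOf.mpr
      (hW ▸ ⟨h1, hXT (x' * y' * x'⁻¹ * y'⁻¹).2⟩)
    rw [← QuotientGroup.mk_mul, ← QuotientGroup.mk_mul,
      show x' * y' = (x' * y' * x'⁻¹ * y'⁻¹) * (y' * x') by group, QuotientGroup.mk_mul,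
      (QuotientGroup.eq_one_iff _).mpr h2, one_mul]
  have hpow : ∀ x : ↥X ⧸ W', x ^ (orderOf a * orderOf b) = 1 := by
    intro x
    induction x using QuotientGroup.induction_on with | _ x =>
    obtain ⟨⟨z, hzX⟩, hz, ex⟩ := hcl x
    rw [ex]
    clear ex x
    simp only at hz
    induction hz using Subgroup.closure_induction with
    | mem z hz =>
      rw [← QuotientGroup.mk_pow]
      convert QuotientGroup.mk_one W'
      rcases hz with rfl | rfl
      · simp [pow_mul, pow_orderOf_eq_one]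
      · simp [mul_comm (orderOf a), pow_mul, pow_orderOf_eq_one]
    | one => rw [show (⟨1, hzX⟩ : ↥X) = 1 from rfl, QuotientGroup.mk_one, one_pow]
    | mul u v hu hv ihu ihv =>
      have h1 : u ∈ X := hX ▸ Subgroup.mem_sup_right hu
      have h2 : v ∈ X := hX ▸ Subgroup.mem_sup_right hv
      rw [show (⟨u * v, hzX⟩ : ↥X) = ⟨u, h1⟩ * ⟨v, h2⟩ from rfl, QuotientGroup.mk_mul,
        Commute.mul_pow (hcomm _ _), ihu h1, ihv h2, one_mul]
    | inv u hu ihu =>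
      have h1 : u ∈ X := hX ▸ Subgroup.mem_sup_right hu
      rw [show (⟨u⁻¹, hzX⟩ : ↥X) = ⟨u, h1⟩⁻¹ from rfl, QuotientGroup.mk_inv, inv_pow, ihu h1, inv_one]
  have hm : ¬ p ∣ orderOf a * orderOf b := fun hd => ((Fact.out : p.Prime).dvd_mul.mp hd).elim hao hbo
  have hidxW : ¬ p ∣ W'.index := fun hd => by
    obtain ⟨x, hx⟩ := exists_prime_orderOf_dvd_card' (G := ↥X ⧸ W') p hd
    exact hm (hx ▸ orderOf_dvd_of_pow_eq_one (hpow x))
  -- the image of `W` in `X / (C ∩ X)` is a normal `p`-subgroup of index prime to `p`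
  set π := QuotientGroup.mk' N0
  have hπs : Function.Surjective π := QuotientGroup.mk'_surjective N0
  set Wq := W'.map π
  have : Wq.Normal := hW'n.map π hπs
  have hWqp : IsPGroup p ↥Wq := by
    rintro ⟨_, x, hx, rfl⟩
    have hxW : (x : G) ∈ W := Subgroup.mem_subgroupOf.mp hx
    obtain ⟨c, hc', s, hs, hcs⟩ :=
      exists_mul_of_mem_sup ((commutator_le_self S).trans (hST.trans hTC)) (hWd hxW)
    have hsT : s ∈ T := hST (commutator_le_self S hs)
    have hsX : s ∈ X := hWX (hW ▸ ⟨Subgroup.mem_sup_right hs, hsT⟩)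
    have hcX : c ∈ X := by
      have : c = x * s⁻¹ := by rw [hcs, mul_inv_cancel_right]
      rw [this]; exact mul_mem x.2 (inv_mem hsX)
    obtain ⟨e, he⟩ := hS ⟨s, commutator_le_self S hs⟩
    refine ⟨e, Subtype.ext ?_⟩
    have hπx : π x = π ⟨s, hsX⟩ := by
      rw [show x = ⟨c, hcX⟩ * ⟨s, hsX⟩ from Subtype.ext hcs, map_mul,
        show π ⟨c, hcX⟩ = 1 from (QuotientGroup.eq_one_iff _).mpr (Subgroup.mem_subgroupOf.mpr hc'), one_mul]
    rw [Subgroup.coe_pow, Subgroup.coe_one]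
    change π x ^ p ^ e = 1
    rw [hπx, ← map_pow, show (⟨s, hsX⟩ : ↥X) ^ p ^ e = 1 from
      Subtype.ext (by simpa using congrArg Subtype.val he), map_one]
  have hker : π.ker ≤ W' := by rw [QuotientGroup.ker_mk']; exact hN0W
  have hidx : Wq.index = W'.index := Subgroup.index_map_eq W' hπs hker
  obtain ⟨e, he⟩ := hWqp.exists_card_eq
  obtain ⟨Y, hY⟩ := Subgroup.exists_right_complement'_of_coprime (N := Wq)
    (by rw [he, hidx]; exact coprime_pow_of_not_dvd hidxW e)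
  have hYp : ¬ p ∣ Nat.card ↥Y := by
    rw [show Nat.card ↥Y = Wq.index from hY.symm.index_eq_card.symm, hidx]
    exact hidxW
  have hlift : ∀ x ∈ X, ∃ x' : ↥X, π x' ∈ Y ∧ x * (x' : G)⁻¹ ∈ W ∧ ¬ p ∣ orderOf (x' : G) := by
    intro x hx
    obtain ⟨⟨⟨w, hw⟩, ⟨y, hy⟩⟩, hwy⟩ := hY.2 (π ⟨x, hx⟩)
    change w * y = π ⟨x, hx⟩ at hwy
    obtain ⟨z, rfl⟩ := hπs y
    obtain ⟨i, j, e, m, hij, hi, hj, hm'⟩ := exists_p_part p z
    have h1 : π (z ^ i) = 1 := by
      have h2 : π (z ^ i) ^ Nat.gcd (p ^ e) (Nat.card ↥Y) = 1 := pow_gcd_eq_one.mpr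
        ⟨by rw [← map_pow, hi, map_one], congrArg (fun v : ↥Y => (v : ↥X ⧸ N0))
          (pow_card_eq_one' (x := (⟨π (z ^ i), (map_pow π z i).symm ▸ pow_mem hy i⟩ : ↥Y)))⟩
      rwa [(coprime_pow_of_not_dvd hYp e).gcd_eq_one, pow_one] at h2
    have hzj : π (z ^ j) = π z := by conv_rhs => rw [hij, map_mul, h1, one_mul]
    refine ⟨z ^ j, by rw [hzj]; exact hy, ?_, fun hd => hm' (hd.trans ?_)⟩
    · have h3 : π (⟨x, hx⟩ * (z ^ j)⁻¹) ∈ Wq := by
        rw [map_mul, map_inv, hzj, ← hwy, mul_inv_cancel_right]; exact hw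
      obtain ⟨w', hw', hww⟩ := h3
      have h4 : w'⁻¹ * (⟨x, hx⟩ * (z ^ j)⁻¹) ∈ N0 := QuotientGroup.eq.mp hww
      have h5 := mul_mem hw' (hN0W h4)
      rw [mul_inv_cancel_left] at h5
      exact Subgroup.mem_subgroupOf.mp h5
    · exact orderOf_dvd_of_pow_eq_one (by rw [← Subgroup.coe_pow, hj, Subgroup.coe_one])
  obtain ⟨a', haY, haW, hao'⟩ := hlift a haX
  obtain ⟨b', hbY, hbW, hbo'⟩ := hlift b hbX
  refine ⟨a', hXT a'.2, b', hXT b'.2, hWd haW, hWd hbW, hao', hbo', ?_⟩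
  have h1 : π (a' * b' * a'⁻¹ * b'⁻¹) ∈ Wq ⊓ Y := by
    refine Subgroup.mem_inf.mpr ⟨⟨a' * b' * a'⁻¹ * b'⁻¹, (QuotientGroup.eq_one_iff (N := W') _).mp ?_, rfl⟩, ?_⟩
    · simp only [QuotientGroup.mk_mul, QuotientGroup.mk_inv]
      rw [hcomm (a' : ↥X ⧸ W') (b' : ↥X ⧸ W'), mul_inv_cancel_right, mul_inv_cancel]
    · simp only [map_mul, map_inv]
      exact Y.mul_mem (Y.mul_mem (Y.mul_mem haY hbY) (Y.inv_mem haY)) (Y.inv_mem hbY)
  rw [hY.disjoint.eq_bot, Subgroup.mem_bot] at h1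
  exact Subgroup.mem_subgroupOf.mp ((QuotientGroup.eq_one_iff _).mp h1)

end CfsgLib.PPrimeCount
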