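import Cfsg.Agent.PPrimeCount.PairCentral
import Cfsg.Agent.Coprime.Generation

/-!
# Corresponding characters give the same scalars on pairs of elements of order prime to `p`
-/

set_option autoImplicit false

namespace CfsgLib.PPrimeCount

open Finset Cfsg
open GlaubermanCorr (InvBy Inv)
open scoped commutatorElement

universe u

variable {G : Type u} [Group G] [Fintype G] {p : ℕ} [Fact p.Prime]

omit [Fintype G] in
theorem mem_normalizer_of_le_comap [Finite G] {H : Subgroup G} {y : G}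
    (h : H ≤ H.comap (MulAut.conj y).toMonoidHom) : y ∈ Subgroup.normalizer (H : Set G) :=
  Subgroup.mem_normalizer_fintype fun n hn => h hn

omit [Fintype G] in
theorem mem_normalizer_sup_commutator [Finite G] {R S : Subgroup G} {y : G}
    (hR : y ∈ Subgroup.normalizer (R : Set G)) (hS : y ∈ Subgroup.normalizer (S : Set G)) :
    y ∈ Subgroup.normalizer ((R ⊔ ⁅S, S⁆ : Subgroup G) : Set G) := by
  refine mem_normalizer_of_le_comap (sup_le (fun r hr => ?_) ?_)
  · exact Subgroup.mem_sup_left (conj_mem_of_normalizer hR hr)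
  · refine Subgroup.commutator_le.mpr fun s hs t ht => Subgroup.mem_sup_right ?_
    rw [map_commutatorElement]
    exact Subgroup.commutator_mem_commutator (conj_mem_of_normalizer hS hs) (conj_mem_of_normalizer hS ht)

/-- When nothing invariant lies between the kernel and `S`, two elements of order prime to `p` act on
the quotient as powers of one. -/
theorem exists_cyclic_image {K L S C : Subgroup G} (h : Datum p K L S C) {a b : G}
    (haK : a ∈ Subgroup.normalizer (K : Set G)) (haL : a ∈ Subgroup.normalizer (L : Set G))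
    (haS : a ∈ Subgroup.normalizer (S : Set G)) (hbK : b ∈ Subgroup.normalizer (K : Set G))
    (hbL : b ∈ Subgroup.normalizer (L : Set G)) (hbS : b ∈ Subgroup.normalizer (S : Set G))
    (hao : ¬ p ∣ orderOf a) (hbo : ¬ p ∣ orderOf b) (hc : CommMod C a b) (hne : relCent S L K ≠ S)
    (hmin : ∀ R : Subgroup G, relCent S L K ≤ R → R ≤ S → S ≤ Subgroup.normalizer (R : Set G) →
      a ∈ Subgroup.normalizer (R : Set G) → b ∈ Subgroup.normalizer (R : Set G) →
      R = relCent S L K ∨ R = S) :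
    ∃ a0 ∈ Subgroup.closure {a, b}, ∃ i j : ℕ, ¬ p ∣ orderOf a0 ∧
      (∀ s ∈ S, s⁻¹ * (a * (a0 ^ i)⁻¹ * s * (a * (a0 ^ i)⁻¹)⁻¹) ∈ relCent S L K) ∧
      (∀ s ∈ S, s⁻¹ * (b * (a0 ^ j)⁻¹ * s * (b * (a0 ^ j)⁻¹)⁻¹) ∈ relCent S L K) := by
  classical
  obtain ⟨S0, hS0⟩ : ∃ R, R = relCent S L K := ⟨_, rfl⟩
  rw [← hS0] at hne hmin ⊢
  have hS0S : S0 ≤ S := hS0 ▸ relCent_le S L K
  have hSn : S ≤ Subgroup.normalizer (S0 : Set G) := fun s hs =>
    hS0 ▸ mem_normalizer_relCent (Subgroup.le_normalizer hs) (h.normLS hs) (h.normK hs)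
  have ha0 : a ∈ Subgroup.normalizer (S0 : Set G) := hS0 ▸ mem_normalizer_relCent haS haL haK
  have hb0 : b ∈ Subgroup.normalizer (S0 : Set G) := hS0 ▸ mem_normalizer_relCent hbS hbL hbK
  -- commutators of `S` lie in `S0`
  have hcomm : ⁅S, S⁆ ≤ S0 := by
    have hle : S0 ⊔ ⁅S, S⁆ ≤ S :=
      sup_le hS0S (Subgroup.commutator_le.mpr fun s hs t ht => by
        rw [commutatorElement_def]; exact mul_mem (mul_mem (mul_mem hs ht) (inv_mem hs)) (inv_mem ht))
    rcases hmin _ le_sup_left hle (fun s hs => mem_normalizer_sup_commutator (hSn hs) (Subgroup.le_normalizer hs))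
      (mem_normalizer_sup_commutator ha0 haS) (mem_normalizer_sup_commutator hb0 hbS) with hR | hR
    · exact hR ▸ le_sup_right
    · exact absurd hR (sup_commutator_ne h.pgroup hS0S hSn hne)
  obtain ⟨A, hA⟩ : ∃ A, A = Subgroup.closure ({a, b} : Set G) := ⟨_, rfl⟩
  rw [← hA]
  have hAS : A ≤ Subgroup.normalizer (S : Set G) := by
    rw [hA, Subgroup.closure_le]; rintro z (rfl | rfl); exacts [haS, hbS]
  have hA0 : A ≤ Subgroup.normalizer (S0 : Set G) := by
    rw [hA, Subgroup.closure_le]; rintro z (rfl | rfl); exacts [ha0, hb0]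
  set N := S0.subgroupOf S with hN
  have hNn : N.Normal := (Subgroup.normal_subgroupOf_iff_le_normalizer hS0S).mpr hSn
  have hmap : ∀ x : ↥A, Subgroup.map (GlaubermanCorr.conjSub hAS x : ↥S →* ↥S) N = N := by
    intro x
    refine Subgroup.eq_of_le_of_card_ge ?_ ?_
    · rintro _ ⟨n, hn, rfl⟩
      exact Subgroup.mem_subgroupOf.mpr (conj_mem_of_normalizer (hA0 x.2) (Subgroup.mem_subgroupOf.mp hn))
    · rw [Subgroup.card_map_of_injective (GlaubermanCorr.conjSub hAS x).injective]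
  let ρ : ↥A →* MulAut (↥S ⧸ N) :=
    { toFun := fun x => QuotientGroup.congr N N (GlaubermanCorr.conjSub hAS x) (hmap x)
      map_one' := MulEquiv.ext fun v => by
        induction v using QuotientGroup.induction_on with | _ s =>
        exact congrArg (QuotientGroup.mk' N) (Subtype.ext (show ((1 : ↥A) : G) * s * ((1 : ↥A) : G)⁻¹ = s by simp))
      map_mul' := fun x w => MulEquiv.ext fun v => by
        induction v using QuotientGroup.induction_on with | _ s =>
        exact congrArg (QuotientGroup.mk' N) (Subtype.ext (show ((x * w : ↥A) : G) * s * ((x * w : ↥A) : G)⁻¹ =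
            (x : G) * ((w : G) * s * (w : G)⁻¹) * (x : G)⁻¹ by rw [Subgroup.coe_mul]; group)) }
  have hρ : ∀ (x : ↥A) (s : ↥S), ρ x (s : ↥S ⧸ N) = ((GlaubermanCorr.conjSub hAS x s : ↥S) : ↥S ⧸ N) :=
    fun _ _ => rfl
  have htriv : ∀ x : ↥A, ρ x = 1 → ∀ s ∈ S, s⁻¹ * ((x : G) * s * (x : G)⁻¹) ∈ S0 := by
    intro x hx s hs
    have h1 := DFunLike.congr_fun hx (((⟨s, hs⟩ : ↥S)) : ↥S ⧸ N)
    rw [hρ, MulAut.one_apply] at h1
    exact Subgroup.mem_subgroupOf.mp (QuotientGroup.eq.mp h1.symm)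
  have haA : a ∈ A := hA ▸ Subgroup.subset_closure (Set.mem_insert a {b})
  have hbA : b ∈ A := hA ▸ Subgroup.subset_closure (Set.mem_insert_of_mem a rfl)
  have haC := h.mem_normalizer haK haL haS
  have hbC := h.mem_normalizer hbK hbL hbS
  -- the image is abelian
  have hab : ∀ x w : ↥A, ρ x * ρ w = ρ w * ρ x := by
    intro x w
    rw [← map_mul, ← map_mul]
    have hzC : ((x * w * x⁻¹ * w⁻¹ : ↥A) : G) ∈ C :=
      commMod_of_mem_closure haC hbC hc (hA.le x.2) (hA.le w.2)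
    have hz : ρ (x * w * x⁻¹ * w⁻¹) = 1 := MulEquiv.ext fun v => by
      induction v using QuotientGroup.induction_on with | _ s =>
      rw [hρ, MulAut.one_apply]
      refine (QuotientGroup.eq.mpr ?_).symm
      refine Subgroup.mem_subgroupOf.mpr ?_
      rw [Subgroup.coe_mul, Subgroup.coe_inv, GlaubermanCorr.conjSub_coe]
      generalize hzd : ((x * w * x⁻¹ * w⁻¹ : ↥A) : G) = z at hzC ⊢
      have hzS : z * (s : G) * z⁻¹ ∈ S := conj_mem_of_normalizer (hAS (hzd ▸ (x * w * x⁻¹ * w⁻¹).2)) s.2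
      have h1 : (s : G)⁻¹ * (z * (s : G) * z⁻¹) ∈ L := by
        have := inv_conj_mem (h.normLS s.2) (inv_mem (((h.mem_C z).mp hzC).2 s s.2))
        convert this using 1
        group
      have h2 : (s : G)⁻¹ * (z * (s : G) * z⁻¹) ∈ S := mul_mem (inv_mem s.2) hzS
      rw [hS0]
      exact ⟨h2, h.normLS h2, fun k hk => mul_mem (conj_mem_of_normalizer (h.normL hk) h1) (inv_mem h1)⟩
    have : x * w = (x * w * x⁻¹ * w⁻¹) * (w * x) := by group
    rw [this, map_mul, hz, one_mul]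
  letI : CommGroup ↥ρ.range :=
    { (inferInstance : Group ↥ρ.range) with
      mul_comm := by rintro ⟨_, x, rfl⟩ ⟨_, w, rfl⟩; exact Subtype.ext (hab x w) }
  -- its exponent is prime to `p`
  have hpow : ∀ x : ↥A, ρ x ^ (orderOf a * orderOf b) = 1 := by
    rintro ⟨x, hx⟩
    have hx' : x ∈ Subgroup.closure ({a, b} : Set G) := hA ▸ hx
    induction hx' using Subgroup.closure_induction with
    | mem z hz =>
      rw [← map_pow]
      rcases hz with rfl | rfl
      · convert map_one ρ; exact Subtype.ext (by simp [pow_mul, pow_orderOf_eq_one])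
      · convert map_one ρ; exact Subtype.ext (by simp [mul_comm (orderOf a), pow_mul, pow_orderOf_eq_one])
    | one => rw [show (⟨1, hx⟩ : ↥A) = 1 from rfl, map_one, one_pow]
    | mul u v hu hv ihu ihv =>
      have h1 := hA ▸ hu
      have h2 := hA ▸ hv
      rw [show (⟨u * v, hx⟩ : ↥A) = ⟨u, h1⟩ * ⟨v, h2⟩ from rfl, map_mul,
        Commute.mul_pow (hab ⟨u, h1⟩ ⟨v, h2⟩), ihu h1, ihv h2, one_mul]
    | inv u hu ihu =>
      have h1 := hA ▸ hu
      rw [show (⟨u⁻¹, hx⟩ : ↥A) = ⟨u, h1⟩⁻¹ from rfl, map_inv, inv_pow, ihu h1, inv_one]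
  have hm : ¬ p ∣ orderOf a * orderOf b := fun hd => ((Fact.out : p.Prime).dvd_mul.mp hd).elim hao hbo
  -- nontrivial elements fix only the identity
  have hfix : ∀ x : ↥ρ.range, x ≠ 1 → ∀ v : ↥S ⧸ N, x • v = v → v = 1 := by
    rintro ⟨_, x, rfl⟩ hx1 v hv
    let W : Subgroup (↥S ⧸ N) :=
      { carrier := {v | ρ x v = v}
        mul_mem' := fun {u w} (hu : ρ x u = u) (hw : ρ x w = w) =>
          show ρ x (u * w) = u * w by rw [map_mul, hu, hw]
        one_mem' := map_one (ρ x)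
        inv_mem' := fun {u} (hu : ρ x u = u) => show ρ x u⁻¹ = u⁻¹ by rw [map_inv, hu] }
    let R : Subgroup G := (W.comap (QuotientGroup.mk' N)).map S.subtype
    have hRS : R ≤ S := Subgroup.map_subtype_le _
    have hR0 : S0 ≤ R := fun t ht => ⟨⟨t, hS0S ht⟩, by
      change ρ x (((⟨t, hS0S ht⟩ : ↥S)) : ↥S ⧸ N) = (((⟨t, hS0S ht⟩ : ↥S)) : ↥S ⧸ N)
      rw [(QuotientGroup.eq_one_iff (N := N) _).mpr (Subgroup.mem_subgroupOf.mpr ht), map_one], rfl⟩
    have hRn : S ≤ Subgroup.normalizer (R : Set G) := fun s hs => Subgroup.mem_normalizer_fintype fun r hr => by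
      have h1 : ⁅s, r⁆ ∈ R := hR0 (hcomm (Subgroup.commutator_mem_commutator hs (hRS hr)))
      have := mul_mem h1 hr
      rw [commutatorElement_def, inv_mul_cancel_right] at this
      exact this
    have hRA : ∀ w : ↥A, (w : G) ∈ Subgroup.normalizer (R : Set G) := by
      intro w
      refine Subgroup.mem_normalizer_fintype fun r hr => ?_
      obtain ⟨r', (hr' : ρ x (r' : ↥S ⧸ N) = _), rfl⟩ := hr
      refine ⟨GlaubermanCorr.conjSub hAS w r', ?_, GlaubermanCorr.conjSub_coe hAS w r'⟩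
      change ρ x ((GlaubermanCorr.conjSub hAS w r' : ↥S) : ↥S ⧸ N) = _
      rw [← hρ, ← MulAut.mul_apply, hab, MulAut.mul_apply]
      exact (congrArg (ρ w) hr').trans (hρ w r')
    rcases hmin R hR0 hRS hRn (hRA ⟨a, haA⟩) (hRA ⟨b, hbA⟩) with hR | hR
    · induction v using QuotientGroup.induction_on with | _ s =>
      have hs : (s : G) ∈ R := ⟨s, hv, rfl⟩
      rw [hR] at hs
      exact (QuotientGroup.eq_one_iff _).mpr (Subgroup.mem_subgroupOf.mpr hs)
    · refine absurd (Subtype.ext (MulEquiv.ext fun u => ?_)) hx1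
      induction u using QuotientGroup.induction_on with | _ s =>
      obtain ⟨s', (hs' : ρ x (s' : ↥S ⧸ N) = _), he⟩ := hR.ge s.2
      rw [Subtype.ext he] at hs'
      exact hs'
  -- so it is cyclic
  have hcyc : IsCyclic ↥ρ.range := by
    by_contra hnc
    have hcard : (Nat.card ↥ρ.range).Coprime (Nat.card (↥S ⧸ N)) := by
      obtain ⟨e, he⟩ := (h.pgroup.to_quotient N).exists_card_eq
      rw [he]
      refine Nat.Coprime.pow_right e (((Fact.out : p.Prime).coprime_iff_not_dvd.mpr fun hd => ?_).symm)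
      obtain ⟨⟨_, x, rfl⟩, hx⟩ := exists_prime_orderOf_dvd_card' p hd
      refine hm (hx ▸ orderOf_dvd_of_pow_eq_one (Subtype.ext ?_))
      exact hpow x
    have htop := CfsgLib.Coprime.closure_fixed_eq_top hnc hcard
    apply hne
    refine le_antisymm hS0S fun s hs => ?_
    have hmem : (((⟨s, hs⟩ : ↥S)) : ↥S ⧸ N) ∈ (⊥ : Subgroup (↥S ⧸ N)) := by
      have := htop.ge (Subgroup.mem_top (((⟨s, hs⟩ : ↥S)) : ↥S ⧸ N))
      refine (Subgroup.closure_le _).mpr ?_ this
      rintro v ⟨x, hx, hxv⟩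
      exact hfix x hx v hxv
    exact Subgroup.mem_subgroupOf.mp ((QuotientGroup.eq_one_iff _).mp (Subgroup.mem_bot.mp hmem))
  obtain ⟨⟨_, w, rfl⟩, hgen⟩ := hcyc.exists_generator
  obtain ⟨i, j, e, m, hij, hi, hj, hm'⟩ := exists_p_part p w
  have hwi : ρ (w ^ i) = 1 := by
    have h3 : ρ (w ^ i) ^ Nat.gcd (p ^ e) (orderOf a * orderOf b) = 1 :=
      pow_gcd_eq_one.mpr ⟨by rw [← map_pow, hi, map_one], hpow _⟩
    rwa [(coprime_pow_of_not_dvd hm e).gcd_eq_one, pow_one] at h3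
  have hwj : ρ (w ^ j) = ρ w := by
    conv_rhs => rw [hij, map_mul, hwi, one_mul]
  have hpowers : ∀ x : ↥A, ∃ k : ℕ, ρ x = ρ (w ^ j) ^ k := by
    intro x
    obtain ⟨k, hk⟩ := mem_powers_iff_mem_zpowers.mpr (hgen ⟨ρ x, x, rfl⟩)
    exact ⟨k, by rw [hwj]; exact (congrArg Subtype.val hk).symm⟩
  obtain ⟨ka, hka⟩ := hpowers ⟨a, haA⟩
  obtain ⟨kb, hkb⟩ := hpowers ⟨b, hbA⟩
  refine ⟨((w ^ j : ↥A) : G), (w ^ j).2, ka, kb, fun hd => hm' (hd.trans ?_), ?_, ?_⟩
  · exact orderOf_dvd_of_pow_eq_one (by rw [← Subgroup.coe_pow, hj, Subgroup.coe_one])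
  · exact htriv (⟨a, haA⟩ * ((w ^ j) ^ ka)⁻¹) (by rw [map_mul, map_inv, map_pow, ← hka, mul_inv_cancel])
  · exact htriv (⟨b, hbA⟩ * ((w ^ j) ^ kb)⁻¹) (by rw [map_mul, map_inv, map_pow, ← hkb, mul_inv_cancel])

theorem commScalar_pair_aux (n : ℕ) : ∀ {K L S C : Subgroup G}, (relCent S L K).relIndex S = n →
    Datum p K L S C → ∀ {θ : ↥K → ℂ}, IsIrrCharacter ↥K θ → Inv K S θ →
    ∀ {φ : ↥C → ℂ}, IsIrrCharacter ↥C φ → Inv C S φ → Rel p K C θ φ →
    ∀ {a b : G}, a ∈ stab K θ → b ∈ stab K θ →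
    a ∈ Subgroup.normalizer (L : Set G) → a ∈ Subgroup.normalizer (S : Set G) →
    b ∈ Subgroup.normalizer (L : Set G) → b ∈ Subgroup.normalizer (S : Set G) →
    ¬ p ∣ orderOf a → ¬ p ∣ orderOf b → CommMod C a b →
    commScalar K θ a b = commScalar C φ a b := by
  classical
  induction n using Nat.strong_induction_on with | _ n ih =>
  intro K L S C hn h θ hθ hθS φ hφ hφS hr a b ha hb haL haS hbL hbS hao hbo hc
  by_cases hfull : relCent S L K = S
  · have hCK : C = K := le_antisymm h.C_le fun k hk => (h.mem_C k).mpr ⟨hk, fun s hs => by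
      have := inv_mem ((hfull.ge hs).2.2 k hk)
      convert this using 1
      group⟩
    subst hCK
    rw [h.rel_unique hθ hθS hθ hθS hφ hφS (rel_self hθ) hr]
  have hS0S := relCent_le S L K
  have hne0 : ∀ A B : Subgroup G, A.relIndex B ≠ 0 := fun A B =>
    Subgroup.index_ne_zero_of_finite (H := A.subgroupOf B)
  have hpos : ∀ {A B : Subgroup G}, A ≤ B → A ≠ B → 2 ≤ A.relIndex B := fun {A B} hle hne => by
    have h1 : A.relIndex B ≠ 1 := fun h => hne (le_antisymm hle (Subgroup.relIndex_eq_one.mp h))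
    have h2 : A.relIndex B ≠ 0 := hne0 A B
    omega
  by_cases hR : ∃ R : Subgroup G, relCent S L K ≤ R ∧ R ≤ S ∧ R ≠ relCent S L K ∧ R ≠ S ∧
      S ≤ Subgroup.normalizer (R : Set G) ∧ a ∈ Subgroup.normalizer (R : Set G) ∧
      b ∈ Subgroup.normalizer (R : Set G)
  · obtain ⟨R, hR0, hRS, hRne, hRneS, hRn, haR, hbR⟩ := hR
    have h1 : Datum p K L R (relCent K L R) :=
      ⟨h.pgroup.to_le hRS, h.le, h.normL, hRS.trans h.normLS, hRS.trans h.normK, h.not_dvd, rfl⟩
    obtain ⟨C1, hC1⟩ : ∃ C1, C1 = relCent K L R := ⟨_, rfl⟩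
    rw [← hC1] at h1
    have hθR : Inv K R θ := fun s hs => hθS s (hRS hs)
    obtain ⟨θ1, hθ1, hθ1R, hr1⟩ := h1.exists_rel hθ hθR
    have hnorm1 : ∀ {y : G}, y ∈ stab K θ → y ∈ Subgroup.normalizer (L : Set G) →
        y ∈ Subgroup.normalizer (R : Set G) → y ∈ stab C1 θ1 := fun hy hyL hyR =>
      ⟨h1.mem_normalizer hy.1 hyL hyR, (h1.invBy_of_rel hθ hθR hθ1 hθ1R hr1 hy.1 hyL hyR).mp hy.2⟩
    have hθ1S : Inv C1 S θ1 := fun s hs =>
      (hnorm1 ⟨h.normK hs, hθS s hs⟩ (h.normLS hs) (hRn hs)).2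
    have hCC1 : C ≤ C1 := fun c hc' => (h1.mem_C c).mpr
      ⟨h.C_le hc', fun s hs => ((h.mem_C c).mp hc').2 s (hRS hs)⟩
    have h2 : Datum p C1 L S C := by
      refine ⟨h.pgroup, h1.L_le_C, h1.C_le.trans h.normL, h.normLS, fun s hs =>
        h1.mem_normalizer (h.normK hs) (h.normLS hs) (hRn hs), fun hd => h.not_dvd ?_, ?_⟩
      · rw [← Subgroup.relIndex_mul_relIndex L C1 K h1.L_le_C h1.C_le]
        exact hd.mul_right _
      · refine le_antisymm (fun c hc' => ?_) (fun c hc' => (h.mem_C c).mpr ⟨h1.C_le hc'.1, hc'.2.2⟩)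
        exact ⟨hCC1 hc', h.normL (h.C_le hc'), ((h.mem_C c).mp hc').2⟩
    have hr2 : Rel p C1 C θ1 φ := by
      obtain ⟨ψ, hψS, hψ1, hψ2⟩ := exists_intermediate h.pgroup hCC1 h1.C_le h.normK h2.normK h.normC
        ⟨θ, hθ⟩ ⟨φ, hφ⟩ hθS hφS hr
      rwa [h1.rel_unique hθ hθR hθ1 hθ1R ψ.2 (fun s hs => hψS s (hRS hs)) hr1 hψ1]
    have hmeas1 : (relCent R L K).relIndex R < n := by
      have he : relCent R L K = relCent S L K :=
        le_antisymm (fun t ht => ⟨hRS ht.1, ht.2⟩) (fun t ht => ⟨hR0 ht, ht.2⟩)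
      rw [he, ← hn, ← Subgroup.relIndex_mul_relIndex _ R S hR0 hRS]
      exact lt_mul_of_one_lt_right (Nat.pos_of_ne_zero (hne0 _ _)) (hpos hRS hRneS)
    have hmeas2 : (relCent S L C1).relIndex S < n := by
      have hle : R ≤ relCent S L C1 := fun t ht => ⟨hRS ht, h.normLS (hRS ht), fun k hk => by
        have := inv_mem (((h1.mem_C k).mp hk).2 t ht)
        convert this using 1
        group⟩
      rw [← hn, ← Subgroup.relIndex_mul_relIndex _ R S hR0 hRS]
      calc (relCent S L C1).relIndex S ≤ R.relIndex S := by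
            rw [← Subgroup.relIndex_mul_relIndex R _ S hle (relCent_le _ _ _)]
            exact Nat.le_mul_of_pos_left _ (Nat.pos_of_ne_zero (hne0 _ _))
        _ < _ := lt_mul_of_one_lt_left (Nat.pos_of_ne_zero (hne0 _ _)) (hpos hR0 (Ne.symm hRne))
    rw [ih _ hmeas1 rfl h1 hθ hθR hθ1 hθ1R hr1 ha hb haL haR hbL hbR hao hbo (hc.mono hCC1),
      ih _ hmeas2 rfl h2 hθ1 hθ1S hφ hφS hr2 (hnorm1 ha haL haR) (hnorm1 hb hbL hbR) haL haS hbL hbS hao hbo hc]
  push Not at hR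
  obtain ⟨a0, ha0, i, j, ha0o, hai, hbj⟩ := exists_cyclic_image h ha.1 haL haS hb.1 hbL hbS hao hbo hc hfull
    (fun R h0 h1 h2 h3 h4 => by
      by_contra hne
      rw [not_or] at hne
      exact hR R h0 h1 hne.1 hne.2 h2 h3 h4)
  have haC := h.mem_normalizer ha.1 haL haS
  have hbC := h.mem_normalizer hb.1 hbL hbS
  have haφ : a ∈ stab C φ := ⟨haC, (h.invBy_of_rel hθ hθS hφ hφS hr ha.1 haL haS).mp ha.2⟩
  have hbφ : b ∈ stab C φ := ⟨hbC, (h.invBy_of_rel hθ hθS hφ hφS hr hb.1 hbL hbS).mp hb.2⟩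
  have hclθ : Subgroup.closure ({a, b} : Set G) ≤ stab K θ ⊓ stab C φ := by
    rw [Subgroup.closure_le]; rintro z (rfl | rfl); exacts [⟨ha, haφ⟩, ⟨hb, hbφ⟩]
  have hclL : Subgroup.closure ({a, b} : Set G) ≤
      Subgroup.normalizer (L : Set G) ⊓ Subgroup.normalizer (S : Set G) := by
    rw [Subgroup.closure_le]; rintro z (rfl | rfl); exacts [⟨haL, haS⟩, ⟨hbL, hbS⟩]
  have hcm : ∀ {x z : G}, x ∈ Subgroup.closure ({a, b} : Set G) → z ∈ Subgroup.closure ({a, b} : Set G) →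
      CommMod C x z := fun hx hz => commMod_of_mem_closure haC hbC hc hx hz
  have haA : a ∈ Subgroup.closure ({a, b} : Set G) := Subgroup.subset_closure (Set.mem_insert a {b})
  have hbA : b ∈ Subgroup.closure ({a, b} : Set G) := Subgroup.subset_closure (Set.mem_insert_of_mem a rfl)
  set y1 := a * (a0 ^ i)⁻¹ with hy1
  set y2 := b * (a0 ^ j)⁻¹ with hy2
  have hy1A : y1 ∈ Subgroup.closure ({a, b} : Set G) := mul_mem haA (inv_mem (pow_mem ha0 i))
  have hy2A : y2 ∈ Subgroup.closure ({a, b} : Set G) := mul_mem hbA (inv_mem (pow_mem ha0 j))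
  have e1 : a = y1 * a0 ^ i := by rw [hy1, inv_mul_cancel_right]
  have e2 : b = y2 * a0 ^ j := by rw [hy2, inv_mul_cancel_right]
  have hio : ¬ p ∣ orderOf (a0 ^ i) := fun hd => ha0o (hd.trans (orderOf_pow_dvd i))
  have key : ∀ {H : Subgroup G} {χ : ↥H → ℂ}, IsIrrCharacter ↥H χ →
      Subgroup.closure ({a, b} : Set G) ≤ stab H χ → C ≤ H →
      commScalar H χ a b =
        commScalar H χ y1 b * starRingEnd ℂ (commScalar H χ y2 (a0 ^ i)) := by
    intro H χ hχ hst hCH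
    have hm : ∀ {x z : G}, x ∈ Subgroup.closure ({a, b} : Set G) → z ∈ Subgroup.closure ({a, b} : Set G) →
        CommMod H x z := fun hx hz => (hcm hx hz).mono hCH
    have hs := hst ha0
    conv_lhs => rw [e1]
    rw [commScalar_mul_left hχ (hst hy1A) (pow_mem hs i) (hst hbA) (hm hy1A hbA) (hm (pow_mem ha0 i) hbA)]
    congr 1
    conv_lhs => rw [e2]
    rw [commScalar_mul_right hχ (pow_mem hs i) (hst hy2A) (pow_mem hs j) (hm (pow_mem ha0 i) hy2A)
      (hm (pow_mem ha0 i) (pow_mem ha0 j)), commScalar_pow_left hχ hs (pow_mem hs j) (hm ha0 (pow_mem ha0 j)),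
      commScalar_pow_right hχ hs hs (commMod_self H a0), commScalar_self hχ hs, one_pow, one_pow, mul_one,
      ← commScalar_swap hχ y2 (a0 ^ i)]
  rw [key hθ (hclθ.trans inf_le_left) h.C_le, key hφ (hclθ.trans inf_le_right) le_rfl,
    commScalar_pair_central h hθ hθS hφ hφS hr (hclθ hy1A).1 hb (hclL hy1A).1 (hclL hy1A).2 hbL hbS hbo hai
      (hcm hy1A hbA),
    commScalar_pair_central h hθ hθS hφ hφS hr (hclθ hy2A).1 (pow_mem (hclθ ha0).1 i) (hclL hy2A).1
      (hclL hy2A).2 (pow_mem (hclL ha0).1 i) (pow_mem (hclL ha0).2 i) hio hbj (hcm hy2A (pow_mem ha0 i))]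

/-- Corresponding characters give the same scalar to two elements of order prime to `p`. -/
theorem commScalar_pair {K L S C : Subgroup G} (h : Datum p K L S C) {θ : ↥K → ℂ}
    (hθ : IsIrrCharacter ↥K θ) (hθS : Inv K S θ) {φ : ↥C → ℂ} (hφ : IsIrrCharacter ↥C φ)
    (hφS : Inv C S φ) (hr : Rel p K C θ φ) {a b : G} (ha : a ∈ stab K θ) (hb : b ∈ stab K θ)
    (haL : a ∈ Subgroup.normalizer (L : Set G)) (haS : a ∈ Subgroup.normalizer (S : Set G))
    (hbL : b ∈ Subgroup.normalizer (L : Set G)) (hbS : b ∈ Subgroup.normalizer (S : Set G))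
    (hao : ¬ p ∣ orderOf a) (hbo : ¬ p ∣ orderOf b) (hc : CommMod C a b) :
    commScalar K θ a b = commScalar C φ a b :=
  commScalar_pair_aux _ rfl h hθ hθS hφ hφS hr ha hb haL haS hbL hbS hao hbo hc

end CfsgLib.PPrimeCount
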