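import Cfsg.Agent.PPrimeCount.ExtendP

/-!
# Extendibility to `MS` and the degree condition pass through the correspondence
-/

set_option autoImplicit false

namespace CfsgLib.PPrimeCount

open Finset Cfsg
open scoped ComplexConjugate
open GlaubermanCorr (InvBy Inv)

universe u

variable {G : Type u} [Group G] [Fintype G] {p : ℕ} [Fact p.Prime] {K L S C : Subgroup G}

theorem Datum.inf_le (h : Datum p K L S C) : K ⊓ S ≤ L := fun x hx => by
  obtain ⟨e, he⟩ := h.pgroup ⟨x, hx.2⟩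
  exact GlaubermanCorr.mem_of_pow_eq_one (fun k hk q hq => conj_mem_of_normalizer (h.normL hk) hq)
    h.not_dvd hx.1 (congrArg Subtype.val he)

theorem Datum.mem_C_of_mem_sup (h : Datum p K L S C) {x : G} (hx : x ∈ C ⊔ S) (hxK : x ∈ K) : x ∈ C := by
  obtain ⟨c, hc, s, hs, rfl⟩ := exists_mul_of_mem_sup h.normC hx
  have hsK : s ∈ K := by simpa using mul_mem (inv_mem (h.C_le hc)) hxK
  exact mul_mem hc (h.L_le_C (h.inf_le ⟨hsK, hs⟩))

open scoped Classical in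
/-- An extension of `φ` to `CS` gives one of `θ` to `KS`. -/
theorem Datum.exists_extension_up (h : Datum p K L S C) {θ : ↥K → ℂ} (hθ : IsIrrCharacter ↥K θ)
    (hθS : Inv K S θ) {φ : ↥C → ℂ} (hr : Rel p K C θ φ)
    {ψ : ↥(C ⊔ S) → ℂ} (hψ : IsIrrCharacter ↥(C ⊔ S) ψ) (hres : res C ψ = φ) :
    ∃ η : ↥(K ⊔ S) → ℂ, IsIrrCharacter ↥(K ⊔ S) η ∧ res K η = θ := by
  have hC : C ≤ C ⊔ S := le_sup_left
  have hK : K ≤ K ⊔ S := le_sup_left
  have hle : C ⊔ S ≤ K ⊔ S := sup_le_sup_right h.C_le S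
  have hnK : ∀ x ∈ K ⊔ S, ∀ k ∈ K, x * k * x⁻¹ ∈ K := fun x hx k hk =>
    conj_mem_of_normalizer (sup_le_normalizer_left h.normK hx) hk
  have hinvK : Inv K (K ⊔ S) θ := fun x hx =>
    ((sup_le (fun k hk => ⟨Subgroup.le_normalizer hk, GlaubermanCorr.inv_of_isClassFunction_mem hk
        (CfsgLib.Char.IsIrrCharacter.isClassFunction hθ)⟩)
      (fun s hs => ⟨h.normK hs, hθS s hs⟩) : K ⊔ S ≤
        { carrier := {g | g ∈ Subgroup.normalizer (K : Set G) ∧ InvBy K g θ}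
          mul_mem' := fun {a b} ha hb => ⟨mul_mem ha.1 hb.1, fun k k' e => by
            rw [ha.2 ⟨_, conj_mem_of_normalizer hb.1 k.2⟩ k' (by rw [e]; simp [mul_assoc]),
              hb.2 k ⟨_, conj_mem_of_normalizer hb.1 k.2⟩ rfl]⟩
          one_mem' := ⟨one_mem _, fun k k' e => congrArg θ (Subtype.ext (by simpa using e))⟩
          inv_mem' := fun {a} ha =>
            ⟨inv_mem ha.1, fun k k' e => (ha.2 k' k (by rw [e]; simp [mul_assoc])).symm⟩ }) hx).2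
  have := subgroupOf_normal_of_conj hnK
  let e : ↥(K.subgroupOf (K ⊔ S)) ≃* ↥K := Subgroup.subgroupOfEquivOfLe hK
  let θe : ↥(K.subgroupOf (K ⊔ S)) → ℂ := fun n => θ (e n)
  have hθe : IsIrrCharacter ↥(K.subgroupOf (K ⊔ S)) θe :=
    CfsgLib.Char.IsIrrCharacter.comp_surjective hθ e.toMonoidHom e.surjective
  have hI := CfsgLib.Char.IsCharacter.indFun (G := ↥(K ⊔ S)) (CfsgLib.Char.IsIrrCharacter.isCharacter hθe)
  have := Fintype.ofFinite (IrrCharacter ↥(K ⊔ S))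
  choose a ha using fun χ : IrrCharacter ↥(K ⊔ S) =>
    CfsgLib.Char.IsCharacter.exists_classInner_eq_natCast'
      (isCharacter_res hle (CfsgLib.Char.IsIrrCharacter.isCharacter χ.2))
      (CfsgLib.Char.IsIrrCharacter.isCharacter hψ)
  choose b hb using fun χ : IrrCharacter ↥(K ⊔ S) =>
    CfsgLib.Char.IsCharacter.exists_classInner_eq_natCast
      (isCharacter_res hK (CfsgLib.Char.IsIrrCharacter.isCharacter χ.2)) hθ
  have hcoef : ∀ χ : IrrCharacter ↥(K ⊔ S),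
      classInner (indFun (K.subgroupOf (K ⊔ S)) θe) (χ : ↥(K ⊔ S) → ℂ) = (b χ : ℂ) := by
    intro χ
    rw [CfsgLib.Char.classInner_indFun θe (CfsgLib.Char.IsIrrCharacter.isClassFunction χ.2),
      ← CfsgLib.Char.classInner_conj, ← Complex.conj_natCast (b χ), ← hb χ,
      ← GlaubermanCorr.classInner_comp_equiv e (res K (χ : ↥(K ⊔ S) → ℂ)) θ]
    congr 2
    exact funext fun n => (res_apply (χ : ↥(K ⊔ S) → ℂ) (e n) (n : ↥(K ⊔ S)).2).symm
  have hsum : classInner (res (C ⊔ S) (indFun (K.subgroupOf (K ⊔ S)) θe)) ψ =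
      ∑ χ : IrrCharacter ↥(K ⊔ S), ((b χ * a χ : ℕ) : ℂ) := by
    have hexp : indFun (K.subgroupOf (K ⊔ S)) θe = fun x => ∑ χ : IrrCharacter ↥(K ⊔ S),
        (b χ : ℂ) * (χ : ↥(K ⊔ S) → ℂ) x := by
      funext x
      have h1 := congrFun (CfsgLib.Char.eq_sum_irr (CfsgLib.Char.IsCharacter.isClassFunction hI)) x
      rw [Finset.sum_subtype (CfsgLib.Char.irrFinset ↥(K ⊔ S)) (fun _ => CfsgLib.Char.mem_irrFinset)] at h1
      simp only [Finset.sum_apply, Pi.smul_apply, smul_eq_mul] at h1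
      rw [h1]
      exact Finset.sum_congr rfl fun χ _ => by rw [← hcoef χ]
    rw [hexp]
    have h2 : res (C ⊔ S) (fun x => ∑ χ : IrrCharacter ↥(K ⊔ S), (b χ : ℂ) * (χ : ↥(K ⊔ S) → ℂ) x) =
        ∑ χ : IrrCharacter ↥(K ⊔ S), (b χ : ℂ) • res (C ⊔ S) (χ : ↥(K ⊔ S) → ℂ) := funext fun x => by
      rw [res_apply _ x (hle x.2), Finset.sum_apply]
      exact Finset.sum_congr rfl fun χ _ => by
        rw [Pi.smul_apply, smul_eq_mul, res_apply _ x (hle x.2)]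
    rw [h2, CfsgLib.Char.classInner_sum_left]
    exact Finset.sum_congr rfl fun χ _ => by
      rw [CfsgLib.Char.classInner_smul_left, ha, Nat.cast_mul]
  have hcards : Nat.card ↥(K ⊔ S) * Nat.card ↥C = Nat.card ↥K * Nat.card ↥(C ⊔ S) := by
    have h1 := CfsgLib.Solvable.card_sup_mul_card_inf (A := S) (K := K) h.normK
    have h2 := CfsgLib.Solvable.card_sup_mul_card_inf (A := S) (K := C) h.normC
    rw [sup_comm] at h1 h2
    have hinf : S ⊓ K = S ⊓ C := le_antisymm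
      (fun x hx => ⟨hx.1, h.L_le_C (h.inf_le ⟨hx.2, hx.1⟩)⟩) (inf_le_inf_left _ h.C_le)
    rw [hinf] at h1
    apply Nat.eq_of_mul_eq_mul_left (Nat.card_pos (α := ↥(S ⊓ C)))
    calc Nat.card ↥(S ⊓ C) * (Nat.card ↥(K ⊔ S) * Nat.card ↥C)
        = (Nat.card ↥(K ⊔ S) * Nat.card ↥(S ⊓ C)) * Nat.card ↥C := by ring
      _ = Nat.card ↥K * (Nat.card ↥S * Nat.card ↥C) := by rw [h1]; ring
      _ = _ := by rw [← h2]; ring
  have hval : ∀ x : ↥(C ⊔ S), res (C ⊔ S) (indFun (K.subgroupOf (K ⊔ S)) θe) x =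
      if hx : (x : G) ∈ C then
        (Nat.card ↥(K ⊔ S) : ℂ) / (Nat.card ↥K : ℂ) * θ ⟨x, h.C_le hx⟩ else 0 := by
    intro x
    rw [res_apply _ x (hle x.2)]
    split_ifs with hx
    · have hxn : (⟨x, hle x.2⟩ : ↥(K ⊔ S)) ∈ K.subgroupOf (K ⊔ S) := Subgroup.mem_subgroupOf.mpr (h.C_le hx)
      refine (CfsgLib.Char.indFun_apply_normal θe ⟨_, hxn⟩).trans ?_
      rw [Finset.sum_congr rfl (g := fun _ => θ ⟨x, h.C_le hx⟩) (fun (y : ↥(K ⊔ S)) _ => hinvK y y.2 _ _ rfl),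
        Finset.sum_const, Finset.card_univ, ← Nat.card_eq_fintype_card, nsmul_eq_mul,
        Nat.card_congr (Subgroup.subgroupOfEquivOfLe hK).toEquiv]
      ring
    · exact CfsgLib.Char.indFun_eq_zero_of_normal θe fun hxn =>
        hx (h.mem_C_of_mem_sup x.2 (Subgroup.mem_subgroupOf.mp hxn))
  have hlhs : classInner (res (C ⊔ S) (indFun (K.subgroupOf (K ⊔ S)) θe)) ψ = classInner (res C θ) φ := by
    have hnum : (Nat.card ↥(C ⊔ S) : ℂ) * classInner (res (C ⊔ S) (indFun (K.subgroupOf (K ⊔ S)) θe)) ψ =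
        (Nat.card ↥(K ⊔ S) : ℂ) / (Nat.card ↥K : ℂ) * ((Nat.card ↥C : ℂ) * classInner (res C θ) φ) := by
      rw [← CfsgLib.Char.sum_eq_card_mul_classInner, ← CfsgLib.Char.sum_eq_card_mul_classInner, Finset.mul_sum]
      symm
      refine Finset.sum_bij_ne_zero (fun (c : ↥C) _ _ => (⟨(c : G), hC c.2⟩ : ↥(C ⊔ S)))
        (fun _ _ _ => Finset.mem_univ _)
        (fun a _ _ b _ _ e => Subtype.ext (show (a : G) = b from congrArg (fun w : ↥(C ⊔ S) => (w : G)) e))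
        (fun x _ hx => ?_) (fun c _ _ => ?_)
      · have hxC : (x : G) ∈ C := by
          by_contra hn
          exact hx (by rw [hval, dif_neg hn, zero_mul])
        refine ⟨⟨x, hxC⟩, Finset.mem_univ _, ?_, rfl⟩
        rw [hval, dif_pos hxC] at hx
        rw [res_apply θ ⟨(x : G), hxC⟩ (h.C_le hxC), ← hres, res_apply ψ ⟨(x : G), hxC⟩ x.2, ← mul_assoc]
        exact hx
      · rw [hval, dif_pos c.2, res_apply θ c (h.C_le c.2), ← hres, res_apply ψ c (hC c.2)]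
        ring
    have h0 : (Nat.card ↥(C ⊔ S) : ℂ) ≠ 0 := by simp
    have h1 : (Nat.card ↥K : ℂ) ≠ 0 := by simp
    apply mul_left_cancel₀ h0
    rw [hnum, ← mul_assoc, div_mul_eq_mul_div,
      show (Nat.card ↥(K ⊔ S) : ℂ) * (Nat.card ↥C : ℂ) = (Nat.card ↥K : ℂ) * (Nat.card ↥(C ⊔ S) : ℂ) by
        exact_mod_cast hcards,
      mul_div_cancel_left₀ _ h1]
  obtain ⟨m, hm, hm0⟩ := rel_iff.mp hr
  rw [← hlhs, hsum, ← Nat.cast_sum, Nat.cast_inj] at hm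
  rw [← hm, Nat.cast_sum] at hm0
  obtain ⟨χ, -, hχ⟩ := Finset.exists_ne_zero_of_sum_ne_zero hm0
  rw [Nat.cast_mul] at hχ
  obtain ⟨i, hi⟩ := relIndex_sup_dvd_pow h.pgroup h.normK
  exact ⟨_, χ.2, res_eq_of_rel_pIndex hK hnK hi χ.2 hθ hinvK (rel_iff.mpr ⟨b χ, hb χ, left_ne_zero_of_mul hχ⟩)⟩

open scoped Classical in
/-- An extension of `θ` to `KS` gives one of `φ` to `CS`. -/
theorem Datum.exists_extension_down (h : Datum p K L S C) {θ : ↥K → ℂ}
    {φ : ↥C → ℂ} (hφ : IsIrrCharacter ↥C φ) (hφS : Inv C S φ) (hr : Rel p K C θ φ)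
    {η : ↥(K ⊔ S) → ℂ} (hη : IsIrrCharacter ↥(K ⊔ S) η) (hres : res K η = θ) :
    ∃ ψ : ↥(C ⊔ S) → ℂ, IsIrrCharacter ↥(C ⊔ S) ψ ∧ res C ψ = φ := by
  have hle : C ⊔ S ≤ K ⊔ S := sup_le_sup_right h.C_le S
  have hC : C ≤ C ⊔ S := le_sup_left
  have hr' : Rel p (K ⊔ S) C η φ := by
    rw [← hres] at hr
    rw [rel_iff] at hr ⊢
    obtain ⟨m, hm, hm0⟩ := hr
    exact ⟨m, by rwa [res_res h.C_le le_sup_left] at hm, hm0⟩
  obtain ⟨ψ, -, -, hψφ⟩ := exists_intermediate (S := (⊥ : Subgroup G)) IsPGroup.of_bot hC hle bot_le bot_le bot_le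
    ⟨η, hη⟩ ⟨φ, hφ⟩ (fun y hy k k' e => congrArg η (Subtype.ext (by rw [Subgroup.mem_bot.mp hy] at e; simpa using e)))
    (fun y hy k k' e => congrArg φ (Subtype.ext (by rw [Subgroup.mem_bot.mp hy] at e; simpa using e))) hr'
  have hnC : ∀ x ∈ C ⊔ S, ∀ c ∈ C, x * c * x⁻¹ ∈ C := fun x hx c hc =>
    conj_mem_of_normalizer (sup_le_normalizer_left h.normC hx) hc
  have hinvC : Inv C (C ⊔ S) φ := by
    intro x hx k k' e
    obtain ⟨c, hc, s, hs, rfl⟩ := exists_mul_of_mem_sup h.normC hx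
    have hm : s * (k : G) * s⁻¹ ∈ C := conj_mem_of_normalizer (h.normC hs) k.2
    rw [show k' = ⟨c, hc⟩ * ⟨_, hm⟩ * ⟨c, hc⟩⁻¹ from Subtype.ext (by simp [e, mul_assoc]),
      CfsgLib.Char.IsIrrCharacter.isClassFunction hφ, hφS s hs k ⟨_, hm⟩ rfl]
  obtain ⟨i, hi⟩ := relIndex_sup_dvd_pow h.pgroup h.normC
  exact ⟨_, ψ.2, res_eq_of_rel_pIndex hC hnC hi ψ.2 hφ hinvC hψφ⟩

open scoped Classical in
/-- Corresponding characters have degree prime to `p` together. -/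
theorem Datum.not_dvd_degree_iff (h : Datum p K L S C) {θ : ↥K → ℂ} (hθ : IsIrrCharacter ↥K θ)
    (hθS : Inv K S θ) {φ : ↥C → ℂ} (hφ : IsIrrCharacter ↥C φ) (hφS : Inv C S φ) (hr : Rel p K C θ φ) :
    ¬ p ∣ charDegree θ ↔ ¬ p ∣ charDegree φ := by
  obtain ⟨m, hm, hm0⟩ := rel_iff.mp hr
  rw [res_eq h.C_le] at hm
  have h1 := GlaubermanCorr.degree_congr (p := p) h.pgroup (fun y hy k hk => conj_mem_of_normalizer (h.normK hy) hk)
    (fun y hy k hk => conj_mem_of_normalizer (h.normC hy) hk) h.C_le ⟨θ, hθ⟩ hθS ⟨φ, hφ⟩ hφS (fun ξ hξ hne => by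
      obtain ⟨n, hn⟩ := CfsgLib.Char.IsCharacter.exists_classInner_eq_natCast
        (isCharacter_res h.C_le (CfsgLib.Char.IsIrrCharacter.isCharacter hθ)) ξ.2
      refine ⟨n, by rw [← res_eq h.C_le]; exact hn, ?_⟩
      by_contra hn0
      exact hne (Subtype.ext (h.rel_unique hθ hθS ξ.2 hξ hφ hφS (rel_iff.mpr ⟨n, hn, hn0⟩) hr))) m hm
  rw [← ZMod.natCast_eq_zero_iff, ← ZMod.natCast_eq_zero_iff, h1, mul_eq_zero, or_iff_right hm0]

end CfsgLib.PPrimeCount
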