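import Cfsg.Agent.PPrimeCount.CoreLemmas
import Cfsg.Agent.PPrimeCount.Transfer
import Cfsg.Agent.PPrimeCount.Lift
import Cfsg.Agent.PPrimeCount.Pair

/-!
# The count is the same on both sides of the correspondence
-/

set_option autoImplicit false

namespace CfsgLib.PPrimeCount

open Finset Cfsg
open scoped commutatorElement
open GlaubermanCorr (InvBy Inv)

universe u

variable {G : Type u} [Group G] [Fintype G] {p : ℕ} [Fact p.Prime]

open scoped Classical in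
/-- With `H = K N_H(S)`, corresponding characters `θ` of `K` and `φ` of `C` have as many characters of
degree prime to `p` above them in `H` as in `C N_H(S)`. -/
theorem pCount_eq_core {K L S C H : Subgroup G} (h : Datum p K L S C) (hKH : K ≤ H) (hSH : S ≤ H)
    (hsyl : ¬ p ∣ S.relIndex H) (hnK : ∀ x ∈ H, ∀ k ∈ K, x * k * x⁻¹ ∈ K)
    (hnL : ∀ x ∈ H, ∀ l ∈ L, x * l * x⁻¹ ∈ L)
    (htop : ∀ x ∈ H, ∃ k ∈ K, ∃ t ∈ H ⊓ Subgroup.normalizer (S : Set G), x = k * t)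
    {θ : ↥K → ℂ} (hθ : IsIrrCharacter ↥K θ) (hθH : Inv K H θ) {φ : ↥C → ℂ} (hφ : IsIrrCharacter ↥C φ)
    (hφS : Inv C S φ) (hr : Rel p K C θ φ) :
    pCount p H K θ = pCount p (C ⊔ H ⊓ Subgroup.normalizer (S : Set G)) C φ := by
  obtain ⟨T, hT⟩ : ∃ T, T = H ⊓ Subgroup.normalizer (S : Set G) := ⟨_, rfl⟩
  rw [← hT] at htop ⊢
  have hTH : T ≤ H := hT ▸ inf_le_left
  have hTS : T ≤ Subgroup.normalizer (S : Set G) := hT ▸ inf_le_right
  have hST : S ≤ T := hT ▸ le_inf hSH Subgroup.le_normalizer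
  have hTK : T ≤ Subgroup.normalizer (K : Set G) := fun t ht => Subgroup.mem_normalizer_fintype (hnK t (hTH ht))
  have hTL : T ≤ Subgroup.normalizer (L : Set G) := fun t ht => Subgroup.mem_normalizer_fintype (hnL t (hTH ht))
  have hTC : T ≤ Subgroup.normalizer (C : Set G) := fun t ht => h.mem_normalizer (hTK ht) (hTL ht) (hTS ht)
  have hθS : Inv K S θ := fun s hs => hθH s (hSH hs)
  have hφT : Inv C T φ := fun t ht =>
    (h.invBy_of_rel hθ hθS hφ hφS hr (hTK ht) (hTL ht) (hTS ht)).mp (hθH t (hTH ht))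
  obtain ⟨J, hJ⟩ : ∃ J, J = C ⊔ T := ⟨_, rfl⟩
  rw [← hJ]
  have hCJ : C ≤ J := hJ ▸ le_sup_left
  have hTJ : T ≤ J := hJ ▸ le_sup_right
  have hJH : J ≤ H := hJ ▸ sup_le (h.C_le.trans hKH) hTH
  have htopJ : ∀ x ∈ J, ∃ c ∈ C, ∃ t ∈ T, x = c * t := fun x hx => exists_mul_of_mem_sup hTC (hJ ▸ hx)
  have hnC : ∀ x ∈ J, ∀ c ∈ C, x * c * x⁻¹ ∈ C := fun x hx c hc =>
    conj_mem_of_normalizer (sup_le_normalizer_left hTC (hJ ▸ hx)) hc
  have hφJ : Inv C J φ := by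
    intro x hx k k' e
    obtain ⟨c, hc, t, ht, rfl⟩ := htopJ x hx
    have hm : t * (k : G) * t⁻¹ ∈ C := conj_mem_of_normalizer (hTC ht) k.2
    rw [show k' = ⟨c, hc⟩ * ⟨_, hm⟩ * ⟨c, hc⟩⁻¹ from Subtype.ext (by simp [e, mul_assoc]),
      CfsgLib.Char.IsIrrCharacter.isClassFunction hφ, hφT t ht k ⟨_, hm⟩ rfl]
  have hsylJ : ¬ p ∣ S.relIndex J := fun hd => hsyl (by
    rw [← Subgroup.relIndex_mul_relIndex S J H (hST.trans hTJ) hJH]
    exact hd.mul_right _)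
  have hnPK : ∀ x ∈ H, ∀ y ∈ K ⊔ S, x * y * x⁻¹ ∈ K ⊔ S := by
    intro x hx y hy
    obtain ⟨k, hk, t, ht, rfl⟩ := htop x hx
    rw [show k * t * y * (k * t)⁻¹ = k * (t * y * t⁻¹) * k⁻¹ by group]
    exact mul_mem (mul_mem (Subgroup.mem_sup_left hk) (conj_mem_sup_left (hTK ht) (hTS ht) hy))
      (inv_mem (Subgroup.mem_sup_left hk))
  have hnPC : ∀ x ∈ J, ∀ y ∈ C ⊔ S, x * y * x⁻¹ ∈ C ⊔ S := by
    intro x hx y hy
    obtain ⟨c, hc, t, ht, rfl⟩ := htopJ x hx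
    rw [show c * t * y * (c * t)⁻¹ = c * (t * y * t⁻¹) * c⁻¹ by group]
    exact mul_mem (mul_mem (Subgroup.mem_sup_left hc) (conj_mem_sup_left (hTC ht) (hTS ht) hy))
      (inv_mem (Subgroup.mem_sup_left hc))
  have hdeg := h.not_dvd_degree_iff hθ hθS hφ hφS hr
  by_cases hext : ¬ p ∣ charDegree θ ∧ ∃ η : ↥(K ⊔ S) → ℂ, IsIrrCharacter ↥(K ⊔ S) η ∧ res K η = θ
  swap
  · rw [pCount_eq_zero h.pgroup hKH hSH hnK hnPK hθ hθH (by
        by_contra hc; push Not at hc; exact hext hc),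
      pCount_eq_zero h.pgroup hCJ (hST.trans hTJ) hnC hnPC hφ hφJ (by
        by_contra hc
        push Not at hc
        obtain ⟨hd, ψ, hψ, hψres⟩ := hc
        exact hext ⟨hdeg.mpr hd, h.exists_extension_up hθ hθS hr hψ hψres⟩)]
  obtain ⟨hdθ, η, hη, hηres⟩ := hext
  obtain ⟨ψ, hψ, hψres⟩ := h.exists_extension_down hφ hφS hr hη hηres
  have hf1 := pCount_formula h.pgroup hKH hST hTH hTS hnK hsyl htop hθ hθH hdθ hη hηres
  have hf2 := pCount_formula h.pgroup hCJ hST hTJ hTS hnC hsylJ htopJ hφ hφJ (hdeg.mp hdθ) hψ hψres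
  obtain ⟨-, hinvK⟩ := inv_res_extension h.normK hnK hTS hTH htop hθ hθH hη hηres
  obtain ⟨-, hinvC⟩ := inv_res_extension h.normC hnC hTS hTJ htopJ hφ hφJ hψ hψres
  obtain ⟨Kd, hKd⟩ : ∃ Kd, Kd = K ⊔ ⁅S, S⁆ := ⟨_, rfl⟩
  obtain ⟨Cd, hCd⟩ : ∃ Cd, Cd = C ⊔ ⁅S, S⁆ := ⟨_, rfl⟩
  rw [← hKd] at hf1 hinvK
  rw [← hCd] at hf2 hinvC
  have hCdKd : Cd ≤ Kd := hCd ▸ hKd ▸ sup_le_sup_right h.C_le _
  have hKdP : Kd ≤ K ⊔ S := hKd ▸ sup_le_sup_left (commutator_le_self S) K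
  have hCdP : Cd ≤ C ⊔ S := hCd ▸ sup_le_sup_left (commutator_le_self S) C
  have hθ1 : IsIrrCharacter ↥Kd (res Kd η) :=
    isIrrCharacter_res_of_res (hKd ▸ le_sup_left) hKdP (CfsgLib.Char.IsIrrCharacter.isCharacter hη) hθ hηres
  have hφ1 : IsIrrCharacter ↥Cd (res Cd ψ) :=
    isIrrCharacter_res_of_res (hCd ▸ le_sup_left) hCdP (CfsgLib.Char.IsIrrCharacter.isCharacter hψ) hφ hψres
  have hinter : Kd ⊓ T = Cd ⊓ T := by
    refine le_antisymm (fun x hx => ?_) (inf_le_inf_right T hCdKd)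
    obtain ⟨hxd, hxT⟩ := Subgroup.mem_inf.mp hx
    obtain ⟨k, hk, s, hs, rfl⟩ := exists_mul_of_mem_sup ((commutator_le_self S).trans h.normK) (hKd ▸ hxd)
    refine Subgroup.mem_inf.mpr ⟨hCd ▸ mul_mem (Subgroup.mem_sup_left ?_) (Subgroup.mem_sup_right hs), hxT⟩
    have hkT : k ∈ T := by simpa using mul_mem hxT (inv_mem (hST (commutator_le_self S hs)))
    refine (h.mem_C k).mpr ⟨hk, fun u hu => h.inf_le (Subgroup.mem_inf.mpr ⟨?_, ?_⟩)⟩
    · exact mul_mem (conj_mem_of_normalizer (h.normK hu) hk) (inv_mem hk)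
    · rw [show u * k * u⁻¹ * k⁻¹ = u * (k * u⁻¹ * k⁻¹) by group]
      exact mul_mem hu (conj_mem_of_normalizer (hTS hkT) (inv_mem hu))
  have hiff : ∀ t t' : ↥T, CommMod Kd (t : G) t' ↔ CommMod Cd (t : G) t' := fun t t' =>
    ⟨fun hc => (Subgroup.mem_inf.mp (hinter.le (Subgroup.mem_inf.mpr
      ⟨hc, mul_mem (mul_mem (mul_mem t.2 t'.2) (inv_mem t.2)) (inv_mem t'.2)⟩))).1, fun hc => hc.mono hCdKd⟩
  have hTKd : T ≤ stab Kd (res Kd η) := fun t ht => ⟨Subgroup.mem_normalizer_fintype fun x hx =>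
    hKd ▸ conj_mem_sup_left (hTK ht) (mem_normalizer_commutator (hTS ht)) (hKd ▸ hx), hinvK t (hTH ht)⟩
  have hTCd : T ≤ stab Cd (res Cd ψ) := fun t ht => ⟨Subgroup.mem_normalizer_fintype fun x hx =>
    hCd ▸ conj_mem_sup_left (hTC ht) (mem_normalizer_commutator (hTS ht)) (hCd ▸ hx), hinvC t (hTJ ht)⟩
  have hPK : K ⊔ S ≤ Subgroup.normalizer (Kd : Set G) :=
    sup_le ((hKd ▸ le_sup_left : K ≤ Kd).trans Subgroup.le_normalizer) (fun s hs => (hTKd (hST hs)).1)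
  have hPC : C ⊔ S ≤ Subgroup.normalizer (Cd : Set G) :=
    sup_le ((hCd ▸ le_sup_left : C ≤ Cd).trans Subgroup.le_normalizer) (fun s hs => (hTCd (hST hs)).1)
  have hval : ∀ t t' : ↥T, CommMod Cd (t : G) t' →
      commScalar Kd (res Kd η) (t : G) t' = commScalar Cd (res Cd ψ) (t : G) t' := by
    rintro ⟨t, ht⟩ ⟨t', ht'⟩ hc
    obtain ⟨i, j, e, m, h1, hi, hj, hm⟩ := exists_p_part p t
    obtain ⟨i', j', e', m', h1', hi', hj', hm'⟩ := exists_p_part p t'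
    have hmemS : ∀ (x : G) (a : ℕ), x ∈ T → x ^ p ^ a = 1 → x ∈ S := fun x a hxT hxa => by
      refine GlaubermanCorr.mem_of_pow_eq_one (fun k hk q hq => conj_mem_of_normalizer (hTS hk) hq) ?_ hxT hxa
      intro hd
      exact hsylJ (by rw [← Subgroup.relIndex_mul_relIndex S T J hST hTJ]; exact hd.mul_right _)
    have hti : t ^ i ∈ S := hmemS _ e (pow_mem ht i) hi
    have hti' : t' ^ i' ∈ S := hmemS _ e' (pow_mem ht' i') hi'
    rw [commScalar_eq_pPrimePart hθ1 hKdP hPK hη rfl (hTKd ht) (hTKd ht') (hc.mono hCdKd) h1 hi hj hm h1' hi'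
        hj' hm' (Subgroup.mem_sup_right hti) (Subgroup.mem_sup_right hti'),
      commScalar_eq_pPrimePart hφ1 hCdP hPC hψ rfl (hTCd ht) (hTCd ht') hc h1 hi hj hm h1' hi'
        hj' hm' (Subgroup.mem_sup_right hti) (Subgroup.mem_sup_right hti')]
    have hcj : CommMod Cd (t ^ j) (t' ^ j') := (hc.pow_left (hTCd ht).1 j).pow_right (hTCd ht').1 j'
    subst hKd hCd
    obtain ⟨a, haT, b, hbT, haW, hbW, hao, hbo, hab⟩ := exists_coprime_lift h.pgroup hST hTC hTS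
      (pow_mem ht j) (pow_mem ht' j') (fun hd => hm (hd.trans (orderOf_dvd_of_pow_eq_one hj)))
      (fun hd => hm' (hd.trans (orderOf_dvd_of_pow_eq_one hj'))) hcj
    have ea : t ^ j = (t ^ j * a⁻¹) * a := by rw [inv_mul_cancel_right]
    have eb : t' ^ j' = (t' ^ j' * b⁻¹) * b := by rw [inv_mul_cancel_right]
    have hsK : ∀ x ∈ T, x ∈ stab K θ := fun x hx => ⟨hTK hx, hθH x (hTH hx)⟩
    have hsC : ∀ x ∈ T, x ∈ stab C φ := fun x hx => ⟨hTC hx, hφT x hx⟩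
    have hrK : res K (res (K ⊔ ⁅S, S⁆) η) = θ := by rw [res_res le_sup_left hKdP, hηres]
    have hrC : res C (res (C ⊔ ⁅S, S⁆) ψ) = φ := by rw [res_res le_sup_left hCdP, hψres]
    rw [ea, eb, commScalar_coset_left (hCdKd haW), commScalar_coset_right (hCdKd hbW),
      commScalar_coset_left haW, commScalar_coset_right hbW,
      commScalar_mono hθ le_sup_left hθ1 hrK (hsK a haT) (hsK b hbT) (hTKd haT) (hTKd hbT) (hab.mono h.C_le),
      commScalar_mono hφ le_sup_left hφ1 hrC (hsC a haT) (hsC b hbT) (hTCd haT) (hTCd hbT) hab]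
    exact commScalar_pair h hθ hθS hφ hφS hr (hsK a haT) (hsK b hbT) (hTL haT) (hTS haT) (hTL hbT) (hTS hbT)
      hao hbo hab
  have hsum : (∑ t : ↥T, ∑ t' : ↥T, if CommMod Kd (t : G) t' then commScalar Kd (res Kd η) (t : G) t' else 0) =
      ∑ t : ↥T, ∑ t' : ↥T, if CommMod Cd (t : G) t' then commScalar Cd (res Cd ψ) (t : G) t' else 0 :=
    Finset.sum_congr rfl fun t _ => Finset.sum_congr rfl fun t' _ => by
      by_cases hc : CommMod Cd (t : G) t'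
      · rw [if_pos hc, if_pos ((hiff t t').mpr hc), hval t t' hc]
      · rw [if_neg hc, if_neg fun hK => hc ((hiff t t').mp hK)]
  rw [hsum, ← hf2, hinter] at hf1
  exact_mod_cast mul_right_cancel₀ (mul_ne_zero (Nat.cast_ne_zero.mpr Nat.card_pos.ne')
    (Nat.cast_ne_zero.mpr Nat.card_pos.ne')) hf1

end CfsgLib.PPrimeCount
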