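import Cfsg.Agent.PPrimeCount.Over
import Cfsg.Agent.PPrimeCount.Comm
import Cfsg.Agent.Char.ClassProducts

/-!
# The number of characters over an invariant character, from pairs of elements
-/

set_option autoImplicit false

namespace CfsgLib.PPrimeCount

open Finset Cfsg
open scoped ComplexConjugate
open GlaubermanCorr (InvBy Inv)

universe u

variable {G : Type u} [Group G] [Fintype G]

open scoped Classical in
/-- The sum over all pairs of the conjugate values at commutators. -/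
theorem sum_lift0_commutator {M H : Subgroup G} (hMH : M ≤ H)
    (hn : ∀ h ∈ H, ∀ m ∈ M, h * m * h⁻¹ ∈ M) {θ : ↥M → ℂ} (hθ : IsIrrCharacter ↥M θ) (hinv : Inv M H θ) :
    ∑ g : ↥H, ∑ h : ↥H, conj (lift0 M θ ((g : G) * h * (g : G)⁻¹ * (h : G)⁻¹)) =
      (Nat.card ↥H : ℂ) * (Nat.card ↥M : ℂ) / θ 1 *
        (Nat.card {χ : IrrCharacter ↥H // classInner (res M (χ : ↥H → ℂ)) θ ≠ 0} : ℂ) := by
  have := Fintype.ofFinite (IrrCharacter ↥H)
  let F : ↥H → ℂ := fun z => (Nat.card {q : ↥H × ↥H // z = q.1 * q.2 * q.1⁻¹ * q.2⁻¹} : ℂ)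
  have hF : ∀ z : ↥H, F z =
      (Nat.card ↥H : ℂ) * ∑ χ ∈ CfsgLib.Char.irrFinset ↥H, χ z / χ 1 := fun z => by
    have h1 := congrArg conj (CfsgLib.Char.card_commutator_pairs z)
    rw [map_mul, Complex.conj_natCast, Complex.conj_natCast, Complex.conj_conj] at h1
    exact h1
  have hL : ∑ g : ↥H, ∑ h : ↥H, conj (lift0 M θ ((g : G) * h * (g : G)⁻¹ * (h : G)⁻¹)) =
      ∑ z : ↥H, F z * conj (lift0 M θ (z : G)) := by
    rw [← Finset.sum_product']
    rw [← Finset.sum_fiberwise_of_maps_to (g := fun q : ↥H × ↥H => q.1 * q.2 * q.1⁻¹ * q.2⁻¹)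
      (t := Finset.univ) (fun _ _ => Finset.mem_univ _)]
    refine Finset.sum_congr rfl fun z _ => ?_
    rw [Finset.sum_congr rfl (g := fun _ => conj (lift0 M θ (z : G))) (fun q hq => by
      rw [← (Finset.mem_filter.mp hq).2]
      rfl), Finset.sum_const, nsmul_eq_mul]
    congr 1
    simp only [F]
    rw [← Nat.card_eq_finsetCard]
    congr 1
    exact Nat.card_congr (Equiv.subtypeEquivRight fun q => by simp [eq_comm])
  have hinner : ∀ χ : ↥H → ℂ, ∑ z : ↥H, χ z * conj (lift0 M θ (z : G)) =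
      (Nat.card ↥M : ℂ) * classInner (res M χ) θ := by
    intro χ
    rw [← CfsgLib.Char.sum_eq_card_mul_classInner]
    symm
    refine Finset.sum_bij_ne_zero (fun (m : ↥M) _ _ => (⟨(m : G), hMH m.2⟩ : ↥H)) (fun _ _ _ => Finset.mem_univ _)
      (fun a _ _ b _ _ e => Subtype.ext (show (a : G) = b from congrArg (fun w : ↥H => (w : G)) e)) (fun z _ hz => ?_) (fun m _ _ => ?_)
    · have hzM : (z : G) ∈ M := by
        by_contra h
        exact hz (by rw [lift0, dif_neg h, map_zero, mul_zero])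
      refine ⟨⟨z, hzM⟩, Finset.mem_univ _, ?_, rfl⟩
      rw [res_apply χ ⟨(z : G), hzM⟩ z.2, ← lift0_coe θ ⟨(z : G), hzM⟩]
      exact hz
    · rw [res_apply χ m (hMH m.2), lift0_coe]
  rw [hL]
  simp only [hF, mul_assoc, Finset.sum_mul]
  rw [← Finset.mul_sum, Finset.sum_comm]
  have hterm : ∀ χ ∈ CfsgLib.Char.irrFinset ↥H, (∑ z : ↥H, χ z / χ 1 * conj (lift0 M θ (z : G))) =
      if classInner (res M χ) θ ≠ 0 then (Nat.card ↥M : ℂ) / θ 1 else 0 := by
    intro χ hχ
    rw [CfsgLib.Char.mem_irrFinset] at hχ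
    simp only [div_mul_eq_mul_div]
    rw [← Finset.sum_div, hinner]
    split_ifs with h
    · rw [apply_one_eq_mult_mul hMH hn hχ hθ hinv h]
      have := CfsgLib.Char.IsIrrCharacter.apply_one_ne_zero hθ
      field_simp
    · rw [not_not] at h
      rw [h, mul_zero, zero_div]
  rw [Finset.sum_congr rfl hterm, ← Finset.sum_filter, Finset.sum_const, nsmul_eq_mul]
  have hcard : ((CfsgLib.Char.irrFinset ↥H).filter fun χ => classInner (res M χ) θ ≠ 0).card =
      Nat.card {χ : IrrCharacter ↥H // classInner (res M (χ : ↥H → ℂ)) θ ≠ 0} := by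
    rw [← Nat.card_eq_finsetCard]
    exact Nat.card_congr
      { toFun := fun χ => ⟨⟨χ.1, CfsgLib.Char.mem_irrFinset.mp (Finset.mem_filter.mp χ.2).1⟩,
          (Finset.mem_filter.mp χ.2).2⟩
        invFun := fun χ => ⟨χ.1.1, Finset.mem_filter.mpr ⟨CfsgLib.Char.mem_irrFinset.mpr χ.1.2, χ.2⟩⟩
        left_inv := fun _ => rfl
        right_inv := fun _ => rfl }
  rw [hcard]
  ring

open scoped Classical in
/-- The count of the characters of `H = M T` over the invariant `θ` as a sum over pairs in `T`. -/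
theorem card_over_formula {M H T : Subgroup G} (hMH : M ≤ H)
    (hn : ∀ h ∈ H, ∀ m ∈ M, h * m * h⁻¹ ∈ M) {θ : ↥M → ℂ} (hθ : IsIrrCharacter ↥M θ) (hinv : Inv M H θ)
    (hTH : T ≤ H) (htop : ∀ h ∈ H, ∃ m ∈ M, ∃ t ∈ T, h = m * t) :
    (Nat.card {χ : IrrCharacter ↥H // classInner (res M (χ : ↥H → ℂ)) θ ≠ 0} : ℂ) *
        ((Nat.card ↥T : ℂ) * (Nat.card ↥(M ⊓ T) : ℂ)) =
      ∑ t : ↥T, ∑ t' : ↥T, if CommMod M (t : G) t' then commScalar M θ (t : G) t' else 0 := by
  let f : G → G → ℂ := fun g h => conj (lift0 M θ (g * h * g⁻¹ * h⁻¹))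
  let π : ↥M × ↥T → ↥H := fun q => ⟨(q.1 : G) * q.2, mul_mem (hMH q.1.2) (hTH q.2.2)⟩
  have hfib : ∀ z : ↥H, (Finset.univ.filter fun q => π q = z).card = Nat.card ↥(M ⊓ T) := by
    intro z
    obtain ⟨m, hm, t, ht, hz⟩ := htop z z.2
    rw [← Nat.card_eq_finsetCard]
    let e : ↥(M ⊓ T) ≃ {q // q ∈ Finset.univ.filter fun q : ↥M × ↥T => π q = z} :=
      { toFun := fun u => ⟨((⟨m * (u : G), mul_mem hm u.2.1⟩ : ↥M), (⟨(u : G)⁻¹ * t, mul_mem (inv_mem u.2.2) ht⟩ : ↥T)),
          Finset.mem_filter.mpr ⟨Finset.mem_univ _, Subtype.ext (by simp [π, hz, mul_assoc])⟩⟩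
        invFun := fun q => ⟨m⁻¹ * (q.1.1 : G), by
          have h : (q.1.1 : G) * q.1.2 = m * t := (congrArg Subtype.val (Finset.mem_filter.mp q.2).2).trans hz
          have h' : m⁻¹ * (q.1.1 : G) = t * (q.1.2 : G)⁻¹ := by
            rw [eq_mul_inv_iff_mul_eq, mul_assoc, h, inv_mul_cancel_left]
          exact Subgroup.mem_inf.mpr ⟨mul_mem (inv_mem hm) q.1.1.2, h' ▸ mul_mem ht (inv_mem q.1.2.2)⟩⟩
        left_inv := fun u => Subtype.ext (by simp)
        right_inv := fun q => by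
          have h : (q.1.1 : G) * q.1.2 = m * t := (congrArg Subtype.val (Finset.mem_filter.mp q.2).2).trans hz
          refine Subtype.ext (Prod.ext (Subtype.ext (by simp)) (Subtype.ext ?_))
          simp only [mul_inv_rev, inv_inv, mul_assoc]
          rw [← h, inv_mul_cancel_left] }
    exact (Nat.card_congr e).symm
  have hπ : ∀ F : ↥H → ℂ, ∑ q : ↥M × ↥T, F (π q) = (Nat.card ↥(M ⊓ T) : ℂ) * ∑ z, F z := by
    intro F
    rw [← Finset.sum_fiberwise_of_maps_to (g := π) (t := Finset.univ) (fun _ _ => Finset.mem_univ _),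
      Finset.mul_sum]
    refine Finset.sum_congr rfl fun z _ => ?_
    rw [Finset.sum_congr rfl (g := fun _ => F z) (fun q hq => by rw [(Finset.mem_filter.mp hq).2]),
      Finset.sum_const, hfib, nsmul_eq_mul]
  have hθ0 := CfsgLib.Char.IsIrrCharacter.apply_one_ne_zero hθ
  have hM0 : (Nat.card ↥M : ℂ) ≠ 0 := by simp
  have hpair : ∀ t t' : ↥T, ∑ k : ↥M, ∑ k' : ↥M, f ((k : G) * t) ((k' : G) * t') =
      (Nat.card ↥M : ℂ) ^ 2 / θ 1 * if CommMod M (t : G) t' then commScalar M θ (t : G) t' else 0 := by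
    intro t t'
    split_ifs with hc
    · rw [commScalar_def, ← mul_assoc, div_mul_div_comm, mul_comm (θ 1),
        div_self (mul_ne_zero (pow_ne_zero 2 hM0) hθ0), one_mul]
    · rw [mul_zero]
      refine Finset.sum_eq_zero fun k _ => Finset.sum_eq_zero fun k' _ => ?_
      have hnorm : ∀ x : ↥T, (x : G) ∈ Subgroup.normalizer (M : Set G) := fun x =>
        Subgroup.mem_normalizer_fintype (hn x (hTH x.2))
      have hk : ¬ ((k : G) * t * ((k' : G) * t') * ((k : G) * t)⁻¹ * ((k' : G) * t')⁻¹ ∈ M) := fun h => by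
        refine hc ?_
        have h1 := comm_coset_mem (mul_mem (Subgroup.le_normalizer k.2) (hnorm t))
          (mul_mem (Subgroup.le_normalizer k'.2) (hnorm t')) h (inv_mem k.2) (inv_mem k'.2)
        rwa [inv_mul_cancel_left, inv_mul_cancel_left] at h1
      simp only [f]
      rw [lift0, dif_neg hk, map_zero]
  have key : (Nat.card ↥(M ⊓ T) : ℂ) ^ 2 * ∑ g : ↥H, ∑ h : ↥H, f g h =
      (Nat.card ↥M : ℂ) ^ 2 / θ 1 *
        ∑ t : ↥T, ∑ t' : ↥T, if CommMod M (t : G) t' then commScalar M θ (t : G) t' else 0 := by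
    rw [Finset.mul_sum]
    simp only [Finset.mul_sum, ← hpair]
    rw [← Finset.sum_comm]
    calc ∑ h : ↥H, ∑ g : ↥H, (Nat.card ↥(M ⊓ T) : ℂ) ^ 2 * f g h
        = (Nat.card ↥(M ⊓ T) : ℂ) * ∑ h : ↥H, (Nat.card ↥(M ⊓ T) : ℂ) * ∑ g : ↥H, f g h := by
          simp only [Finset.mul_sum, ← mul_assoc, sq]
      _ = ∑ q : ↥M × ↥T, ∑ r : ↥M × ↥T, f (π r) (π q) := by
          rw [hπ fun z => ∑ r : ↥M × ↥T, f (π r) z]
          congr 1
          exact Finset.sum_congr rfl fun h _ => (hπ fun z => f z h).symm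
      _ = _ := by
          simp only [Fintype.sum_prod_type]
          rw [Finset.sum_comm]
          conv_rhs => rw [Finset.sum_comm]
          refine Finset.sum_congr rfl fun t' _ => ?_
          rw [Finset.sum_congr rfl fun k' _ => Finset.sum_comm, Finset.sum_comm]
          exact Finset.sum_congr rfl fun t _ => Finset.sum_comm
  rw [sum_lift0_commutator hMH hn hθ hinv] at key
  have hcard : (Nat.card ↥H : ℂ) * (Nat.card ↥(M ⊓ T) : ℂ) = (Nat.card ↥M : ℂ) * (Nat.card ↥T : ℂ) := by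
    have h := hπ fun _ => (1 : ℂ)
    simp only [Finset.sum_const, Finset.card_univ, nsmul_eq_mul, mul_one, ← Nat.card_eq_fintype_card,
      Nat.card_prod, Nat.cast_mul] at h
    rw [h, mul_comm]
  apply mul_left_cancel₀ (div_ne_zero (pow_ne_zero 2 hM0) hθ0)
  rw [← key]
  linear_combination (Nat.card {χ : IrrCharacter ↥H // classInner (res M (χ : ↥H → ℂ)) θ ≠ 0} : ℂ) *
    (Nat.card ↥(M ⊓ T) : ℂ) * (Nat.card ↥M : ℂ) / θ 1 * (-hcard)

end CfsgLib.PPrimeCount
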