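import Cfsg.Agent.PPrimeCount.Rel
import Cfsg.Agent.PPrimeCount.CommProps

/-!
# Group facts for the correspondence relative to a normal subgroup
-/

set_option autoImplicit false

namespace CfsgLib.PPrimeCount

open Finset Cfsg

universe u

variable {G : Type u} [Group G]

/-- An element is the product of a power of `p`-power order and a power of order prime to `p`. -/
theorem exists_p_part [Finite G] (p : ℕ) [Fact p.Prime] (x : G) :
    ∃ i j e m : ℕ, x = x ^ i * x ^ j ∧ (x ^ i) ^ p ^ e = 1 ∧ (x ^ j) ^ m = 1 ∧ ¬ p ∣ m := by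
  obtain ⟨e, m, hm, h⟩ := Nat.exists_eq_pow_mul_and_not_dvd (orderOf_pos x).ne' p (Fact.out : p.Prime).ne_one
  have hco : (p ^ e).Coprime m := Nat.Coprime.pow_left e ((Fact.out : p.Prime).coprime_iff_not_dvd.mpr hm)
  obtain ⟨i, hi1, hi2⟩ := Nat.chineseRemainder hco 1 0
  obtain ⟨j, hj1, hj2⟩ := Nat.chineseRemainder hco 0 1
  have hone : ∀ k, orderOf x ∣ k → x ^ k = 1 := fun k hk => orderOf_dvd_iff_pow_eq_one.mp hk
  refine ⟨i, j, e, m, ?_, ?_, ?_, hm⟩
  · rw [← pow_add]
    conv_lhs => rw [← pow_one x]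
    refine pow_eq_pow_iff_modEq.mpr ?_
    rw [h]
    exact ((Nat.modEq_and_modEq_iff_modEq_mul hco).mp
      ⟨(hi1.add hj1).symm, (hi2.add hj2).symm⟩ :)
  · rw [← pow_mul]
    refine hone _ ?_
    rw [h, mul_comm i]
    exact Nat.mul_dvd_mul_left _ (Nat.modEq_zero_iff_dvd.mp hi2)
  · rw [← pow_mul]
    exact hone _ (h ▸ Nat.mul_dvd_mul_right (Nat.modEq_zero_iff_dvd.mp hj1) m)

theorem coprime_pow_of_not_dvd {p : ℕ} [Fact p.Prime] {m : ℕ} (hm : ¬ p ∣ m) (e : ℕ) : (p ^ e).Coprime m :=
  Nat.Coprime.pow_left e ((Fact.out : p.Prime).coprime_iff_not_dvd.mpr hm)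

/-- An element normalizing the three subgroups normalizes the relative centralizer. -/
theorem mem_normalizer_relCent [Finite G] {K L S : Subgroup G} {y : G}
    (hK : y ∈ Subgroup.normalizer (K : Set G)) (hL : y ∈ Subgroup.normalizer (L : Set G))
    (hS : y ∈ Subgroup.normalizer (S : Set G)) : y ∈ Subgroup.normalizer (relCent K L S : Set G) :=
  Subgroup.mem_normalizer_fintype fun c hc => by
    obtain ⟨h1, h2, h3⟩ := hc
    refine ⟨conj_mem_of_normalizer hK h1, mul_mem (mul_mem hL h2) (inv_mem hL), fun s hs => ?_⟩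
    have := conj_mem_of_normalizer hL (h3 _ (inv_conj_mem hS hs))
    convert this using 1
    group

theorem relCent_le (K L S : Subgroup G) : relCent K L S ≤ K := fun _ h => h.1

/-- A common commutator condition, on a generated subgroup. -/
theorem commMod_of_mem_closure {C : Subgroup G} {a b : G} (ha : a ∈ Subgroup.normalizer (C : Set G))
    (hb : b ∈ Subgroup.normalizer (C : Set G)) (hc : CommMod C a b) {x z : G}
    (hx : x ∈ Subgroup.closure {a, b}) (hz : z ∈ Subgroup.closure {a, b}) : CommMod C x z := by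
  have hgen : ∀ x : G, CommMod C x a → CommMod C x b → ∀ z ∈ Subgroup.closure {a, b}, CommMod C x z := by
    intro x hxa hxb
    let T : Subgroup G :=
      { carrier := {z | z ∈ Subgroup.normalizer (C : Set G) ∧ CommMod C x z}
        mul_mem' := fun hu hv => ⟨mul_mem hu.1 hv.1, hu.2.mul_right hu.1 hv.2⟩
        one_mem' := ⟨one_mem _, commMod_one C x⟩
        inv_mem' := fun hu => ⟨inv_mem hu.1, hu.2.inv_right hu.1⟩ }
    have : Subgroup.closure {a, b} ≤ T := by
      rw [Subgroup.closure_le]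
      rintro z (rfl | rfl)
      exacts [⟨ha, hxa⟩, ⟨hb, hxb⟩]
    exact fun z hz => (this hz).2
  exact (hgen z (hgen a (commMod_self C a) hc z hz).symm (hgen b hc.symm (commMod_self C b) z hz).symm x hx).symm

/-- A `p`-group is not generated by a proper normal subgroup and the commutators. -/
theorem sup_commutator_ne [Finite G] {p : ℕ} [Fact p.Prime] {S R : Subgroup G} (hS : IsPGroup p ↥S)
    (hRS : R ≤ S) (hn : S ≤ Subgroup.normalizer (R : Set G)) (hne : R ≠ S) : R ⊔ ⁅S, S⁆ ≠ S := by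
  intro h
  set N := R.subgroupOf S
  have : N.Normal := (Subgroup.normal_subgroupOf_iff_le_normalizer hRS).mpr hn
  have hN : N ≠ ⊤ := fun h' => hne (le_antisymm hRS fun s hs =>
    (h' ▸ Subgroup.mem_top (⟨s, hs⟩ : ↥S) : (⟨s, hs⟩ : ↥S) ∈ N))
  have : Nontrivial (↥S ⧸ N) := QuotientGroup.nontrivial_iff.mpr hN
  have : Group.IsNilpotent ↥S := hS.isNilpotent
  have : Group.IsSolvable ↥S := IsNilpotent.to_isSolvable
  have : Group.IsSolvable (↥S ⧸ N) :=
    Group.isSolvable_of_surjective (QuotientGroup.mk'_surjective N)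
  have hlt := Group.IsSolvable.commutator_lt_top_of_nontrivial (↥S ⧸ N)
  have htop : N ⊔ commutator ↥S = ⊤ := by
    apply Subgroup.map_injective S.subtype_injective
    rw [Subgroup.map_sup, Subgroup.map_subgroupOf_eq_of_le hRS, Subgroup.map_subtype_commutator, h,
      ← MonoidHom.range_eq_map, Subgroup.range_subtype]
  apply hlt.ne
  rw [commutator_def, ← Subgroup.map_top_of_surjective _ (QuotientGroup.mk'_surjective N),
    ← Subgroup.map_commutator, ← commutator_def]
  conv_rhs => rw [← htop, Subgroup.map_sup, (Subgroup.map_eq_bot_iff N).mpr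
    (QuotientGroup.ker_mk' N).ge, bot_sup_eq]

theorem not_dvd_relIndex_sup_zpowers [Finite G] {p : ℕ} [Fact p.Prime] {K L : Subgroup G} (hLK : L ≤ K)
    (h : ¬ p ∣ L.relIndex K) {y : G} (hy : y ∈ Subgroup.normalizer (K : Set G)) (hyo : ¬ p ∣ orderOf y) :
    ¬ p ∣ L.relIndex (K ⊔ Subgroup.zpowers y) := by
  rw [← Subgroup.relIndex_mul_relIndex L K _ hLK le_sup_left]
  refine fun hd => ((Fact.out : p.Prime).dvd_mul.mp hd).elim h fun hd => hyo (hd.trans ?_)
  have h1 := CfsgLib.Solvable.card_sup_mul_card_inf (A := Subgroup.zpowers y) (K := K) (Subgroup.zpowers_le.mpr hy)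
  rw [sup_comm, Nat.card_zpowers] at h1
  have h2 : Nat.card ↥K * K.relIndex (K ⊔ Subgroup.zpowers y) = Nat.card ↥(K ⊔ Subgroup.zpowers y) := by
    rw [← Nat.card_congr (Subgroup.subgroupOfEquivOfLe (le_sup_left (a := K) (b := Subgroup.zpowers y))).toEquiv]
    exact Subgroup.card_mul_index _
  rw [← h2, mul_comm (orderOf y), mul_assoc] at h1
  exact Dvd.intro _ (Nat.eq_of_mul_eq_mul_left Nat.card_pos h1)

end CfsgLib.PPrimeCount
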