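import Cfsg.Agent.PPrimeCount.ExtendP
import Cfsg.Agent.PPrimeCount.Formula
import Cfsg.Agent.PPrimeCount.RelGroup

/-!
# One side of the count: characters of degree prime to `p` over an extendible invariant character
-/

set_option autoImplicit false

namespace CfsgLib.PPrimeCount

open Finset Cfsg
open scoped commutatorElement
open GlaubermanCorr (InvBy Inv)

universe u

variable {G : Type u} [Group G] [Fintype G]

open scoped Classical in
/-- The number of irreducible characters of `H` of degree prime to `p` over `θ`. -/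
noncomputable def pCount (p : ℕ) (H M : Subgroup G) (θ : ↥M → ℂ) : ℕ :=
  Nat.card {χ : IrrCharacter ↥H // ¬ p ∣ charDegree (χ : ↥H → ℂ) ∧ classInner (res M (χ : ↥H → ℂ)) θ ≠ 0}

open scoped Classical in
theorem pCount_def (p : ℕ) (H M : Subgroup G) [Fintype ↥M] (θ : ↥M → ℂ) : pCount p H M θ =
    Nat.card {χ : IrrCharacter ↥H // ¬ p ∣ charDegree (χ : ↥H → ℂ) ∧ classInner (res M (χ : ↥H → ℂ)) θ ≠ 0} := by
  unfold pCount
  exact Nat.card_congr (Equiv.subtypeEquivRight fun χ => by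
    simp only [GlaubermanCorr.classInner_congr_sum (iA' := ‹Fintype ↥M›)])

variable {p : ℕ} [Fact p.Prime]

open scoped Classical in
theorem pCount_eq_zero {M S H : Subgroup G} (hS : IsPGroup p ↥S) (hMH : M ≤ H) (hSH : S ≤ H)
    (hn : ∀ h ∈ H, ∀ m ∈ M, h * m * h⁻¹ ∈ M) (hnP : ∀ h ∈ H, ∀ x ∈ M ⊔ S, h * x * h⁻¹ ∈ M ⊔ S)
    {θ : ↥M → ℂ} (hθ : IsIrrCharacter ↥M θ) (hinv : Inv M H θ)
    (h : p ∣ charDegree θ ∨ ¬ ∃ η : ↥(M ⊔ S) → ℂ, IsIrrCharacter ↥(M ⊔ S) η ∧ res M η = θ) :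
    pCount p H M θ = 0 := by
  rw [pCount_def]
  have : IsEmpty {χ : IrrCharacter ↥H // ¬ p ∣ charDegree (χ : ↥H → ℂ) ∧
      classInner (res M (χ : ↥H → ℂ)) θ ≠ 0} := ⟨fun χ => by
    obtain ⟨h1, h2⟩ := exists_extension_of_pprime hS hMH hSH hn hnP hθ hinv χ.1.2 χ.2.1 χ.2.2
    exact h.elim h1 fun h3 => h3 h2⟩
  exact Nat.card_of_isEmpty

theorem conj_mem_sup_left {M S : Subgroup G} {h : G} (hM : h ∈ Subgroup.normalizer (M : Set G))
    (hS : h ∈ Subgroup.normalizer (S : Set G)) {x : G} (hx : x ∈ M ⊔ S) : h * x * h⁻¹ ∈ M ⊔ S := by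
  have hle : M ⊔ S ≤ (M ⊔ S).comap (MulAut.conj h).toMonoidHom :=
    sup_le (fun m hm => Subgroup.mem_sup_left (conj_mem_of_normalizer hM hm))
      (fun s hs => Subgroup.mem_sup_right (conj_mem_of_normalizer hS hs))
  exact hle hx

theorem mem_normalizer_commutator {S : Subgroup G} {h : G} (hS : h ∈ Subgroup.normalizer (S : Set G)) :
    h ∈ Subgroup.normalizer ((⁅S, S⁆ : Subgroup G) : Set G) :=
  Subgroup.mem_normalizer_fintype fun x hx => by
    have hle : ⁅S, S⁆ ≤ (⁅S, S⁆ : Subgroup G).comap (MulAut.conj h).toMonoidHom :=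
      Subgroup.commutator_le.mpr fun u hu v hv => by
        rw [Subgroup.mem_comap, map_commutatorElement]
        exact Subgroup.commutator_mem_commutator (conj_mem_of_normalizer hS hu) (conj_mem_of_normalizer hS hv)
    exact hle hx

omit [Fact p.Prime] in
theorem res_cj {K D : Subgroup G} (hDK : D ≤ K) {h : G} (hK : h ∈ Subgroup.normalizer (K : Set G))
    (hD : h ∈ Subgroup.normalizer (D : Set G)) (f : ↥K → ℂ) : res D (cj K h f) = cj D h (res D f) :=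
  funext fun d => by
    rw [res_apply _ d (hDK d.2), cj_apply hK, cj_apply hD, res_apply f _ (hDK (inv_conj_mem hD d.2))]

omit [Fact p.Prime] in
/-- The restriction to `M⁅S,S⁆` of an extension to `MS` is invariant under what fixes `θ`. -/
theorem invBy_res_extension {M S : Subgroup G} (hSM : S ≤ Subgroup.normalizer (M : Set G)) {θ : ↥M → ℂ}
    (hθ : IsIrrCharacter ↥M θ) {η : ↥(M ⊔ S) → ℂ} (hη : IsIrrCharacter ↥(M ⊔ S) η) (hres : res M η = θ)
    {h : G} (hM : h ∈ Subgroup.normalizer (M : Set G)) (hS : h ∈ Subgroup.normalizer (S : Set G))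
    (hfix : InvBy M h θ) :
    InvBy (M ⊔ ⁅S, S⁆) h (res (M ⊔ ⁅S, S⁆) η) := by
  have hP : h ∈ Subgroup.normalizer ((M ⊔ S : Subgroup G) : Set G) :=
    Subgroup.mem_normalizer_fintype fun x hx => conj_mem_sup_left hM hS hx
  have hd : h ∈ Subgroup.normalizer ((M ⊔ ⁅S, S⁆ : Subgroup G) : Set G) :=
    Subgroup.mem_normalizer_fintype fun x hx => conj_mem_sup_left hM (mem_normalizer_commutator hS) hx
  refine invBy_of_cj_eq hd ?_
  rw [← res_cj (sup_le_sup_left (commutator_le_self S) M) hP hd]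
  refine res_commutator_eq hSM hθ (isIrrCharacter_cj hP hη) hη ?_ hres
  rw [res_cj le_sup_left hP hM, hres, cj_eq_self hM hfix]

omit [Fact p.Prime] in
/-- `θ` being invariant in `MT`, so is the restriction of its extension. -/
theorem inv_res_extension {M S H T : Subgroup G} (hSM : S ≤ Subgroup.normalizer (M : Set G))
    (hn : ∀ h ∈ H, ∀ m ∈ M, h * m * h⁻¹ ∈ M) (hTS : T ≤ Subgroup.normalizer (S : Set G)) (hTH : T ≤ H)
    (htop : ∀ h ∈ H, ∃ m ∈ M, ∃ t ∈ T, h = m * t) {θ : ↥M → ℂ}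
    (hθ : IsIrrCharacter ↥M θ) (hinv : Inv M H θ) {η : ↥(M ⊔ S) → ℂ} (hη : IsIrrCharacter ↥(M ⊔ S) η)
    (hres : res M η = θ) :
    (∀ h ∈ H, ∀ x ∈ M ⊔ ⁅S, S⁆, h * x * h⁻¹ ∈ M ⊔ ⁅S, S⁆) ∧
      Inv (M ⊔ ⁅S, S⁆) H (res (M ⊔ ⁅S, S⁆) η) := by
  have htn : ∀ t ∈ T, ∀ x ∈ M ⊔ ⁅S, S⁆, t * x * t⁻¹ ∈ M ⊔ ⁅S, S⁆ := fun t ht x hx =>
    conj_mem_sup_left (Subgroup.mem_normalizer_fintype (hn t (hTH ht))) (mem_normalizer_commutator (hTS ht)) hx
  have hirr : IsIrrCharacter ↥(M ⊔ ⁅S, S⁆) (res (M ⊔ ⁅S, S⁆) η) :=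
    isIrrCharacter_res_of_res le_sup_left (sup_le_sup_left (commutator_le_self S) M)
      (CfsgLib.Char.IsIrrCharacter.isCharacter hη) hθ hres
  constructor
  · intro h hh x hx
    obtain ⟨m, hm, t, ht, rfl⟩ := htop h hh
    rw [show m * t * x * (m * t)⁻¹ = m * (t * x * t⁻¹) * m⁻¹ by group]
    exact mul_mem (mul_mem (Subgroup.mem_sup_left hm) (htn t ht x hx)) (inv_mem (Subgroup.mem_sup_left hm))
  · intro h hh k k' e
    obtain ⟨m, hm, t, ht, rfl⟩ := htop h hh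
    have hk := htn t ht k k.2
    rw [show k' = ⟨m, Subgroup.mem_sup_left hm⟩ * ⟨_, hk⟩ * ⟨m, Subgroup.mem_sup_left hm⟩⁻¹ from
      Subtype.ext (by simp [e, mul_assoc]), CfsgLib.Char.IsIrrCharacter.isClassFunction hirr]
    exact invBy_res_extension hSM hθ hη hres (Subgroup.mem_normalizer_fintype (hn t (hTH ht))) (hTS ht)
      (hinv t (hTH ht)) k ⟨_, hk⟩ rfl

open scoped Classical in
/-- The count on one side as a sum over pairs. -/
theorem pCount_formula {M S H T : Subgroup G} (hS : IsPGroup p ↥S) (hMH : M ≤ H) (hST : S ≤ T) (hTH : T ≤ H)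
    (hTS : T ≤ Subgroup.normalizer (S : Set G)) (hn : ∀ h ∈ H, ∀ m ∈ M, h * m * h⁻¹ ∈ M)
    (hsyl : ¬ p ∣ S.relIndex H) (htop : ∀ h ∈ H, ∃ m ∈ M, ∃ t ∈ T, h = m * t) {θ : ↥M → ℂ}
    (hθ : IsIrrCharacter ↥M θ) (hinv : Inv M H θ) (hdθ : ¬ p ∣ charDegree θ)
    {η : ↥(M ⊔ S) → ℂ} (hη : IsIrrCharacter ↥(M ⊔ S) η) (hres : res M η = θ) :
    (pCount p H M θ : ℂ) * ((Nat.card ↥T : ℂ) * (Nat.card ↥((M ⊔ ⁅S, S⁆) ⊓ T) : ℂ)) =
      ∑ t : ↥T, ∑ t' : ↥T, if CommMod (M ⊔ ⁅S, S⁆) (t : G) t'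
        then commScalar (M ⊔ ⁅S, S⁆) (res (M ⊔ ⁅S, S⁆) η) (t : G) t' else 0 := by
  have hSH : S ≤ H := hST.trans hTH
  have hSM : S ≤ Subgroup.normalizer (M : Set G) := fun s hs =>
    Subgroup.mem_normalizer_fintype (hn s (hSH hs))
  have hnP : ∀ h ∈ H, ∀ x ∈ M ⊔ S, h * x * h⁻¹ ∈ M ⊔ S := by
    intro h hh x hx
    obtain ⟨m, hm, t, ht, rfl⟩ := htop h hh
    rw [show m * t * x * (m * t)⁻¹ = m * (t * x * t⁻¹) * m⁻¹ by group]
    exact mul_mem (mul_mem (Subgroup.mem_sup_left hm) (conj_mem_sup_left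
      (Subgroup.mem_normalizer_fintype (hn t (hTH ht))) (hTS ht) hx)) (inv_mem (Subgroup.mem_sup_left hm))
  have hidx : ¬ p ∣ (M ⊔ S).relIndex H := fun hd => hsyl (by
    rw [← Subgroup.relIndex_mul_relIndex S (M ⊔ S) H le_sup_right (sup_le hMH hSH)]
    exact hd.mul_left _)
  obtain ⟨hnd, hinvd⟩ := inv_res_extension hSM hn hTS hTH htop hθ hinv hη hres
  have hirr : IsIrrCharacter ↥(M ⊔ ⁅S, S⁆) (res (M ⊔ ⁅S, S⁆) η) :=
    isIrrCharacter_res_of_res le_sup_left (sup_le_sup_left (commutator_le_self S) M)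
      (CfsgLib.Char.IsIrrCharacter.isCharacter hη) hθ hres
  rw [← card_over_formula (sup_le hMH ((commutator_le_self S).trans hSH)) hnd hirr hinvd hTH (fun h hh => by
    obtain ⟨m, hm, t, ht, e⟩ := htop h hh
    exact ⟨m, Subgroup.mem_sup_left hm, t, ht, e⟩), pCount_def]
  congr 2
  exact_mod_cast Nat.card_congr (Equiv.subtypeEquivRight fun χ : IrrCharacter ↥H =>
    pprime_over_iff hS hMH hSH hn hnP hidx hθ hinv hdθ hη hres χ.2)

omit [Fact p.Prime] in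
/-- Splitting off the `p`-parts of two elements. -/
theorem commScalar_eq_pPrimePart [Fact p.Prime] {D P : Subgroup G} {χ : ↥D → ℂ} (hχ : IsIrrCharacter ↥D χ)
    (hDP : D ≤ P) (hPn : P ≤ Subgroup.normalizer (D : Set G)) {η : ↥P → ℂ} (hη : IsIrrCharacter ↥P η)
    (hres : res D η = χ) {t t' : G} (ht : t ∈ stab D χ) (ht' : t' ∈ stab D χ) (hc : CommMod D t t')
    {i j e m i' j' e' m' : ℕ} (h1 : t = t ^ i * t ^ j) (hi : (t ^ i) ^ p ^ e = 1) (hj : (t ^ j) ^ m = 1)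
    (hm : ¬ p ∣ m) (h1' : t' = t' ^ i' * t' ^ j') (hi' : (t' ^ i') ^ p ^ e' = 1) (hj' : (t' ^ j') ^ m' = 1)
    (hm' : ¬ p ∣ m') (hti : t ^ i ∈ P) (hti' : t' ^ i' ∈ P) :
    commScalar D χ t t' = commScalar D χ (t ^ j) (t' ^ j') := by
  have hci : ∀ a b : ℕ, CommMod D (t ^ a) (t' ^ b) := fun a b =>
    (hc.pow_left ht.1 a).pow_right ht'.1 b
  have e1 : commScalar D χ (t ^ i) (t' ^ i') = 1 :=
    commScalar_eq_one_of_fixed hχ hDP hPn hη hres hti (pow_mem ht'.1 i') (hci i i')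
      (fun y hy => mul_mem (mul_mem hti' hy) (inv_mem hti'))
      (GlaubermanCorr.inv_of_isClassFunction_mem hti' (CfsgLib.Char.IsIrrCharacter.isClassFunction hη))
  have e2 : commScalar D χ (t ^ i) (t' ^ j') = 1 :=
    commScalar_eq_one_of_coprime hχ (pow_mem ht i) (pow_mem ht' j') (hci i j') (m := p ^ e) (n := m')
      (by rw [hi]; exact one_mem _) (by rw [hj']; exact one_mem _) (coprime_pow_of_not_dvd hm' e)
  have e3 : commScalar D χ (t ^ j) (t' ^ i') = 1 :=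
    commScalar_eq_one_of_coprime hχ (pow_mem ht j) (pow_mem ht' i') (hci j i') (m := m) (n := p ^ e')
      (by rw [hj]; exact one_mem _) (by rw [hi']; exact one_mem _) (coprime_pow_of_not_dvd hm e').symm
  have hl : ∀ a : ℕ, CommMod D (t ^ a) t' := fun a => hc.pow_left ht.1 a
  conv_lhs => rw [h1]
  rw [commScalar_mul_left hχ (pow_mem ht i) (pow_mem ht j) ht' (hl i) (hl j)]
  conv_lhs => rw [h1']
  rw [commScalar_mul_right hχ (pow_mem ht i) (pow_mem ht' i') (pow_mem ht' j') (hci i i') (hci i j'),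
    commScalar_mul_right hχ (pow_mem ht j) (pow_mem ht' i') (pow_mem ht' j') (hci j i') (hci j j'),
    e1, e2, e3, one_mul, one_mul, one_mul]

end CfsgLib.PPrimeCount
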