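import Cfsg.Agent.PPrimeCount.CoreLemmas
import Cfsg.Agent.Char.CliffordCorrespondence

/-!
# Characters of degree prime to `p` and the inertia group
-/

set_option autoImplicit false

namespace CfsgLib.PPrimeCount

open Finset Cfsg
open GlaubermanCorr (InvBy Inv)

universe u

variable {G : Type u} [Group G]

/-- A character of `M` seen inside `H`. -/
noncomputable def inSub (H : Subgroup G) {M : Subgroup G} (θ : ↥M → ℂ) : ↥(M.subgroupOf H) → ℂ :=
  fun n => lift0 M θ ((n : ↥H) : G)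

theorem inSub_apply {H M : Subgroup G} (θ : ↥M → ℂ) (n : ↥(M.subgroupOf H)) :
    inSub H θ n = θ ⟨((n : ↥H) : G), Subgroup.mem_subgroupOf.mp n.2⟩ :=
  lift0_of_mem θ (Subgroup.mem_subgroupOf.mp n.2)

theorem isIrrCharacter_inSub {H M : Subgroup G} (hMH : M ≤ H) {θ : ↥M → ℂ} (hθ : IsIrrCharacter ↥M θ) :
    IsIrrCharacter ↥(M.subgroupOf H) (inSub H θ) := by
  rw [show inSub H θ = fun n => θ (Subgroup.subgroupOfEquivOfLe hMH n) from funext fun n => inSub_apply θ n]
  exact CfsgLib.Char.IsIrrCharacter.comp_surjective hθ (Subgroup.subgroupOfEquivOfLe hMH).toMonoidHom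
    (Subgroup.subgroupOfEquivOfLe hMH).surjective

variable [Fintype G]

theorem classInner_inSub {H M : Subgroup G} [Fintype ↥M] [Fintype ↥(M.subgroupOf H)] (hMH : M ≤ H)
    (χ : ↥H → ℂ) (θ : ↥M → ℂ) :
    classInner (fun n : ↥(M.subgroupOf H) => χ n) (inSub H θ) = classInner (res M χ) θ := by
  rw [← GlaubermanCorr.classInner_comp_equiv (Subgroup.subgroupOfEquivOfLe hMH) (res M χ) θ]
  congr 1
  · exact funext fun n => (res_apply χ (Subgroup.subgroupOfEquivOfLe hMH n) (n : ↥H).2).symm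
  · exact funext fun n => inSub_apply θ n

omit [Fintype G] in
theorem inertia_inSub {M H : Subgroup G} (hMH : M ≤ H) (hn : ∀ h ∈ H, ∀ m ∈ M, h * m * h⁻¹ ∈ M)
    [(M.subgroupOf H).Normal] [Finite G] (θ : ↥M → ℂ) :
    CfsgLib.Char.inertia (inSub H θ) = (H ⊓ stab M θ).subgroupOf H := by
  ext h
  rw [CfsgLib.Char.mem_inertia_iff, Subgroup.mem_subgroupOf]
  constructor
  · intro hi
    refine Subgroup.mem_inf.mpr ⟨h.2, Subgroup.mem_normalizer_fintype (hn h h.2), fun k k' e => ?_⟩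
    have h1 := hi ⟨⟨k, hMH k.2⟩, Subgroup.mem_subgroupOf.mpr k.2⟩
    rw [inSub_apply, inSub_apply] at h1
    rw [show k' = ⟨_, hn h h.2 k k.2⟩ from Subtype.ext e]
    exact h1
  · intro hi n
    rw [inSub_apply, inSub_apply]
    exact (Subgroup.mem_inf.mp hi).2.2 _ _ rfl

variable {p : ℕ} [Fact p.Prime]

open scoped Classical in
/-- The inertia group of a constituent of a character of degree prime to `p` has index prime to `p`. -/
theorem not_dvd_index_stab {M H : Subgroup G} (hMH : M ≤ H) (hn : ∀ h ∈ H, ∀ m ∈ M, h * m * h⁻¹ ∈ M)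
    {θ : ↥M → ℂ} (hθ : IsIrrCharacter ↥M θ) {χ : ↥H → ℂ} (hχ : IsIrrCharacter ↥H χ)
    (hdeg : ¬ p ∣ charDegree χ) (hover : classInner (res M χ) θ ≠ 0) :
    ¬ p ∣ (H ⊓ stab M θ).relIndex H := by
  have := subgroupOf_normal_of_conj hn
  have hθ' := isIrrCharacter_inSub hMH hθ
  have hne : classInner (fun n : ↥(M.subgroupOf H) => χ n) (inSub H θ) ≠ 0 := by
    rw [classInner_inSub hMH]; exact hover
  have h1 := CfsgLib.Char.degree_eq_mul hχ hθ' hne
  obtain ⟨e, he⟩ := CfsgLib.Char.IsCharacter.exists_classInner_eq_natCast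
    (CfsgLib.Char.IsCharacter.restrict (CfsgLib.Char.IsIrrCharacter.isCharacter hχ) (M.subgroupOf H)) hθ'
  rw [he, inertia_inSub hMH hn, cast_charDegree (CfsgLib.Char.IsIrrCharacter.isCharacter hχ),
    cast_charDegree (CfsgLib.Char.IsIrrCharacter.isCharacter hθ'), ← Nat.cast_mul, ← Nat.cast_mul,
    Nat.cast_inj] at h1
  intro hd
  exact hdeg (h1 ▸ (hd.mul_left e).mul_right _)

open scoped Classical in
/-- Characters of degree prime to `p` over `θ` correspond to those of an inertia group of index prime to `p`. -/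
theorem pCount_inertia {M H : Subgroup G} (hMH : M ≤ H) (hn : ∀ h ∈ H, ∀ m ∈ M, h * m * h⁻¹ ∈ M)
    {θ : ↥M → ℂ} (hθ : IsIrrCharacter ↥M θ) (hidx : ¬ p ∣ (H ⊓ stab M θ).relIndex H) :
    pCount p H M θ = pCount p (H ⊓ stab M θ) M θ := by
  obtain ⟨T, hT⟩ : ∃ T, T = H ⊓ stab M θ := ⟨_, rfl⟩
  rw [← hT] at hidx ⊢
  have hTH : T ≤ H := hT ▸ inf_le_left
  have hMT : M ≤ T := hT ▸ le_inf hMH (le_stab (CfsgLib.Char.IsIrrCharacter.isClassFunction hθ))
  have := subgroupOf_normal_of_conj hn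
  have hθ' := isIrrCharacter_inSub hMH hθ
  have hI : CfsgLib.Char.inertia (inSub H θ) = T.subgroupOf H := hT ▸ inertia_inSub hMH hn θ
  have hNT : M.subgroupOf H ≤ T.subgroupOf H := fun x hx => hMT hx
  let eT : ↥(T.subgroupOf H) ≃* ↥T := Subgroup.subgroupOfEquivOfLe hTH
  let eM : ↥(M.subgroupOf H) ≃* ↥M := Subgroup.subgroupOfEquivOfLe hMH
  have hover : ∀ ψ : ↥T → ℂ,
      classInner (fun n : ↥(M.subgroupOf H) => (fun t => ψ (eT t)) (Subgroup.inclusion hNT n)) (inSub H θ) =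
        classInner (res M ψ) θ := by
    intro ψ
    rw [← GlaubermanCorr.classInner_comp_equiv eM (res M ψ) θ]
    congr 1
    · exact funext fun n => (res_apply ψ (eM n) (hMT (eM n).2)).symm
    · exact funext fun n => inSub_apply θ n
  have hirr : ∀ {ψ : ↥T → ℂ}, IsIrrCharacter ↥T ψ → IsIrrCharacter ↥(T.subgroupOf H) fun t => ψ (eT t) :=
    fun hψ => CfsgLib.Char.IsIrrCharacter.comp_surjective hψ eT.toMonoidHom eT.surjective
  have hdeg : ∀ {ψ : ↥T → ℂ}, IsIrrCharacter ↥T ψ → classInner (res M ψ) θ ≠ 0 →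
      (¬ p ∣ charDegree (indFun (T.subgroupOf H) fun t => ψ (eT t)) ↔ ¬ p ∣ charDegree ψ) := by
    intro ψ hψ hne
    have hI' := (CfsgLib.Char.isIrrCharacter_indFun_of_inertia hNT hθ' hI (hirr hψ)
      (by rw [hover]; exact hne)).1
    have h1 : indFun (T.subgroupOf H) (fun t => ψ (eT t)) 1 = ((T.relIndex H : ℕ) : ℂ) * ψ 1 := by
      rw [CfsgLib.Char.indFun_one]
      simp only [map_one, Subgroup.relIndex]
    rw [cast_charDegree (CfsgLib.Char.IsIrrCharacter.isCharacter hI'),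
      cast_charDegree (CfsgLib.Char.IsIrrCharacter.isCharacter hψ), ← Nat.cast_mul, Nat.cast_inj] at h1
    rw [h1]
    exact ⟨fun h hd => h (hd.mul_left _), fun h hd => ((Fact.out : p.Prime).dvd_mul.mp hd).elim hidx h⟩
  rw [pCount_def, pCount_def]
  symm
  refine Nat.card_congr (Equiv.ofBijective (fun ψ => ⟨⟨indFun (T.subgroupOf H) fun t => (ψ.1 : ↥T → ℂ) (eT t),
      (CfsgLib.Char.isIrrCharacter_indFun_of_inertia hNT hθ' hI (hirr ψ.1.2) (by rw [hover]; exact ψ.2.2)).1⟩,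
      (hdeg ψ.1.2 ψ.2.2).mpr ψ.2.1, by
        rw [← classInner_inSub hMH,
          (CfsgLib.Char.isIrrCharacter_indFun_of_inertia hNT hθ' hI (hirr ψ.1.2) (by rw [hover]; exact ψ.2.2)).2,
          hover]
        exact ψ.2.2⟩) ⟨?_, ?_⟩)
  · rintro ⟨⟨ψ, hψ⟩, hd, hne⟩ ⟨⟨ψ', hψ'⟩, hd', hne'⟩ heq
    have h1 := congrArg (fun x => (x.1 : IrrCharacter ↥H).1) heq
    have h2 := CfsgLib.Char.indFun_injective_of_inertia hNT hθ' hI (hirr hψ) (hirr hψ')
      (by rw [hover]; exact hne) (by rw [hover]; exact hne') h1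
    refine Subtype.ext (Subtype.ext (funext fun t => ?_))
    obtain ⟨t', rfl⟩ := eT.surjective t
    exact congrFun h2 t'
  · rintro ⟨⟨χ, hχ⟩, hd, hne⟩
    obtain ⟨ψ', hψ', hind, hmul⟩ := CfsgLib.Char.exists_indFun_eq_of_inertia hNT hθ' hI hχ
      (by rw [classInner_inSub hMH]; exact hne)
    let ψ : ↥T → ℂ := fun t => ψ' (eT.symm t)
    have hψ : IsIrrCharacter ↥T ψ :=
      CfsgLib.Char.IsIrrCharacter.comp_surjective hψ' eT.symm.toMonoidHom eT.symm.surjective
    have hcomp : (fun t => ψ (eT t)) = ψ' := funext fun t => congrArg ψ' (eT.symm_apply_apply t)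
    have hne2 : classInner (res M ψ) θ ≠ 0 := by
      rw [← hover, hcomp, hmul, classInner_inSub hMH]; exact hne
    have hd2 : ¬ p ∣ charDegree ψ := by
      rw [← hdeg hψ hne2, hcomp, hind]; exact hd
    exact ⟨⟨⟨ψ, hψ⟩, hd2, hne2⟩, Subtype.ext (Subtype.ext (by simp only [hcomp, hind]))⟩

end CfsgLib.PPrimeCount
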