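import Cfsg.Agent.PPrimeCount.RelGroup
import Mathlib.GroupTheory.Sylow

/-!
# Sylow subgroups inside an ambient group
-/

set_option autoImplicit false

namespace CfsgLib.PPrimeCount

universe u

variable {G : Type u} [Group G] [Finite G] {p : ℕ} [Fact p.Prime]

/-- A `p`-subgroup of index prime to `p` is mapped to one by conjugation. -/
theorem exists_conj_eq_sylow {T S S' : Subgroup G} (hST : S ≤ T) (hS : IsPGroup p ↥S)
    (hsyl : ¬ p ∣ S.relIndex T) (hS'T : S' ≤ T) (hS' : IsPGroup p ↥S') (hsyl' : ¬ p ∣ S'.relIndex T) :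
    ∃ t ∈ T, ∀ x : G, x ∈ S' ↔ t⁻¹ * x * t ∈ S := by
  let P1 : Sylow p ↥T := (hS.of_equiv (Subgroup.subgroupOfEquivOfLe hST).symm).toSylow hsyl
  let P2 : Sylow p ↥T := (hS'.of_equiv (Subgroup.subgroupOfEquivOfLe hS'T).symm).toSylow hsyl'
  obtain ⟨t, ht⟩ := MulAction.exists_smul_eq ↥T P1 P2
  refine ⟨t, t.2, fun x => ?_⟩
  have hmem : ∀ z : ↥T, z ∈ (P2 : Subgroup ↥T) ↔ t⁻¹ * z * t ∈ (P1 : Subgroup ↥T) := by
    intro z
    rw [← ht, Sylow.coe_subgroup_smul, Subgroup.mem_pointwise_smul_iff_inv_smul_mem]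
    simp [MulAut.smul_def]
  constructor
  · intro hx
    have h1 := (hmem ⟨x, hS'T hx⟩).mp (Subgroup.mem_subgroupOf.mpr hx)
    exact Subgroup.mem_subgroupOf.mp h1
  · intro hx
    have hxT : x ∈ T := by
      have := T.mul_mem (T.mul_mem t.2 (hST hx)) (T.inv_mem t.2)
      rwa [show (t : G) * ((t : G)⁻¹ * x * t) * (t : G)⁻¹ = x by group] at this
    exact Subgroup.mem_subgroupOf.mp ((hmem ⟨x, hxT⟩).mpr (Subgroup.mem_subgroupOf.mpr hx))

/-- A subgroup of index prime to `p` contains a conjugate of a Sylow `p`-subgroup. -/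
theorem exists_conj_le {H S T : Subgroup G} (hSH : S ≤ H) (hS : IsPGroup p ↥S) (hsyl : ¬ p ∣ S.relIndex H)
    (hTH : T ≤ H) (hidx : ¬ p ∣ T.relIndex H) :
    ∃ h ∈ H, ∀ s ∈ S, h * s * h⁻¹ ∈ T := by
  obtain ⟨P⟩ := (inferInstance : Nonempty (Sylow p ↥T))
  let S' : Subgroup G := (P : Subgroup ↥T).map T.subtype
  have hS'T : S' ≤ T := Subgroup.map_subtype_le _
  have hS' : IsPGroup p ↥S' := P.isPGroup'.map _
  have hrel : S'.relIndex T = (P : Subgroup ↥T).index := by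
    rw [Subgroup.relIndex, Subgroup.subgroupOf, Subgroup.comap_map_eq_self_of_injective T.subtype_injective]
  have hsyl' : ¬ p ∣ S'.relIndex H := by
    rw [← Subgroup.relIndex_mul_relIndex S' T H hS'T hTH, hrel]
    exact fun hd => ((Fact.out : p.Prime).dvd_mul.mp hd).elim (P.not_dvd_index) hidx
  obtain ⟨h, hh, hiff⟩ := exists_conj_eq_sylow hSH hS hsyl (hS'T.trans hTH) hS' hsyl'
  exact ⟨h, hh, fun s hs => hS'T ((hiff _).mpr (by simpa [mul_assoc] using hs))⟩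

end CfsgLib.PPrimeCount
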