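import Cfsg.Agent.PPrimeCount.Inertia
import Cfsg.Agent.PPrimeCount.SylowAux

/-!
# Counting over an intermediate normal subgroup
-/

set_option autoImplicit false

namespace CfsgLib.PPrimeCount

open Finset Cfsg
open GlaubermanCorr (InvBy Inv)

universe u

variable {G : Type u} [Group G]

theorem cj_cj {H : Subgroup G} {a b : G} (ha : a ∈ Subgroup.normalizer (H : Set G))
    (hb : b ∈ Subgroup.normalizer (H : Set G)) (θ : ↥H → ℂ) : cj H a (cj H b θ) = cj H (a * b) θ :=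
  funext fun h => by
    rw [cj_apply ha, cj_apply hb, cj_apply (mul_mem ha hb)]
    exact congrArg θ (Subtype.ext (by simp [mul_assoc]))

theorem invBy_cj {H : Subgroup G} {a : G} (ha : a ∈ Subgroup.normalizer (H : Set G)) {s : G}
    {θ : ↥H → ℂ} (h : InvBy H (a⁻¹ * s * a) θ) : InvBy H s (cj H a θ) := by
  intro k k' e
  rw [cj_apply ha, cj_apply ha]
  exact h _ _ (by simp only [e]; group)

variable [Fintype G]

open scoped Classical in
theorem classInner_res_ne_zero_trans {K D C : Subgroup G} [Fintype ↥C] [Fintype ↥D] (hDK : D ≤ K) (hCD : C ≤ D)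
    {χ : ↥K → ℂ} (hχ : IsCharacter ↥K χ) {ψ : ↥D → ℂ} (hψ : IsIrrCharacter ↥D ψ) {φ : ↥C → ℂ}
    (hφ : IsIrrCharacter ↥C φ) (h1 : classInner (res D χ) ψ ≠ 0) (h2 : classInner (res C ψ) φ ≠ 0) :
    classInner (res C χ) φ ≠ 0 := by
  have := Fintype.ofFinite (IrrCharacter ↥D)
  choose a ha using fun θ : IrrCharacter ↥D =>
    CfsgLib.Char.IsCharacter.exists_classInner_eq_natCast (isCharacter_res hDK hχ) θ.2
  choose b hb using fun θ : IrrCharacter ↥D =>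
    CfsgLib.Char.IsCharacter.exists_classInner_eq_natCast
      (isCharacter_res hCD (CfsgLib.Char.IsIrrCharacter.isCharacter θ.2)) hφ
  rw [res_eq (hCD.trans hDK), GlaubermanCorr.classInner_trans hDK hCD hχ,
    Finset.sum_congr rfl (g := fun θ : IrrCharacter ↥D => ((a θ * b θ : ℕ) : ℂ))
      (fun θ _ => by rw [← res_eq hDK, ← res_eq hCD, ha, hb, Nat.cast_mul]), ← Nat.cast_sum, Nat.cast_ne_zero]
  intro h0
  have h3 := (Finset.sum_eq_zero_iff.mp h0) ⟨ψ, hψ⟩ (Finset.mem_univ _)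
  rw [ha ⟨ψ, hψ⟩] at h1
  rw [hb ⟨ψ, hψ⟩] at h2
  exact (Nat.mul_eq_zero.mp h3).elim (fun h => h1 (by rw [h, Nat.cast_zero]))
    (fun h => h2 (by rw [h, Nat.cast_zero]))

open scoped Classical in
theorem exists_constituent_between {K D C : Subgroup G} [Fintype ↥C] [Fintype ↥D] (hDK : D ≤ K) (hCD : C ≤ D)
    {χ : ↥K → ℂ} (hχ : IsCharacter ↥K χ) {φ : ↥C → ℂ} (h : classInner (res C χ) φ ≠ 0) :
    ∃ ψ : IrrCharacter ↥D, classInner (res D χ) (ψ : ↥D → ℂ) ≠ 0 ∧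
      classInner (res C (ψ : ↥D → ℂ)) φ ≠ 0 := by
  have := Fintype.ofFinite (IrrCharacter ↥D)
  rw [res_eq (hCD.trans hDK), GlaubermanCorr.classInner_trans hDK hCD hχ] at h
  obtain ⟨ψ, -, hψ⟩ := Finset.exists_ne_zero_of_sum_ne_zero h
  exact ⟨ψ, by rw [res_eq hDK]; exact left_ne_zero_of_mul hψ, by rw [res_eq hCD]; exact right_ne_zero_of_mul hψ⟩

open scoped Classical in
/-- Over an invariant `ν` a conjugate character again lies. -/
theorem classInner_cj_over {K L : Subgroup G} (hLK : L ≤ K) {a : G} (haK : a ∈ Subgroup.normalizer (K : Set G))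
    (haL : a ∈ Subgroup.normalizer (L : Set G)) {ν : ↥L → ℂ} (hν : InvBy L a ν) (θ : ↥K → ℂ) :
    classInner (res L (cj K a θ)) ν = classInner (res L θ) ν := by
  conv_lhs => rw [← cj_eq_self haL hν]
  exact classInner_res_cj hLK haK haL θ ν

variable {p : ℕ} [Fact p.Prime]

open scoped Classical in
/-- Among the constituents of a character of degree prime to `p`, some is invariant under `S`. -/
theorem exists_inv_constituent {L K H S : Subgroup G} (hS : IsPGroup p ↥S) (hLK : L ≤ K) (hKH : K ≤ H)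
    (hSH : S ≤ H) (hsyl : ¬ p ∣ S.relIndex H) (hnK : ∀ h ∈ H, ∀ k ∈ K, h * k * h⁻¹ ∈ K)
    (hnL : ∀ h ∈ H, ∀ l ∈ L, h * l * h⁻¹ ∈ L) {ν : ↥L → ℂ} (hν : Inv L H ν) {χ : ↥H → ℂ}
    (hχ : IsIrrCharacter ↥H χ) (hdeg : ¬ p ∣ charDegree χ) (hover : classInner (res L χ) ν ≠ 0) :
    ∃ θ : IrrCharacter ↥K, Inv K S (θ : ↥K → ℂ) ∧ classInner (res L (θ : ↥K → ℂ)) ν ≠ 0 ∧
      classInner (res K χ) (θ : ↥K → ℂ) ≠ 0 := by
  obtain ⟨θ0, h1, h2⟩ := exists_constituent_between hKH hLK (CfsgLib.Char.IsIrrCharacter.isCharacter hχ) hover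
  obtain ⟨a, ha, haS⟩ := exists_conj_le hSH hS hsyl inf_le_left (not_dvd_index_stab hKH hnK θ0.2 hχ hdeg h1)
  have haK : a⁻¹ ∈ Subgroup.normalizer (K : Set G) := Subgroup.mem_normalizer_fintype (hnK a⁻¹ (inv_mem ha))
  have haL : a⁻¹ ∈ Subgroup.normalizer (L : Set G) := Subgroup.mem_normalizer_fintype (hnL a⁻¹ (inv_mem ha))
  refine ⟨⟨cj K a⁻¹ (θ0 : ↥K → ℂ), isIrrCharacter_cj haK θ0.2⟩, fun s hs => invBy_cj haK ?_, ?_, ?_⟩
  · rw [inv_inv]
    exact (Subgroup.mem_inf.mp (haS s hs)).2.2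
  · change classInner (res L (cj K a⁻¹ (θ0 : ↥K → ℂ))) ν ≠ 0
    rw [classInner_cj_over hLK haK haL (hν _ (inv_mem ha))]
    exact h2
  · change classInner (res K χ) (cj K a⁻¹ (θ0 : ↥K → ℂ)) ≠ 0
    have hH : a⁻¹ ∈ Subgroup.normalizer (H : Set G) := Subgroup.le_normalizer (inv_mem ha)
    rw [← cj_eq_self hH (GlaubermanCorr.inv_of_isClassFunction_mem (inv_mem ha)
      (CfsgLib.Char.IsIrrCharacter.isClassFunction hχ)), classInner_res_cj hKH hH haK]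
    exact h1

open scoped Classical in
/-- Two invariant constituents of one character are conjugate by the normalizer of `S`. -/
theorem exists_conj_of_constituents {K H S : Subgroup G} (hS : IsPGroup p ↥S) (hKH : K ≤ H) (hSH : S ≤ H)
    (hsyl : ¬ p ∣ S.relIndex H) (hnK : ∀ h ∈ H, ∀ k ∈ K, h * k * h⁻¹ ∈ K) {χ : ↥H → ℂ}
    (hχ : IsIrrCharacter ↥H χ) {θ θ' : ↥K → ℂ} (hθ : IsIrrCharacter ↥K θ) (hθS : Inv K S θ)
    (hθ' : IsIrrCharacter ↥K θ') (hθ'S : Inv K S θ') (h1 : classInner (res K χ) θ ≠ 0)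
    (h2 : classInner (res K χ) θ' ≠ 0) :
    ∃ t ∈ H ⊓ Subgroup.normalizer (S : Set G), cj K t θ = θ' := by
  have := subgroupOf_normal_of_conj hnK
  have hmem := CfsgLib.Char.mem_conjOrbit_of_constituent (N := K.subgroupOf H) hχ
    (isIrrCharacter_inSub hKH hθ) (isIrrCharacter_inSub hKH hθ')
    (by rw [classInner_inSub hKH]; exact h1) (by rw [classInner_inSub hKH]; exact h2)
  obtain ⟨g, hg⟩ := CfsgLib.Char.mem_conjOrbit.mp hmem
  have hN : ∀ {y : G}, y ∈ H → y ∈ Subgroup.normalizer (K : Set G) := fun hy =>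
    Subgroup.mem_normalizer_fintype (hnK _ hy)
  have hx : cj K (g : G)⁻¹ θ = θ' := funext fun k => by
    have := congrFun hg ⟨⟨k, hKH k.2⟩, Subgroup.mem_subgroupOf.mpr k.2⟩
    rw [CfsgLib.Char.conjOn_apply, inSub_apply, inSub_apply] at this
    rw [cj_apply (inv_mem (hN g.2))]
    exact (congrArg θ (Subtype.ext (by simp))).trans this.symm
  -- `S` and its conjugate fix `θ'`
  obtain ⟨x, hxH, hxθ⟩ : ∃ x ∈ H, cj K x θ = θ' := ⟨_, inv_mem g.2, hx⟩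
  obtain ⟨T, hT⟩ : ∃ T, T = H ⊓ stab K θ' := ⟨_, rfl⟩
  have hST : S ≤ T := hT ▸ le_inf hSH fun s hs => ⟨hN (hSH hs), hθ'S s hs⟩
  let S' : Subgroup G := S.map (MulAut.conj x).toMonoidHom
  have hS'T : S' ≤ T := by
    rintro _ ⟨s, hs, rfl⟩
    have hxs : x * s * x⁻¹ ∈ H := mul_mem (mul_mem hxH (hSH hs)) (inv_mem hxH)
    refine hT ▸ Subgroup.mem_inf.mpr ⟨hxs, hN hxs, ?_⟩
    rw [← hxθ]
    refine invBy_cj (hN hxH) ?_
    change InvBy K (x⁻¹ * (x * s * x⁻¹) * x) θ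
    rw [show x⁻¹ * (x * s * x⁻¹) * x = s by group]
    exact hθS s hs
  have hsylT : ¬ p ∣ S.relIndex T := fun hd => hsyl (by
    rw [← Subgroup.relIndex_mul_relIndex S T H hST (hT ▸ inf_le_left)]
    exact hd.mul_right _)
  have hS' : IsPGroup p ↥S' := hS.map _
  have hcard : Nat.card ↥S' = Nat.card ↥S := Subgroup.card_map_of_injective (MulAut.conj x).injective
  have hsylT' : ¬ p ∣ S'.relIndex T := by
    have hidx : ∀ A : Subgroup G, A ≤ T → Nat.card ↥A * A.relIndex T = Nat.card ↥T := fun A hA => by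
      rw [← Nat.card_congr (Subgroup.subgroupOfEquivOfLe hA).toEquiv]
      exact Subgroup.card_mul_index _
    have h := hidx S' hS'T
    rw [hcard, ← hidx S hST] at h
    rwa [Nat.eq_of_mul_eq_mul_left Nat.card_pos h]
  obtain ⟨t, ht, hiff⟩ := exists_conj_eq_sylow hST hS hsylT hS'T hS' hsylT'
  obtain ⟨htH, htK, htθ⟩ := Subgroup.mem_inf.mp (hT ▸ ht : t ∈ H ⊓ stab K θ')
  refine ⟨t⁻¹ * x, Subgroup.mem_inf.mpr ⟨mul_mem (inv_mem htH) hxH, Subgroup.mem_normalizer_fintype fun s hs => ?_⟩, ?_⟩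
  · have h3 := (hiff (x * s * x⁻¹)).mp ⟨s, hs, rfl⟩
    rw [show t⁻¹ * x * s * (t⁻¹ * x)⁻¹ = t⁻¹ * (x * s * x⁻¹) * t by group]
    exact h3
  · rw [← cj_cj (inv_mem htK) (hN hxH), hxθ]
    exact cj_eq_self (inv_mem htK) ((stab K θ').inv_mem ⟨htK, htθ⟩).2

open scoped Classical in
/-- The double count: the invariant characters of `K` over `ν` weighted by their stabilizers. -/
theorem pCount_sum {L K H S : Subgroup G} [Fintype (IrrCharacter ↥K)] (hS : IsPGroup p ↥S) (hLK : L ≤ K) (hKH : K ≤ H)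
    (hSH : S ≤ H) (hsyl : ¬ p ∣ S.relIndex H) (hnK : ∀ h ∈ H, ∀ k ∈ K, h * k * h⁻¹ ∈ K)
    (hnL : ∀ h ∈ H, ∀ l ∈ L, h * l * h⁻¹ ∈ L) {ν : ↥L → ℂ} (hν' : IsIrrCharacter ↥L ν) (hν : Inv L H ν) :
    ∑ θ ∈ (Finset.univ.filter fun θ : IrrCharacter ↥K =>
        Inv K S (θ : ↥K → ℂ) ∧ classInner (res L (θ : ↥K → ℂ)) ν ≠ 0),
      Nat.card ↥((H ⊓ Subgroup.normalizer (S : Set G)) ⊓ stab K (θ : ↥K → ℂ)) * pCount p H K (θ : ↥K → ℂ) =
    Nat.card ↥(H ⊓ Subgroup.normalizer (S : Set G)) * pCount p H L ν := by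
  have := Fintype.ofFinite (IrrCharacter ↥H)
  obtain ⟨T, hT⟩ : ∃ T, T = H ⊓ Subgroup.normalizer (S : Set G) := ⟨_, rfl⟩
  rw [← hT]
  have hTH : T ≤ H := hT ▸ inf_le_left
  have hTS : T ≤ Subgroup.normalizer (S : Set G) := hT ▸ inf_le_right
  have hTK : ∀ t ∈ T, t ∈ Subgroup.normalizer (K : Set G) := fun t ht =>
    Subgroup.mem_normalizer_fintype (hnK t (hTH ht))
  have hTL : ∀ t ∈ T, t ∈ Subgroup.normalizer (L : Set G) := fun t ht =>
    Subgroup.mem_normalizer_fintype (hnL t (hTH ht))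
  set Θ := Finset.univ.filter fun θ : IrrCharacter ↥K =>
    Inv K S (θ : ↥K → ℂ) ∧ classInner (res L (θ : ↥K → ℂ)) ν ≠ 0
  set X := Finset.univ.filter fun χ : IrrCharacter ↥H =>
    ¬ p ∣ charDegree (χ : ↥H → ℂ) ∧ classInner (res L (χ : ↥H → ℂ)) ν ≠ 0
  have hcL : pCount p H L ν = X.card := by
    rw [pCount_def, Nat.card_eq_fintype_card, Fintype.card_subtype]
  have hcK : ∀ θ ∈ Θ, pCount p H K (θ : ↥K → ℂ) =
      (X.filter fun χ : IrrCharacter ↥H => classInner (res K (χ : ↥H → ℂ)) (θ : ↥K → ℂ) ≠ 0).card := by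
    intro θ hθ
    rw [pCount_def, Nat.card_eq_fintype_card, Fintype.card_subtype, Finset.filter_filter]
    congr 1
    refine Finset.filter_congr fun χ _ => ⟨fun h => ⟨⟨h.1, ?_⟩, h.2⟩, fun h => ⟨h.1.1, h.2⟩⟩
    exact classInner_res_ne_zero_trans hKH hLK (CfsgLib.Char.IsIrrCharacter.isCharacter χ.2) θ.2 hν' h.2
      (Finset.mem_filter.mp hθ).2.2
  have hkey : ∀ χ ∈ X, ∑ θ ∈ Θ.filter (fun θ : IrrCharacter ↥K =>
      classInner (res K (χ : ↥H → ℂ)) (θ : ↥K → ℂ) ≠ 0), Nat.card ↥(T ⊓ stab K (θ : ↥K → ℂ)) = Nat.card ↥T := by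
    intro χ hχ
    obtain ⟨hdeg, hover⟩ := (Finset.mem_filter.mp hχ).2
    obtain ⟨θ0, hθ0S, hθ0ν, hθ0χ⟩ := exists_inv_constituent hS hLK hKH hSH hsyl hnK hnL hν χ.2 hdeg hover
    have hmap : ∀ t : ↥T, (⟨cj K (t : G) (θ0 : ↥K → ℂ), isIrrCharacter_cj (hTK t t.2) θ0.2⟩ : IrrCharacter ↥K) ∈
        Θ.filter (fun θ : IrrCharacter ↥K => classInner (res K (χ : ↥H → ℂ)) (θ : ↥K → ℂ) ≠ 0) := by
      rintro ⟨t, ht⟩
      refine Finset.mem_filter.mpr ⟨Finset.mem_filter.mpr ⟨Finset.mem_univ _, inv_cj (hTK t ht) (hTS ht) hθ0S, ?_⟩, ?_⟩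
      · change classInner (res L (cj K t (θ0 : ↥K → ℂ))) ν ≠ 0
        rw [classInner_cj_over hLK (hTK t ht) (hTL t ht) (hν t (hTH ht))]
        exact hθ0ν
      · change classInner (res K (χ : ↥H → ℂ)) (cj K t (θ0 : ↥K → ℂ)) ≠ 0
        rw [← cj_eq_self (Subgroup.le_normalizer (hTH ht)) (GlaubermanCorr.inv_of_isClassFunction_mem (hTH ht)
          (CfsgLib.Char.IsIrrCharacter.isClassFunction χ.2)),
          classInner_res_cj hKH (Subgroup.le_normalizer (hTH ht)) (hTK t ht)]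
        exact hθ0χ
    rw [Nat.card_eq_fintype_card, ← Finset.card_univ,
      Finset.card_eq_sum_card_fiberwise (f := fun t : ↥T =>
        (⟨cj K (t : G) (θ0 : ↥K → ℂ), isIrrCharacter_cj (hTK t t.2) θ0.2⟩ : IrrCharacter ↥K))
        (fun t _ => hmap t)]
    refine Finset.sum_congr rfl fun θ hθ => ?_
    obtain ⟨hθΘ, hθχ⟩ := Finset.mem_filter.mp hθ
    obtain ⟨t0, ht0, hθt⟩ := exists_conj_of_constituents hS hKH hSH hsyl hnK χ.2 θ0.2 hθ0S θ.2
      (Finset.mem_filter.mp hθΘ).2.1 hθ0χ hθχ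
    rw [← hT] at ht0
    rw [← Nat.card_eq_finsetCard]
    refine Nat.card_congr
      { toFun := fun u => ⟨⟨(u : G) * t0, mul_mem (Subgroup.mem_inf.mp u.2).1 ht0⟩, Finset.mem_filter.mpr
          ⟨Finset.mem_univ _, Subtype.ext ?_⟩⟩
        invFun := fun t => ⟨(t.1 : G) * t0⁻¹, Subgroup.mem_inf.mpr ⟨mul_mem t.1.2 (inv_mem ht0), ?_⟩⟩
        left_inv := fun u => Subtype.ext (by simp)
        right_inv := fun t => Subtype.ext (Subtype.ext (by simp)) }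
    · change cj K ((u : G) * t0) (θ0 : ↥K → ℂ) = θ
      rw [← cj_cj (Subgroup.mem_inf.mp u.2).2.1 (hTK t0 ht0), hθt]
      exact cj_eq_self (Subgroup.mem_inf.mp u.2).2.1 (Subgroup.mem_inf.mp u.2).2.2
    · have h1 : cj K (t.1 : G) (θ0 : ↥K → ℂ) = θ := congrArg Subtype.val (Finset.mem_filter.mp t.2).2
      refine ⟨mul_mem (hTK _ t.1.2) (inv_mem (hTK t0 ht0)), invBy_of_cj_eq (mul_mem (hTK _ t.1.2) (inv_mem (hTK t0 ht0))) ?_⟩
      conv_lhs => rw [← hθt]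
      rw [cj_cj (mul_mem (hTK _ t.1.2) (inv_mem (hTK t0 ht0))) (hTK t0 ht0), inv_mul_cancel_right]
      exact h1
  calc ∑ θ ∈ Θ, Nat.card ↥(T ⊓ stab K (θ : ↥K → ℂ)) * pCount p H K (θ : ↥K → ℂ)
      = ∑ θ ∈ Θ, ∑ χ ∈ X, if classInner (res K (χ : ↥H → ℂ)) (θ : ↥K → ℂ) ≠ 0
          then Nat.card ↥(T ⊓ stab K (θ : ↥K → ℂ)) else 0 := by
        refine Finset.sum_congr rfl fun θ hθ => ?_
        rw [hcK θ hθ, ← Finset.sum_filter, Finset.sum_const, smul_eq_mul, mul_comm]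
    _ = ∑ χ ∈ X, ∑ θ ∈ Θ, if classInner (res K (χ : ↥H → ℂ)) (θ : ↥K → ℂ) ≠ 0
          then Nat.card ↥(T ⊓ stab K (θ : ↥K → ℂ)) else 0 := Finset.sum_comm
    _ = ∑ χ ∈ X, Nat.card ↥T := Finset.sum_congr rfl fun χ hχ => by rw [← Finset.sum_filter, hkey χ hχ]
    _ = Nat.card ↥T * pCount p H L ν := by rw [hcL, Finset.sum_const, smul_eq_mul, mul_comm]

end CfsgLib.PPrimeCount
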