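import Cfsg.Agent.Solvable.Basics
import Cfsg.Prelude.Def_Local

/-!
# The first factor of a `p`-series above a normal subgroup
-/

set_option autoImplicit false

namespace CfsgLib.PPrimeCount

open Cfsg

universe u

variable {G : Type u} [Group G] [Finite G]

theorem card_mul_relIndex_of_le {A B : Subgroup G} (h : A ≤ B) :
    Nat.card ↥A * A.relIndex B = Nat.card ↥B := by
  rw [← Nat.card_congr (Subgroup.subgroupOfEquivOfLe h).toEquiv]
  exact Subgroup.card_mul_index _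

theorem relIndex_sup_eq {A M : Subgroup G} (h : A ≤ Subgroup.normalizer (M : Set G)) :
    M.relIndex (A ⊔ M) = (A ⊓ M).relIndex A := by
  have h1 := CfsgLib.Solvable.card_sup_mul_card_inf (A := A) (K := M) h
  rw [← card_mul_relIndex_of_le (le_sup_right (a := A) (b := M)),
    ← card_mul_relIndex_of_le (inf_le_left (a := A) (b := M))] at h1
  have h2 : (Nat.card ↥M * Nat.card ↥(A ⊓ M)) * M.relIndex (A ⊔ M) =
      (Nat.card ↥M * Nat.card ↥(A ⊓ M)) * (A ⊓ M).relIndex A := by linarith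
  exact Nat.eq_of_mul_eq_mul_left (Nat.mul_pos Nat.card_pos Nat.card_pos) h2

/-- Above a proper normal subgroup of a subgroup of a `p`-soluble group lies a normal subgroup with
factor a `p`-group or a `p'`-group. -/
theorem exists_series_step {p : ℕ} [Fact p.Prime] (hG : IsPSolvable p G) {L H : Subgroup G} (hLH : L < H)
    (hnL : ∀ h ∈ H, ∀ l ∈ L, h * l * h⁻¹ ∈ L) :
    ∃ K : Subgroup G, L < K ∧ K ≤ H ∧ (∀ h ∈ H, ∀ k ∈ K, h * k * h⁻¹ ∈ K) ∧
      ((∃ m : ℕ, L.relIndex K = p ^ m) ∨ ¬ p ∣ L.relIndex K) := by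
  classical
  obtain ⟨n, Hs, h0, hlast, hmono, hnormal, hfac⟩ := hG
  have hex : ∃ i : ℕ, ∃ hi : i < n + 1, ¬ Hs ⟨i, hi⟩ ⊓ H ≤ L :=
    ⟨n, Nat.lt_succ_self n, fun h => hLH.not_ge (fun x hx => h (Subgroup.mem_inf.mpr
      ⟨(hlast.symm ▸ Subgroup.mem_top x : x ∈ Hs (Fin.last n)), hx⟩))⟩
  obtain ⟨hi, hnot⟩ := Nat.find_spec hex
  obtain ⟨i, hidef⟩ : ∃ i, i = Nat.find hex := ⟨_, rfl⟩
  have hi0 : i ≠ 0 := fun h => hnot (by
    have : (⟨Nat.find hex, hi⟩ : Fin (n + 1)) = 0 := Fin.ext (hidef ▸ h)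
    rw [this, h0, bot_inf_eq]; exact bot_le)
  obtain ⟨j, rfl⟩ := Nat.exists_eq_succ_of_ne_zero hi0
  have hjn : j < n := by omega
  have hprev : Hs (Fin.castSucc ⟨j, hjn⟩) ⊓ H ≤ L := by
    by_contra hc
    exact Nat.find_min hex (m := j) (by omega) ⟨by omega, hc⟩
  have hnext : ¬ Hs (Fin.succ ⟨j, hjn⟩) ⊓ H ≤ L := by
    have : (Fin.succ ⟨j, hjn⟩ : Fin (n + 1)) = ⟨Nat.find hex, hi⟩ := Fin.ext hidef
    rw [this]; exact hnot
  set N1 := Hs (Fin.castSucc ⟨j, hjn⟩)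
  set N2 := Hs (Fin.succ ⟨j, hjn⟩)
  have hN12 : N1 ≤ N2 := hmono (Fin.castSucc_le_succ ⟨j, hjn⟩)
  obtain ⟨A, hA⟩ : ∃ A, A = N2 ⊓ H := ⟨_, rfl⟩
  have hAH : A ≤ H := hA ▸ inf_le_right
  have hAL : A ≤ Subgroup.normalizer (L : Set G) := fun a ha =>
    Subgroup.mem_normalizer_fintype (hnL a (hAH ha))
  refine ⟨A ⊔ L, lt_of_le_of_ne le_sup_right fun h => hnext (hA ▸ h.symm ▸ le_sup_left), sup_le hAH hLH.le,
    fun h hh k hk => ?_, ?_⟩
  · have hle : A ⊔ L ≤ (A ⊔ L).comap (MulAut.conj h).toMonoidHom := by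
      refine sup_le (fun a ha => Subgroup.mem_sup_left ?_) (fun l hl => Subgroup.mem_sup_right (hnL h hh l hl))
      subst hA
      exact Subgroup.mem_inf.mpr ⟨(hnormal _).conj_mem a (Subgroup.mem_inf.mp ha).1 h,
        mul_mem (mul_mem hh (Subgroup.mem_inf.mp ha).2) (inv_mem hh)⟩
    exact hle hk
  · have hdvd : L.relIndex (A ⊔ L) ∣ N1.relIndex N2 := by
      rw [relIndex_sup_eq hAL]
      have h1 : (A ⊓ N1).relIndex A ∣ N1.relIndex N2 := by
        have hn1 : A ≤ Subgroup.normalizer (N1 : Set G) := fun a _ =>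
          Subgroup.mem_normalizer_fintype fun x hx => (hnormal _).conj_mem x hx a
        rw [← relIndex_sup_eq hn1, ← Subgroup.relIndex_mul_relIndex N1 (A ⊔ N1) N2 le_sup_right
          (sup_le (hA ▸ inf_le_left) hN12)]
        exact dvd_mul_right _ _
      refine dvd_trans ?_ h1
      have hle : A ⊓ N1 ≤ A ⊓ L := le_inf inf_le_left fun x hx =>
        hprev (Subgroup.mem_inf.mpr ⟨(Subgroup.mem_inf.mp hx).2, hAH (Subgroup.mem_inf.mp hx).1⟩)
      rw [← Subgroup.relIndex_mul_relIndex (A ⊓ N1) (A ⊓ L) A hle inf_le_left]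
      exact dvd_mul_left _ _
    rcases hfac ⟨j, hjn⟩ with ⟨m, hm⟩ | hco
    · rw [hm] at hdvd
      obtain ⟨m', -, hm'⟩ := (Nat.dvd_prime_pow Fact.out).mp hdvd
      exact Or.inl ⟨m', hm'⟩
    · exact Or.inr fun hd =>
        (Fact.out : p.Prime).not_dvd_one (Nat.dvd_gcd (hd.trans hdvd) dvd_rfl |>.trans hco.gcd_eq_one.dvd)

end CfsgLib.PPrimeCount
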