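import Cfsg.Agent.PPrimeCount.Core
import Cfsg.Agent.PPrimeCount.Orbit
import Cfsg.Agent.PPrimeCount.Series

/-!
# The relative count in `p`-soluble groups
-/

set_option autoImplicit false

namespace CfsgLib.PPrimeCount

open Finset Cfsg
open GlaubermanCorr (InvBy Inv)

universe u

variable {G : Type u} [Group G] [Fintype G] {p : ℕ} [Fact p.Prime]

omit [Fact p.Prime] [Fintype G] in
theorem relIndex_lt_of_le_of_ne [Finite G] {A B C : Subgroup G} (hAB : A ≤ B) (hBC : B ≤ C) (hne : B ≠ C) :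
    A.relIndex B < A.relIndex C := by
  rw [← Subgroup.relIndex_mul_relIndex A B C hAB hBC]
  refine lt_mul_of_one_lt_right (Nat.pos_of_ne_zero (Subgroup.index_ne_zero_of_finite (H := A.subgroupOf B))) ?_
  have h1 : B.relIndex C ≠ 1 := fun h => hne (le_antisymm hBC (Subgroup.relIndex_eq_one.mp h))
  have h2 : B.relIndex C ≠ 0 := Subgroup.index_ne_zero_of_finite (H := B.subgroupOf C)
  omega

omit [Fact p.Prime] [Fintype G] in
theorem relIndex_lt_of_lt_left [Finite G] {A B C : Subgroup G} (hAB : A < B) (hBC : B ≤ C) :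
    B.relIndex C < A.relIndex C := by
  rw [← Subgroup.relIndex_mul_relIndex A B C hAB.le hBC]
  refine lt_mul_of_one_lt_left (Nat.pos_of_ne_zero (Subgroup.index_ne_zero_of_finite (H := B.subgroupOf C))) ?_
  have h1 : A.relIndex B ≠ 1 := fun h => hAB.not_ge (Subgroup.relIndex_eq_one.mp h)
  have h2 : A.relIndex B ≠ 0 := Subgroup.index_ne_zero_of_finite (H := A.subgroupOf B)
  omega

omit [Fintype G] in
/-- Frattini argument. -/
theorem exists_mul_normalizer [Finite G] {M S H : Subgroup G} (hS : IsPGroup p ↥S) (hMH : M ≤ H) (hSH : S ≤ H)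
    (hsyl : ¬ p ∣ S.relIndex H) (hnM : ∀ h ∈ H, ∀ m ∈ M, h * m * h⁻¹ ∈ M) {x : G} (hx : x ∈ H)
    (hconj : ∀ s ∈ S, x * s * x⁻¹ ∈ M ⊔ S) :
    ∃ m ∈ M, ∃ t ∈ H ⊓ Subgroup.normalizer (S : Set G), x = m * t := by
  have hsylMS : ¬ p ∣ S.relIndex (M ⊔ S) := fun hd => hsyl (by
    rw [← Subgroup.relIndex_mul_relIndex S (M ⊔ S) H le_sup_right (sup_le hMH hSH)]
    exact hd.mul_right _)
  let S' : Subgroup G := S.map (MulAut.conj x).toMonoidHom
  have hS'le : S' ≤ M ⊔ S := by rintro _ ⟨s, hs, rfl⟩; exact hconj s hs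
  have hcard : Nat.card ↥S' = Nat.card ↥S := Subgroup.card_map_of_injective (MulAut.conj x).injective
  have hsyl' : ¬ p ∣ S'.relIndex (M ⊔ S) := by
    have h := card_mul_relIndex_of_le hS'le
    rw [hcard, ← card_mul_relIndex_of_le (le_sup_right (a := M) (b := S))] at h
    rwa [Nat.eq_of_mul_eq_mul_left Nat.card_pos h]
  obtain ⟨y, hy, hiff⟩ := exists_conj_eq_sylow le_sup_right hS hsylMS hS'le (hS.map _) hsyl'
  have hSM : S ≤ Subgroup.normalizer (M : Set G) := fun s hs =>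
    Subgroup.mem_normalizer_fintype (hnM s (hSH hs))
  obtain ⟨m, hm, s0, hs0, rfl⟩ := exists_mul_of_mem_sup hSM hy
  refine ⟨m, hm, m⁻¹ * x, Subgroup.mem_inf.mpr ⟨mul_mem (inv_mem (hMH hm)) hx, ?_⟩, by rw [mul_inv_cancel_left]⟩
  refine Subgroup.mem_normalizer_fintype fun s hs => ?_
  have h1 := (hiff (x * s * x⁻¹)).mp ⟨s, hs, rfl⟩
  have h2 := mul_mem (mul_mem hs0 h1) (inv_mem hs0)
  rwa [show s0 * ((m * s0)⁻¹ * (x * s * x⁻¹) * (m * s0)) * s0⁻¹ = m⁻¹ * x * s * (m⁻¹ * x)⁻¹ by group] at h2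

open scoped Classical in
/-- The count over `ν` on the two sides when `H = K N_H(S)` and `K / L` has order prime to `p`. -/
theorem pCount_eq_of_datum {K L S C H : Subgroup G} (h : Datum p K L S C) (hKH : K ≤ H) (hSH : S ≤ H)
    (hsyl : ¬ p ∣ S.relIndex H) (hnK : ∀ x ∈ H, ∀ k ∈ K, x * k * x⁻¹ ∈ K)
    (hnL : ∀ x ∈ H, ∀ l ∈ L, x * l * x⁻¹ ∈ L)
    (htop : ∀ x ∈ H, ∃ k ∈ K, ∃ t ∈ H ⊓ Subgroup.normalizer (S : Set G), x = k * t)
    {ν : ↥L → ℂ} (hν' : IsIrrCharacter ↥L ν) (hν : Inv L H ν) :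
    pCount p H L ν = pCount p (C ⊔ H ⊓ Subgroup.normalizer (S : Set G)) L ν := by
  have := Fintype.ofFinite (IrrCharacter ↥K)
  have := Fintype.ofFinite (IrrCharacter ↥C)
  obtain ⟨T, hT⟩ : ∃ T, T = H ⊓ Subgroup.normalizer (S : Set G) := ⟨_, rfl⟩
  rw [← hT] at htop ⊢
  have hTH : T ≤ H := hT ▸ inf_le_left
  have hTS : T ≤ Subgroup.normalizer (S : Set G) := hT ▸ inf_le_right
  have hST : S ≤ T := hT ▸ le_inf hSH Subgroup.le_normalizer
  have hTK : T ≤ Subgroup.normalizer (K : Set G) := fun t ht => Subgroup.mem_normalizer_fintype (hnK t (hTH ht))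
  have hTL : T ≤ Subgroup.normalizer (L : Set G) := fun t ht => Subgroup.mem_normalizer_fintype (hnL t (hTH ht))
  have hTC : T ≤ Subgroup.normalizer (C : Set G) := fun t ht => h.mem_normalizer (hTK ht) (hTL ht) (hTS ht)
  obtain ⟨J, hJ⟩ : ∃ J, J = C ⊔ T := ⟨_, rfl⟩
  rw [← hJ]
  have hCJ : C ≤ J := hJ ▸ le_sup_left
  have hTJ : T ≤ J := hJ ▸ le_sup_right
  have hJH : J ≤ H := hJ ▸ sup_le (h.C_le.trans hKH) hTH
  have hnC : ∀ x ∈ J, ∀ c ∈ C, x * c * x⁻¹ ∈ C := fun x hx c hc =>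
    conj_mem_of_normalizer (sup_le_normalizer_left hTC (hJ ▸ hx)) hc
  have hsylJ : ¬ p ∣ S.relIndex J := fun hd => hsyl (by
    rw [← Subgroup.relIndex_mul_relIndex S J H (hST.trans hTJ) hJH]
    exact hd.mul_right _)
  have hJT : J ⊓ Subgroup.normalizer (S : Set G) = T :=
    le_antisymm (hT ▸ inf_le_inf_right _ hJH) (le_inf hTJ hTS)
  have e1 := pCount_sum h.pgroup h.le hKH hSH hsyl hnK hnL hν' hν
  have e2 := pCount_sum (H := J) h.pgroup h.L_le_C hCJ (hST.trans hTJ) hsylJ hnC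
    (fun x hx => hnL x (hJH hx)) hν' (fun x hx => hν x (hJH hx))
  rw [← hT] at e1
  rw [hJT] at e2
  refine Nat.eq_of_mul_eq_mul_left (Nat.card_pos (α := ↥T)) (e1.symm.trans (Eq.trans ?_ e2))
  have hex : ∀ θ ∈ Finset.univ.filter fun θ : IrrCharacter ↥K =>
      Inv K S (θ : ↥K → ℂ) ∧ classInner (res L (θ : ↥K → ℂ)) ν ≠ 0,
      ∃ φ : IrrCharacter ↥C, Inv C S (φ : ↥C → ℂ) ∧ Rel p K C (θ : ↥K → ℂ) (φ : ↥C → ℂ) := fun θ hθ => by
    obtain ⟨φ, hφ, hφS, hr⟩ := h.exists_rel θ.2 (Finset.mem_filter.mp hθ).2.1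
    exact ⟨⟨φ, hφ⟩, hφS, hr⟩
  choose f hfS hfr using hex
  have hne : ∀ {θ : ↥K → ℂ} {φ : ↥C → ℂ}, Rel p K C θ φ → classInner (res C θ) φ ≠ 0 := fun hr => by
    obtain ⟨m, hm, hm0⟩ := rel_iff.mp hr
    rw [hm]
    intro h0
    exact hm0 (by rw [show m = 0 by exact_mod_cast h0, Nat.cast_zero])
  have hover : ∀ {θ : ↥K → ℂ} {φ : ↥C → ℂ}, IsIrrCharacter ↥K θ → IsIrrCharacter ↥C φ → Rel p K C θ φ →
      (classInner (res L θ) ν ≠ 0 ↔ classInner (res L φ) ν ≠ 0) := by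
    intro θ φ hθ hφ hr
    constructor
    · intro h1
      have hLK : Inv L K ν := fun x hx => hν x (hKH hx)
      have hsm := res_eq_smul h.le (fun x hx => hnL x (hKH hx)) hθ hν' hLK h1
      obtain ⟨ν', hν'irr, hne'⟩ := CfsgLib.Char.IsCharacter.exists_constituent
        (isCharacter_res h.L_le_C (CfsgLib.Char.IsIrrCharacter.isCharacter hφ)) (fun h0 => by
          have h2 := congrFun h0 1
          rw [res_apply φ 1 (one_mem C), Pi.zero_apply] at h2
          exact CfsgLib.Char.IsIrrCharacter.apply_one_ne_zero hφ h2)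
      have h3 := classInner_res_ne_zero_trans h.C_le h.L_le_C (CfsgLib.Char.IsIrrCharacter.isCharacter hθ) hφ
        hν'irr (hne hr) hne'
      suffices ν' = ν by rwa [this] at hne'
      by_contra hd
      rw [hsm, CfsgLib.Char.classInner_smul_left, CfsgLib.Char.IsIrrCharacter.classInner_of_ne hν' hν'irr (Ne.symm hd),
        mul_zero] at h3
      exact h3 rfl
    · exact fun h1 => classInner_res_ne_zero_trans h.C_le h.L_le_C (CfsgLib.Char.IsIrrCharacter.isCharacter hθ) hφ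
        hν' (hne hr) h1
  refine Finset.sum_bij f (fun θ hθ => ?_) (fun θ hθ θ' hθ' e => ?_) (fun φ hφ => ?_) (fun θ hθ => ?_)
  · exact Finset.mem_filter.mpr ⟨Finset.mem_univ _, hfS θ hθ,
      (hover θ.2 (f θ hθ).2 (hfr θ hθ)).mp (Finset.mem_filter.mp hθ).2.2⟩
  · exact Subtype.ext (h.rel_unique_above θ.2 (Finset.mem_filter.mp hθ).2.1 θ'.2 (Finset.mem_filter.mp hθ').2.1
      (f θ hθ).2 (hfS θ hθ) (hfr θ hθ) (e ▸ hfr θ' hθ'))
  · obtain ⟨θ, hθ, hθS, hr⟩ := h.exists_rel_above φ.2 (Finset.mem_filter.mp hφ).2.1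
    have hmem : (⟨θ, hθ⟩ : IrrCharacter ↥K) ∈ Finset.univ.filter fun θ : IrrCharacter ↥K =>
        Inv K S (θ : ↥K → ℂ) ∧ classInner (res L (θ : ↥K → ℂ)) ν ≠ 0 :=
      Finset.mem_filter.mpr ⟨Finset.mem_univ _, hθS, (hover hθ φ.2 hr).mpr (Finset.mem_filter.mp hφ).2.2⟩
    exact ⟨⟨θ, hθ⟩, hmem, Subtype.ext (h.rel_unique hθ hθS (f _ hmem).2 (hfS _ hmem) φ.2
      (Finset.mem_filter.mp hφ).2.1 (hfr _ hmem) hr)⟩
  · obtain ⟨φ, hφdef⟩ : ∃ φ, φ = f θ hθ := ⟨_, rfl⟩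
    have hθS := (Finset.mem_filter.mp hθ).2.1
    have hφS : Inv C S (φ : ↥C → ℂ) := hφdef ▸ hfS θ hθ
    have hr : Rel p K C (θ : ↥K → ℂ) (φ : ↥C → ℂ) := hφdef ▸ hfr θ hθ
    rw [← hφdef]
    have hstab : T ⊓ stab K (θ : ↥K → ℂ) = T ⊓ stab C (φ : ↥C → ℂ) := by
      ext t
      simp only [Subgroup.mem_inf, mem_stab]
      refine and_congr_right fun ht => ?_
      rw [h.invBy_of_rel θ.2 hθS φ.2 hφS hr (hTK ht) (hTL ht) (hTS ht)]
      exact ⟨fun h1 => ⟨hTC ht, h1.2⟩, fun h1 => ⟨hTK ht, h1.2⟩⟩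
    obtain ⟨Hθ, hHθ⟩ : ∃ A, A = H ⊓ stab K (θ : ↥K → ℂ) := ⟨_, rfl⟩
    have hSθ : S ≤ Hθ := hHθ ▸ le_inf hSH fun s hs => ⟨hTK (hST hs), hθS s hs⟩
    have hKθ : K ≤ Hθ := hHθ ▸ le_inf hKH (le_stab (CfsgLib.Char.IsIrrCharacter.isClassFunction θ.2))
    have hθH : Hθ ≤ H := hHθ ▸ inf_le_left
    have hθst : Hθ ≤ stab K (θ : ↥K → ℂ) := hHθ ▸ inf_le_right
    have hsylθ : ¬ p ∣ S.relIndex Hθ := fun hd => hsyl (by
      rw [← Subgroup.relIndex_mul_relIndex S Hθ H hSθ hθH]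
      exact hd.mul_right _)
    have hidx : ¬ p ∣ Hθ.relIndex H := fun hd => hsyl (by
      rw [← Subgroup.relIndex_mul_relIndex S Hθ H hSθ hθH]
      exact hd.mul_left _)
    have hTθ : Hθ ⊓ Subgroup.normalizer (S : Set G) = T ⊓ stab K (θ : ↥K → ℂ) := by
      rw [hHθ, hT, inf_right_comm]
    have hcore := pCount_eq_core h hKθ hSθ hsylθ (fun x hx => hnK x (hθH hx)) (fun x hx => hnL x (hθH hx))
      (fun x hx => by
        obtain ⟨k, hk, t, ht, e⟩ := htop x (hθH hx)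
        refine ⟨k, hk, t, ?_, e⟩
        rw [hTθ]
        refine Subgroup.mem_inf.mpr ⟨ht, ?_⟩
        rw [show t = k⁻¹ * x by rw [e, inv_mul_cancel_left]]
        exact mul_mem (inv_mem (le_stab (CfsgLib.Char.IsIrrCharacter.isClassFunction θ.2) hk)) (hθst hx))
      θ.2 (fun x hx => (hθst hx).2) φ.2 hφS hr
    rw [hTθ, hstab] at hcore
    obtain ⟨Jφ, hJφ⟩ : ∃ A, A = J ⊓ stab C (φ : ↥C → ℂ) := ⟨_, rfl⟩
    have hJφeq : C ⊔ T ⊓ stab C (φ : ↥C → ℂ) = Jφ := by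
      rw [hJφ]
      refine le_antisymm (sup_le (le_inf hCJ (le_stab (CfsgLib.Char.IsIrrCharacter.isClassFunction φ.2)))
        (inf_le_inf_right _ hTJ)) fun x hx => ?_
      obtain ⟨hxJ, hxs⟩ := Subgroup.mem_inf.mp hx
      obtain ⟨c, hc, t, ht, rfl⟩ := exists_mul_of_mem_sup hTC (hJ ▸ hxJ)
      refine mul_mem (Subgroup.mem_sup_left hc) (Subgroup.mem_sup_right (Subgroup.mem_inf.mpr ⟨ht, ?_⟩))
      simpa using mul_mem (inv_mem (le_stab (CfsgLib.Char.IsIrrCharacter.isClassFunction φ.2) hc)) hxs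
    have hSφ : S ≤ Jφ := hJφ ▸ le_inf (hST.trans hTJ) fun s hs => ⟨hTC (hST hs), hφS s hs⟩
    have hidxJ : ¬ p ∣ Jφ.relIndex J := fun hd => hsylJ (by
      rw [← Subgroup.relIndex_mul_relIndex S Jφ J hSφ (hJφ ▸ inf_le_left)]
      exact hd.mul_left _)
    rw [hstab, pCount_inertia hKH hnK θ.2 (hHθ ▸ hidx), ← hHθ, hcore, hJφeq,
      pCount_inertia hCJ hnC φ.2 (hJφ ▸ hidxJ), ← hJφ]

open scoped Classical in
theorem pCount_eq_aux (hG : IsPSolvable p G) {S : Subgroup G} (hS : IsPGroup p ↥S) (n : ℕ) :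
    ∀ (L H : Subgroup G), L.relIndex H = n → L ≤ H → S ≤ H → ¬ p ∣ S.relIndex H →
      (∀ h ∈ H, ∀ l ∈ L, h * l * h⁻¹ ∈ L) → ∀ (ν : ↥L → ℂ), IsIrrCharacter ↥L ν → Inv L S ν →
      pCount p H L ν = pCount p (H ⊓ Subgroup.normalizer ((L ⊔ S : Subgroup G) : Set G)) L ν := by
  induction n using Nat.strong_induction_on with | _ n ih =>
  intro L H hn hLH hSH hsyl hnL ν hν' hνS
  obtain ⟨N, hN⟩ : ∃ N, N = Subgroup.normalizer ((L ⊔ S : Subgroup G) : Set G) := ⟨_, rfl⟩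
  rw [← hN]
  by_cases hHN : H ≤ N
  · rw [inf_eq_left.mpr hHN]
  have hLN : L ≤ N := hN ▸ le_sup_left.trans Subgroup.le_normalizer
  have hSN : S ≤ N := hN ▸ le_sup_right.trans Subgroup.le_normalizer
  -- the inertia group of `ν`
  obtain ⟨I, hI⟩ : ∃ I, I = H ⊓ stab L ν := ⟨_, rfl⟩
  have hSI : S ≤ I := hI ▸ le_inf hSH fun s hs => ⟨Subgroup.mem_normalizer_fintype (hnL s (hSH hs)), hνS s hs⟩
  have hLI : L ≤ I := hI ▸ le_inf hLH (le_stab (CfsgLib.Char.IsIrrCharacter.isClassFunction hν'))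
  have hIH : I ≤ H := hI ▸ inf_le_left
  by_cases hIne : I ≠ H
  · have hidx : ¬ p ∣ I.relIndex H := fun hd => hsyl (by
      rw [← Subgroup.relIndex_mul_relIndex S I H hSI hIH]
      exact hd.mul_left _)
    have hsylI : ¬ p ∣ S.relIndex I := fun hd => hsyl (by
      rw [← Subgroup.relIndex_mul_relIndex S I H hSI hIH]
      exact hd.mul_right _)
    have hNI : (H ⊓ N) ⊓ stab L ν = I ⊓ N := by rw [hI, inf_right_comm]
    have hSHN : S ≤ H ⊓ N := le_inf hSH hSN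
    have hidx' : ¬ p ∣ ((H ⊓ N) ⊓ stab L ν).relIndex (H ⊓ N) := fun hd => hsyl (by
      rw [← Subgroup.relIndex_mul_relIndex S (H ⊓ N) H hSHN inf_le_left,
        ← Subgroup.relIndex_mul_relIndex S ((H ⊓ N) ⊓ stab L ν) (H ⊓ N) (hNI ▸ le_inf hSI hSN) inf_le_left]
      exact (hd.mul_left _).mul_right _)
    rw [pCount_inertia hLH hnL hν' (hI ▸ hidx), ← hI,
      pCount_inertia (le_inf hLH hLN) (fun x hx => hnL x (Subgroup.mem_inf.mp hx).1) hν' hidx', hNI, hN]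
    exact ih _ (hn ▸ relIndex_lt_of_le_of_ne hLI hIH hIne) L I rfl hLI hSI hsylI
      (fun x hx => hnL x (hIH hx)) ν hν' hνS
  rw [not_not] at hIne
  have hν : Inv L H ν := fun x hx => by
    have h1 : x ∈ I := hIne.ge hx
    rw [hI] at h1
    exact (Subgroup.mem_inf.mp h1).2.2
  have hLlt : L < H := lt_of_le_of_ne hLH fun e => hHN (e ▸ hLN)
  obtain ⟨K, hLK, hKH, hnK, hfac⟩ := exists_series_step hG hLlt hnL
  have hKlt : K.relIndex H < n := hn ▸ relIndex_lt_of_lt_left hLK hKH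
  have := Fintype.ofFinite (IrrCharacter ↥K)
  obtain ⟨M, hM⟩ : ∃ M, M = H ⊓ Subgroup.normalizer ((K ⊔ S : Subgroup G) : Set G) := ⟨_, rfl⟩
  have hMH : M ≤ H := hM ▸ inf_le_left
  have hSM : S ≤ M := hM ▸ le_inf hSH (le_sup_right.trans Subgroup.le_normalizer)
  have hKM : K ≤ M := hM ▸ le_inf hKH (le_sup_left.trans Subgroup.le_normalizer)
  have hsylM : ¬ p ∣ S.relIndex M := fun hd => hsyl (by
    rw [← Subgroup.relIndex_mul_relIndex S M H hSM hMH]
    exact hd.mul_right _)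
  have hHM : pCount p H L ν = pCount p M L ν := by
    have e1 := pCount_sum hS hLK.le hKH hSH hsyl hnK hnL hν' hν
    have e2 := pCount_sum hS hLK.le hKM hSM hsylM (fun x hx => hnK x (hMH hx)) (fun x hx => hnL x (hMH hx))
      hν' (fun x hx => hν x (hMH hx))
    have hMT : M ⊓ Subgroup.normalizer (S : Set G) = H ⊓ Subgroup.normalizer (S : Set G) := by
      refine le_antisymm (inf_le_inf_right _ hMH) (le_inf (fun t ht => ?_) inf_le_right)
      obtain ⟨htH, htS⟩ := Subgroup.mem_inf.mp ht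
      exact hM ▸ Subgroup.mem_inf.mpr ⟨htH, Subgroup.mem_normalizer_fintype fun x hx =>
        conj_mem_sup_left (Subgroup.mem_normalizer_fintype (hnK t htH)) htS hx⟩
    rw [hMT] at e2
    refine Nat.eq_of_mul_eq_mul_left (Nat.card_pos (α := ↥(H ⊓ Subgroup.normalizer (S : Set G))))
      (e1.symm.trans (Eq.trans ?_ e2))
    refine Finset.sum_congr rfl fun θ hθ => ?_
    rw [ih _ hKlt K H rfl hKH hSH hsyl hnK θ θ.2 (Finset.mem_filter.mp hθ).2.1, hM]
  rw [hHM]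
  by_cases hMne : M ≠ H
  · have hNM : H ⊓ N = M ⊓ N := by
      refine le_antisymm (le_inf (fun x hx => ?_) inf_le_right) (inf_le_inf_right _ hMH)
      obtain ⟨hxH, hxN⟩ := Subgroup.mem_inf.mp hx
      rw [hN] at hxN
      refine hM ▸ Subgroup.mem_inf.mpr ⟨hxH, Subgroup.mem_normalizer_fintype fun z hz => ?_⟩
      have hle : K ⊔ S ≤ (K ⊔ S).comap (MulAut.conj x).toMonoidHom :=
        sup_le (fun k hk => Subgroup.mem_sup_left (hnK x hxH k hk))
          (fun s hs => (sup_le_sup_right hLK.le S) (conj_mem_of_normalizer hxN (Subgroup.mem_sup_right hs)))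
      exact hle hz
    rw [hNM, hN]
    exact ih _ (hn ▸ relIndex_lt_of_le_of_ne (hLK.le.trans hKM) hMH hMne) L M rfl (hLK.le.trans hKM) hSM hsylM
      (fun x hx => hnL x (hMH hx)) ν hν' hνS
  rw [not_not] at hMne
  rw [hMne]
  have hnorm : ∀ x ∈ H, ∀ z ∈ K ⊔ S, x * z * x⁻¹ ∈ K ⊔ S := fun x hx z hz => by
    have h1 : x ∈ M := hMne.ge hx
    rw [hM] at h1
    exact conj_mem_of_normalizer (Subgroup.mem_inf.mp h1).2 hz
  -- the factor is prime to `p`
  have hp' : ¬ p ∣ L.relIndex K := by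
    refine hfac.elim (fun ⟨m, hm⟩ => absurd ?_ hHN) id
    have hSK : S ≤ Subgroup.normalizer (K : Set G) := fun s hs =>
      Subgroup.mem_normalizer_fintype (hnK s (hSH hs))
    obtain ⟨A, hA⟩ : ∃ A, A = L ⊔ S ⊓ K := ⟨_, rfl⟩
    have hAK : A ≤ K := hA ▸ sup_le hLK.le inf_le_right
    have hd1 : A.relIndex K ∣ p ^ m := by
      rw [← hm, ← Subgroup.relIndex_mul_relIndex L A K (hA ▸ le_sup_left) hAK]
      exact dvd_mul_left _ _
    have hd2 : ¬ p ∣ A.relIndex K := by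
      intro hd
      apply hsyl
      have h1 : A.relIndex K ∣ (S ⊓ K).relIndex K := by
        rw [← Subgroup.relIndex_mul_relIndex (S ⊓ K) A K (hA ▸ le_sup_right) hAK]
        exact dvd_mul_left _ _
      have h2 : (S ⊓ K).relIndex K = S.relIndex (S ⊔ K) := by
        have h3 := CfsgLib.Solvable.card_sup_mul_card_inf (A := S) (K := K) hSK
        rw [← card_mul_relIndex_of_le (le_sup_left (a := S) (b := K)),
          ← card_mul_relIndex_of_le (inf_le_right (a := S) (b := K))] at h3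
        have h4 : (Nat.card ↥S * Nat.card ↥(S ⊓ K)) * S.relIndex (S ⊔ K) =
            (Nat.card ↥S * Nat.card ↥(S ⊓ K)) * (S ⊓ K).relIndex K := by linarith
        exact (Nat.eq_of_mul_eq_mul_left (Nat.mul_pos Nat.card_pos Nat.card_pos) h4).symm
      rw [← Subgroup.relIndex_mul_relIndex S (S ⊔ K) H le_sup_left (sup_le hSH hKH)]
      exact ((h2 ▸ hd.trans h1 : p ∣ S.relIndex (S ⊔ K))).mul_right _
    obtain ⟨i, -, hi⟩ := (Nat.dvd_prime_pow Fact.out).mp hd1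
    have hi0 : i = 0 := by
      by_contra h0
      exact hd2 (hi ▸ dvd_pow_self p h0)
    rw [hi0, pow_zero, Subgroup.relIndex_eq_one] at hi
    have hKP : K ⊔ S = L ⊔ S :=
      le_antisymm (sup_le (hi.trans (hA ▸ sup_le le_sup_left (inf_le_left.trans le_sup_right))) le_sup_right)
        (sup_le_sup_right hLK.le S)
    intro x hx
    rw [hN]
    exact Subgroup.mem_normalizer_fintype fun z hz => hKP ▸ hnorm x hx z (hKP ▸ hz)
  have hD : Datum p K L S (relCent K L S) :=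
    ⟨hS, hLK.le, fun k hk => Subgroup.mem_normalizer_fintype (hnL k (hKH hk)),
      fun s hs => Subgroup.mem_normalizer_fintype (hnL s (hSH hs)),
      fun s hs => Subgroup.mem_normalizer_fintype (hnK s (hSH hs)), hp', rfl⟩
  rw [pCount_eq_of_datum hD hKH hSH hsyl hnK hnL
    (fun x hx => exists_mul_normalizer hS hKH hSH hsyl hnK hx
      fun s hs => hnorm x hx s (Subgroup.mem_sup_right hs)) hν' hν]
  congr 1
  refine le_antisymm (sup_le (fun c hc => ?_) (fun t ht => ?_)) (fun x hx => ?_)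
  · refine Subgroup.mem_inf.mpr ⟨hKH hc.1, hN ▸ Subgroup.mem_normalizer_fintype fun z hz => ?_⟩
    have hle : L ⊔ S ≤ (L ⊔ S).comap (MulAut.conj c).toMonoidHom := by
      refine sup_le (fun l hl => Subgroup.mem_sup_left (hnL c (hKH hc.1) l hl)) fun s hs => ?_
      have h1 : c * s * c⁻¹ * s⁻¹ ∈ L := by
        have := inv_mem (hc.2.2 s hs)
        convert this using 1
        group
      have := mul_mem (Subgroup.mem_sup_left (T := S) h1) (Subgroup.mem_sup_right (S := L) hs)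
      rwa [inv_mul_cancel_right] at this
    exact hle hz
  · obtain ⟨htH, htS⟩ := Subgroup.mem_inf.mp ht
    exact Subgroup.mem_inf.mpr ⟨htH, hN ▸ Subgroup.mem_normalizer_fintype fun z hz =>
      conj_mem_sup_left (Subgroup.mem_normalizer_fintype (hnL t htH)) htS hz⟩
  · obtain ⟨hxH, hxN⟩ := Subgroup.mem_inf.mp hx
    rw [hN] at hxN
    obtain ⟨l, hl, t, ht, rfl⟩ := exists_mul_normalizer hS hLH hSH hsyl hnL hxH
      fun s hs => conj_mem_of_normalizer hxN (Subgroup.mem_sup_right hs)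
    exact mul_mem (Subgroup.mem_sup_left (hD.L_le_C hl)) (Subgroup.mem_sup_right ht)

end CfsgLib.PPrimeCount
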