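import Cfsg.Agent.PPrimeCount.Rel
import Cfsg.Agent.Char.NormalSub
import Cfsg.Agent.GlaubermanCorr.InvariantOver

/-!
# Characters over an invariant character of a normal subgroup
-/

set_option autoImplicit false

namespace CfsgLib.PPrimeCount

open Finset Cfsg
open GlaubermanCorr (InvBy Inv)

universe u

variable {G : Type u} [Group G] [Fintype G]

omit [Fintype G] in
theorem subgroupOf_normal_of_conj {M H : Subgroup G} (hn : ∀ h ∈ H, ∀ m ∈ M, h * m * h⁻¹ ∈ M) :
    (M.subgroupOf H).Normal :=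
  ⟨fun m hm h => Subgroup.mem_subgroupOf.mpr (hn h h.2 m (Subgroup.mem_subgroupOf.mp hm))⟩

/-- A character over an invariant one restricts to a multiple of it. -/
theorem res_eq_smul {M H : Subgroup G} [Fintype ↥M] (hMH : M ≤ H)
    (hn : ∀ h ∈ H, ∀ m ∈ M, h * m * h⁻¹ ∈ M) {χ : ↥H → ℂ} (hχ : IsIrrCharacter ↥H χ)
    {θ : ↥M → ℂ} (hθ : IsIrrCharacter ↥M θ) (hinv : Inv M H θ)
    (hne : classInner (res M χ) θ ≠ 0) : res M χ = classInner (res M χ) θ • θ := by
  classical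
  have := subgroupOf_normal_of_conj hn
  let e : ↥(M.subgroupOf H) ≃* ↥M := Subgroup.subgroupOfEquivOfLe hMH
  have hres : (fun n : ↥(M.subgroupOf H) => χ n) = fun n => res M χ (e n) :=
    funext fun n => (res_apply χ (e n) (n : ↥H).2).symm
  have hI : CfsgLib.Char.inertia (fun n : ↥(M.subgroupOf H) => θ (e n)) = ⊤ :=
    CfsgLib.Char.inertia_eq_top fun h n => hinv h h.2 (e n) _ rfl
  have heq : classInner (fun n : ↥(M.subgroupOf H) => χ n) (fun n => θ (e n)) =
      classInner (res M χ) θ := by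
    rw [hres, GlaubermanCorr.classInner_comp_equiv e]
  have h1 := CfsgLib.Char.restrict_eq_smul_of_invariant hχ
    (CfsgLib.Char.IsIrrCharacter.comp_surjective hθ e.toMonoidHom e.surjective) hI
    (by change classInner _ (fun n => θ (e n)) ≠ 0; rw [heq]; exact hne)
  funext m
  obtain ⟨n, rfl⟩ := e.surjective m
  have h2 := congrFun h1 n
  change χ n = classInner _ (fun n => θ (e n)) * θ (e n) at h2
  rw [heq] at h2
  rw [Pi.smul_apply, smul_eq_mul, ← h2]
  exact res_apply χ (e n) (n : ↥H).2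

open scoped Classical in
/-- A multiplicity prime to `p` over an invariant character with `p`-power index is one. -/
theorem res_eq_of_rel_pIndex {p : ℕ} [Fact p.Prime] {M H : Subgroup G} (hMH : M ≤ H)
    (hn : ∀ h ∈ H, ∀ m ∈ M, h * m * h⁻¹ ∈ M) {e : ℕ} (hidx : M.relIndex H ∣ p ^ e) {χ : ↥H → ℂ}
    (hχ : IsIrrCharacter ↥H χ) {θ : ↥M → ℂ} (hθ : IsIrrCharacter ↥M θ) (hinv : Inv M H θ)
    (hrel : Rel p H M χ θ) : res M χ = θ := by
  obtain ⟨m, hm, hm0⟩ := rel_iff.mp hrel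
  have hm0' : m ≠ 0 := fun h => hm0 (by rw [h, Nat.cast_zero])
  have hne : classInner (res M χ) θ ≠ 0 := by rw [hm]; exact_mod_cast hm0'
  obtain ⟨d, hd, hdvd⟩ := GlaubermanCorr.exists_mult_dvd hMH hn ⟨χ, hχ⟩ ⟨θ, hθ⟩
    (by rw [← res_eq hMH]; exact hne)
  have hmd : m = d := by
    rw [← res_eq hMH] at hd
    exact_mod_cast hm.symm.trans hd
  obtain ⟨i, -, hi⟩ := (Nat.dvd_prime_pow Fact.out).mp (hdvd.trans hidx)
  have hi0 : i = 0 := by
    by_contra h0
    refine hm0 ?_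
    rw [hmd, hi, Nat.cast_pow, ZMod.natCast_self, zero_pow h0]
  have h1 := res_eq_smul hMH hn hχ hθ hinv hne
  rw [hm, hmd, hi, hi0, pow_zero, Nat.cast_one, one_smul] at h1
  exact h1

/-- The degree of a character over an invariant one. -/
theorem apply_one_eq_mult_mul {M H : Subgroup G} [Fintype ↥M] (hMH : M ≤ H)
    (hn : ∀ h ∈ H, ∀ m ∈ M, h * m * h⁻¹ ∈ M) {χ : ↥H → ℂ} (hχ : IsIrrCharacter ↥H χ)
    {θ : ↥M → ℂ} (hθ : IsIrrCharacter ↥M θ) (hinv : Inv M H θ)
    (hne : classInner (res M χ) θ ≠ 0) : χ 1 = classInner (res M χ) θ * θ 1 := by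
  have h := congrFun (res_eq_smul hMH hn hχ hθ hinv hne) 1
  rw [Pi.smul_apply, smul_eq_mul, res_apply χ 1 (one_mem H)] at h
  exact h

end CfsgLib.PPrimeCount
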