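import Cfsg.Agent.PPrimeCount.RelGroup
import Cfsg.Agent.Char.Monomial
import Cfsg.Agent.Coprime.Sylow

/-!
# The scalar of an element centralizing the `p`-group modulo the part acting trivially
-/

set_option autoImplicit false

namespace CfsgLib.PPrimeCount

open Finset Cfsg
open scoped ComplexConjugate
open GlaubermanCorr (InvBy Inv)

universe u

variable {G : Type u} [Group G]

theorem cj_eq_mul_of_twist [Finite G] {Γ : Subgroup G} {η : ↥Γ → ℂ} {g : G}
    (hg : g ∈ Subgroup.normalizer (Γ : Set G)) (lam : ↥Γ →* ℂˣ)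
    (h : ∀ y : ↥Γ, η ⟨g * y * g⁻¹, conj_mem_of_normalizer hg y.2⟩ = (lam y : ℂ) * η y) :
    cj Γ g⁻¹ η = η * fun y => (lam y : ℂ) := funext fun y => by
  rw [cj_apply (inv_mem hg), Pi.mul_apply, mul_comm, ← h]
  exact congrArg η (Subtype.ext (by simp))

variable [Fintype G] {p : ℕ} [Fact p.Prime]

open scoped Classical in
/-- A character over an invariant one along a cyclic quotient extends it. -/
theorem res_eq_of_over_cyclic {C : Subgroup G} {y : G} {φ : ↥C → ℂ} (hφ : IsIrrCharacter ↥C φ)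
    (hy : y ∈ stab C φ) {ψ : ↥(C ⊔ Subgroup.zpowers y) → ℂ}
    (hψ : IsIrrCharacter ↥(C ⊔ Subgroup.zpowers y) ψ) (hne : classInner (res C ψ) φ ≠ 0) :
    res C ψ = φ := by
  obtain ⟨η, hη, hres⟩ := exists_ext hφ hy
  let Γ := C ⊔ Subgroup.zpowers y
  have hle : C ≤ Γ := le_sup_left
  have : (C.subgroupOf Γ).Normal :=
    (Subgroup.normal_subgroupOf_iff_le_normalizer hle).mpr (sup_zpowers_le_normalizer hy.1)
  let e : ↥(C.subgroupOf Γ) ≃* ↥C := Subgroup.subgroupOfEquivOfLe hle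
  have hηC : (fun n : ↥(C.subgroupOf Γ) => η n) = fun n => φ (e n) := funext fun n => hres _ n.2
  obtain ⟨β, ⟨hβ, hk⟩, hβψ⟩ := (CfsgLib.Char.gallagher_one (N := C.subgroupOf Γ) hη
    (hηC ▸ CfsgLib.Char.IsIrrCharacter.comp_surjective hφ e.toMonoidHom e.surjective)).surjOn
    (show ψ ∈ _ from ⟨hψ, by
      rw [hηC]
      refine fun h0 => hne ?_
      rw [← GlaubermanCorr.classInner_comp_equiv e (res C ψ) φ, ← h0]
      congr 1
      funext n
      exact res_apply ψ (e n) (n : ↥Γ).2⟩)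
  simp only at hβψ
  have hβ1 : β 1 = 1 := CfsgLib.Char.IsIrrCharacter.apply_one_eq_one_of_commutators hβ fun a b => by
    refine hk _ (Subgroup.mem_subgroupOf.mpr ?_)
    obtain ⟨c, hc, i, hi⟩ := exists_mul_pow_of_mem_sup hy.1 a.2
    obtain ⟨c', hc', j, hj⟩ := exists_mul_pow_of_mem_sup hy.1 b.2
    simp only [Subgroup.coe_mul, Subgroup.coe_inv, hi, hj]
    exact comm_coset_mem (pow_mem hy.1 i) (pow_mem hy.1 j)
      (((commMod_self C y).pow_left hy.1 i).pow_right hy.1 j) hc hc'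
  funext c
  rw [res_apply ψ c (hle c.2), ← hβψ, Pi.mul_apply,
    hk ⟨c, hle c.2⟩ (Subgroup.mem_subgroupOf.mpr c.2), hβ1, one_mul]
  exact hres c c.2

open scoped Classical in
theorem classInner_mul_hom {C : Subgroup G} (lam : ↥C →* ℂˣ) (f g : ↥C → ℂ) :
    classInner (f * fun x => (lam x : ℂ)) (g * fun x => (lam x : ℂ)) = classInner f g := by
  rw [classInner, classInner]
  congr 1
  refine Finset.sum_congr rfl fun x _ => ?_
  simp only [Pi.mul_apply, map_mul]
  have h : (lam x : ℂ) * conj (lam x : ℂ) = 1 := by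
    rw [← Complex.inv_eq_conj (CfsgLib.Char.norm_hom_eq_one lam x), mul_inv_cancel₀ (Units.ne_zero _)]
  linear_combination (f x * conj (g x)) * h

theorem inv_mul_hom {H L S : Subgroup G} (hLH : L ≤ H) {f : ↥H → ℂ} (hf : Inv H S f) (lam : ↥H →* ℂˣ)
    (hlam : ∀ x : ↥H, (x : G) ∈ L → lam x = 1) (hcomm : ∀ s ∈ S, ∀ x ∈ H, s * x * s⁻¹ * x⁻¹ ∈ L) :
    Inv H S (f * fun x => (lam x : ℂ)) := by
  intro s hs k k' e
  have hk' : k' = ⟨_, hLH (hcomm s hs k k.2)⟩ * k := Subtype.ext (by simp [e])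
  have : lam k' = lam k := by rw [hk', map_mul, hlam _ (hcomm s hs k k.2), one_mul]
  simp only [Pi.mul_apply, this, hf s hs k k' e]

open scoped Classical in
/-- The pair lemma for an element of order prime to `p` centralizing `S` modulo the kernel. -/
theorem commScalar_pair_central_aux {K L S C : Subgroup G} (h : Datum p K L S C) {θ : ↥K → ℂ}
    (hθ : IsIrrCharacter ↥K θ) (hθS : Inv K S θ) {φ : ↥C → ℂ} (hφ : IsIrrCharacter ↥C φ)
    (hφS : Inv C S φ) (hr : Rel p K C θ φ) {y g : G} (hy : y ∈ stab K θ) (hg : g ∈ stab K θ)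
    (hyL : y ∈ Subgroup.normalizer (L : Set G)) (hyS : y ∈ Subgroup.normalizer (S : Set G))
    (hgL : g ∈ Subgroup.normalizer (L : Set G)) (hgS : g ∈ Subgroup.normalizer (S : Set G))
    (hyo : ¬ p ∣ orderOf y) (htriv : ∀ s ∈ S, s⁻¹ * (y * s * y⁻¹) ∈ relCent S L K) (hc : CommMod C y g) :
    commScalar K θ y g = commScalar C φ y g := by
  have hyC := h.mem_normalizer hy.1 hyL hyS
  have hgC := h.mem_normalizer hg.1 hgL hgS
  have hyφ : y ∈ stab C φ := ⟨hyC, (h.invBy_of_rel hθ hθS hφ hφS hr hy.1 hyL hyS).mp hy.2⟩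
  have hgφ : g ∈ stab C φ := ⟨hgC, (h.invBy_of_rel hθ hθS hφ hφS hr hg.1 hgL hgS).mp hg.2⟩
  have hyK' : y ∈ K ⊔ Subgroup.zpowers y := Subgroup.mem_sup_right (Subgroup.mem_zpowers y)
  have hyC' : y ∈ C ⊔ Subgroup.zpowers y := Subgroup.mem_sup_right (Subgroup.mem_zpowers y)
  have hmapC := conj_mem_sup_zpowers hyC hgC hc
  have hcK : CommMod K y g := hc.mono h.C_le
  have hmapK := conj_mem_sup_zpowers hy.1 hg.1 hcK
  have hC'K' : C ⊔ Subgroup.zpowers y ≤ K ⊔ Subgroup.zpowers y := sup_le_sup_right h.C_le _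
  obtain ⟨S', hS'⟩ : ∃ S', S' = relCent S L (C ⊔ Subgroup.zpowers y) := ⟨_, rfl⟩
  have hS'S : S' ≤ S := hS' ▸ relCent_le _ _ _
  have hmem : ∀ s ∈ S', ∀ x ∈ C ⊔ Subgroup.zpowers y, s * x * s⁻¹ * x⁻¹ ∈ L := by
    intro s hs x hx
    rw [hS'] at hs
    have := inv_mem (hs.2.2 x hx)
    convert this using 1
    group
  -- `S = S' S₀`
  have hcop : ∀ s ∈ S, ∃ c ∈ S', c⁻¹ * s ∈ relCent S L K := by
    intro s hs
    have hy0 : y ∈ Subgroup.normalizer (relCent S L K : Set G) := mem_normalizer_relCent hyS hyL hy.1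
    obtain ⟨e, he⟩ := (h.pgroup.to_le (relCent_le S L K)).exists_card_eq
    have : Group.IsSolvable ↥(Subgroup.zpowers y) := Group.isSolvable_of_comm fun a b => IsCyclic.commGroup.mul_comm a b
    obtain ⟨c, hc1, hc2⟩ := CfsgLib.Coprime.exists_commute_mem_coset (Subgroup.zpowers y) (relCent S L K)
      (Subgroup.zpowers_le.mpr hy0) (by rw [Nat.card_zpowers, he]; exact (coprime_pow_of_not_dvd hyo e).symm)
      s (fun z hz => by
        obtain ⟨i, rfl⟩ := mem_powers_iff_mem_zpowers.mpr hz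
        clear hz
        induction i with
        | zero => simp
        | succ i ih =>
          have h2 := conj_mem_of_normalizer (pow_mem hy0 i) (htriv s hs)
          simp only at ih ⊢
          have := mul_mem ih h2
          convert this using 1
          rw [pow_succ]
          group)
    have hcS : c ∈ S := by simpa using mul_mem hs ((relCent_le S L K) hc2)
    refine ⟨c, hS' ▸ ⟨hcS, h.normLS hcS, fun x hx => ?_⟩, by simpa using inv_mem hc2⟩
    obtain ⟨d, hd, i, rfl⟩ := exists_mul_pow_of_mem_sup hyC hx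
    have h1 : d * c * d⁻¹ * c⁻¹ ∈ L := by
      have := inv_mem (((h.mem_C d).mp hd).2 c hcS)
      convert this using 1
      group
    have h2 : y ^ i * c = c * y ^ i := hc1 _ (Subgroup.npow_mem_zpowers y i)
    convert h1 using 1
    rw [show d * y ^ i * c * (d * y ^ i)⁻¹ * c⁻¹ = d * (y ^ i * c) * (y ^ i)⁻¹ * d⁻¹ * c⁻¹ by group, h2]
    group
  -- the datum on `K⟨y⟩`
  have hD : Datum p (K ⊔ Subgroup.zpowers y) L S' (C ⊔ Subgroup.zpowers y) := by
    refine ⟨h.pgroup.to_le hS'S, h.le.trans le_sup_left, sup_le h.normL (Subgroup.zpowers_le.mpr hyL),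
      hS'S.trans h.normLS, fun s hs => Subgroup.mem_normalizer_fintype fun x hx => ?_,
      not_dvd_relIndex_sup_zpowers h.le h.not_dvd hy.1 hyo, le_antisymm (fun x hx => ?_) (fun x hx => ?_)⟩
    · obtain ⟨k, hk, i, rfl⟩ := exists_mul_pow_of_mem_sup hy.1 hx
      have h1 := conj_mem_of_normalizer (h.normK (hS'S hs)) hk
      have h2 := h.le (hmem s hs _ (Subgroup.mem_sup_right (Subgroup.npow_mem_zpowers y i)))
      rw [show s * (k * y ^ i) * s⁻¹ = s * k * s⁻¹ * (s * y ^ i * s⁻¹ * (y ^ i)⁻¹) * y ^ i by group]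
      exact mul_mem (Subgroup.mem_sup_left (mul_mem h1 h2)) (pow_mem hyK' i)
    · exact ⟨hC'K' hx, (sup_le (h.C_le.trans h.normL) (Subgroup.zpowers_le.mpr hyL)) hx, fun s hs => hmem s hs x hx⟩
    · obtain ⟨k, hk, i, rfl⟩ := exists_mul_pow_of_mem_sup hy.1 hx.1
      refine mul_mem (Subgroup.mem_sup_left ((h.mem_C k).mpr ⟨hk, fun s hs => ?_⟩)) (pow_mem hyC' i)
      obtain ⟨c, hc, hb⟩ := hcop s hs
      have h1 : c * k * c⁻¹ * k⁻¹ ∈ L := by
        have h2 := hx.2.2 c hc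
        have h3 := conj_mem_of_normalizer (h.normL hk)
          (inv_mem (hmem c hc _ (Subgroup.mem_sup_right (Subgroup.npow_mem_zpowers y i))))
        have := mul_mem h2 h3
        convert this using 1
        group
      have h4 := conj_mem_of_normalizer (h.normLS (hS'S hc)) (inv_mem (hb.2.2 k hk))
      have := mul_mem h4 h1
      convert this using 1
      group
  -- an extension to `K⟨y⟩`
  obtain ⟨η, hη, hηres⟩ := exists_ext hθ hy
  have hηK : res K η = θ := funext fun c => by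
    rw [res_apply η c (le_sup_left (b := Subgroup.zpowers y) c.2), hηres c c.2]
  have hηS : Inv (K ⊔ Subgroup.zpowers y) S' η := by
    intro s hs
    have hsθ : s ∈ stab K θ := ⟨h.normK (hS'S hs), hθS s (hS'S hs)⟩
    have hcs : CommMod K y s := by
      have := inv_mem (hmem s hs y hyC')
      refine h.le ?_
      convert this using 1
      group
    obtain ⟨e, he⟩ := h.pgroup ⟨s, hS'S hs⟩
    refine invBy_of_commScalar_eq_one hθ hy hsθ hcs ?_ hη hηK
    exact commScalar_eq_one_of_coprime hθ hy hsθ hcs (m := orderOf y) (n := p ^ e)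
      (by rw [pow_orderOf_eq_one]; exact one_mem K)
      (by rw [show s ^ p ^ e = 1 from congrArg Subtype.val he]; exact one_mem K)
      (coprime_pow_of_not_dvd hyo e).symm
  have hr' : Rel p (K ⊔ Subgroup.zpowers y) C η φ := by
    rw [← hηK] at hr
    rw [rel_iff] at hr ⊢
    obtain ⟨m, hm, hm0⟩ := hr
    exact ⟨m, by rwa [res_res h.C_le le_sup_left] at hm, hm0⟩
  obtain ⟨ψ, hψS, hψη, hψφ⟩ := exists_intermediate hD.pgroup le_sup_left hC'K' hD.normK hD.normC
    (hS'S.trans h.normC) ⟨η, hη⟩ ⟨φ, hφ⟩ hηS (fun s hs => hφS s (hS'S hs)) hr'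
  have hψC : res C (ψ : ↥(C ⊔ Subgroup.zpowers y) → ℂ) = φ := by
    obtain ⟨m, hm, hm0⟩ := rel_iff.mp hψφ
    refine res_eq_of_over_cyclic hφ hyφ ψ.2 ?_
    rw [hm]
    intro h0
    exact hm0 (by rw [show m = 0 by exact_mod_cast h0, Nat.cast_zero])
  obtain ⟨lam, hlam, htw⟩ := exists_lam hθ le_sup_left (sup_zpowers_le_normalizer hy.1) hη hηres hg hmapK
  have hgK' : g ∈ Subgroup.normalizer ((K ⊔ Subgroup.zpowers y : Subgroup G) : Set G) := Subgroup.mem_normalizer_fintype hmapK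
  have hgC' : g ∈ Subgroup.normalizer ((C ⊔ Subgroup.zpowers y : Subgroup G) : Set G) := Subgroup.mem_normalizer_fintype hmapC
  have hgS' : g ∈ Subgroup.normalizer (S' : Set G) := hS' ▸ mem_normalizer_relCent hgS hgL hgC'
  let lamC : ↥(C ⊔ Subgroup.zpowers y) →* ℂˣ := lam.comp (Subgroup.inclusion hC'K')
  have hlamL : ∀ x : ↥(K ⊔ Subgroup.zpowers y), (x : G) ∈ L → lam x = 1 := fun x hx => hlam x (h.le hx)
  have hkey : cj (C ⊔ Subgroup.zpowers y) g⁻¹ (ψ : ↥(C ⊔ Subgroup.zpowers y) → ℂ) =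
      (ψ : ↥(C ⊔ Subgroup.zpowers y) → ℂ) * fun x => (lamC x : ℂ) := by
    have hcjη : cj (K ⊔ Subgroup.zpowers y) g⁻¹ η = η * fun x => (lam x : ℂ) :=
      cj_eq_mul_of_twist hgK' lam htw
    have h1 := hψη.conj hC'K' (inv_mem hgK') (inv_mem hgC')
    rw [hcjη] at h1
    refine hD.rel_unique (CfsgLib.Char.IsIrrCharacter.mul_hom hη lam) ?_ (isIrrCharacter_cj (inv_mem hgC') ψ.2)
      (inv_cj (inv_mem hgC') (inv_mem hgS') hψS) (CfsgLib.Char.IsIrrCharacter.mul_hom ψ.2 lamC) ?_ h1 ?_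
    · rw [← hcjη]
      exact inv_cj (inv_mem hgK') (inv_mem hgS') hηS
    · exact inv_mul_hom hD.L_le_C hψS lamC (fun x hx => hlamL _ hx) hmem
    · obtain ⟨m, hm, hm0⟩ := rel_iff.mp hψη
      refine rel_iff.mpr ⟨m, ?_, hm0⟩
      have hfun : res (C ⊔ Subgroup.zpowers y) (η * fun x => (lam x : ℂ)) =
          res (C ⊔ Subgroup.zpowers y) η * fun x => (lamC x : ℂ) := funext fun x => by
        rw [res_apply _ x (hC'K' x.2), Pi.mul_apply, Pi.mul_apply, res_apply η x (hC'K' x.2)]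
        rfl
      rw [hfun, classInner_mul_hom]
      exact hm
  rw [commScalar_eq hθ le_sup_left (sup_zpowers_le_normalizer hy.1) hη hηres hyK' hg.1 hcK hmapK lam hlam htw,
    commScalar_eq hφ le_sup_left (sup_zpowers_le_normalizer hyC) ψ.2
      (fun k hk => by rw [← hψC, res_apply _ ⟨k, hk⟩ (le_sup_left (b := Subgroup.zpowers y) hk)])
      hyC' hgC hc hmapC lamC (fun x hx => hlam _ (h.C_le hx)) (fun x => by
        have := congrFun hkey x
        rw [cj_apply (inv_mem hgC'), Pi.mul_apply, mul_comm] at this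
        rw [← this]
        exact congrArg (ψ : ↥(C ⊔ Subgroup.zpowers y) → ℂ) (Subtype.ext (by simp)))]
  rfl

/-- The pair lemma when the first element centralizes `S` modulo the part acting trivially and the
second has order prime to `p`. -/
theorem commScalar_pair_central {K L S C : Subgroup G} (h : Datum p K L S C) {θ : ↥K → ℂ}
    (hθ : IsIrrCharacter ↥K θ) (hθS : Inv K S θ) {φ : ↥C → ℂ} (hφ : IsIrrCharacter ↥C φ)
    (hφS : Inv C S φ) (hr : Rel p K C θ φ) {y g : G} (hy : y ∈ stab K θ) (hg : g ∈ stab K θ)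
    (hyL : y ∈ Subgroup.normalizer (L : Set G)) (hyS : y ∈ Subgroup.normalizer (S : Set G))
    (hgL : g ∈ Subgroup.normalizer (L : Set G)) (hgS : g ∈ Subgroup.normalizer (S : Set G))
    (hgo : ¬ p ∣ orderOf g) (htriv : ∀ s ∈ S, s⁻¹ * (y * s * y⁻¹) ∈ relCent S L K) (hc : CommMod C y g) :
    commScalar K θ y g = commScalar C φ y g := by
  have hyC := h.mem_normalizer hy.1 hyL hyS
  have hgC := h.mem_normalizer hg.1 hgL hgS
  have hyφ : y ∈ stab C φ := ⟨hyC, (h.invBy_of_rel hθ hθS hφ hφS hr hy.1 hyL hyS).mp hy.2⟩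
  have hgφ : g ∈ stab C φ := ⟨hgC, (h.invBy_of_rel hθ hθS hφ hφS hr hg.1 hgL hgS).mp hg.2⟩
  obtain ⟨i, j, e, m, hij, hi, hj, hm⟩ := exists_p_part p y
  have hci := hc.pow_left hyC i
  have hcj := hc.pow_left hyC j
  have hm' : ¬ p ∣ orderOf (y ^ j) := fun hd => hm (hd.trans (orderOf_dvd_of_pow_eq_one hj))
  have hy0 : y ∈ Subgroup.normalizer (relCent S L K : Set G) := mem_normalizer_relCent hyS hyL hy.1
  have htriv' : ∀ n : ℕ, ∀ s ∈ S, s⁻¹ * (y ^ n * s * (y ^ n)⁻¹) ∈ relCent S L K := by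
    intro n s hs
    induction n with
    | zero => simp
    | succ n ih =>
      have := mul_mem ih (conj_mem_of_normalizer (pow_mem hy0 n) (htriv s hs))
      convert this using 1
      rw [pow_succ]
      group
  have hone : ∀ {H : Subgroup G} {χ : ↥H → ℂ}, IsIrrCharacter ↥H χ → y ∈ stab H χ → g ∈ stab H χ →
      CommMod H (y ^ i) g → commScalar H χ (y ^ i) g = 1 := fun hχ hy' hg' hc' =>
    commScalar_eq_one_of_coprime hχ (pow_mem hy' i) hg' hc' (m := p ^ e) (n := orderOf g)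
      (by rw [hi]; exact one_mem _) (by rw [pow_orderOf_eq_one]; exact one_mem _) (coprime_pow_of_not_dvd hgo e)
  rw [hij, commScalar_mul_left hθ (pow_mem hy i) (pow_mem hy j) hg (hci.mono h.C_le) (hcj.mono h.C_le),
    commScalar_mul_left hφ (pow_mem hyφ i) (pow_mem hyφ j) hgφ hci hcj,
    hone hθ hy hg (hci.mono h.C_le), hone hφ hyφ hgφ hci, one_mul, one_mul]
  exact commScalar_pair_central_aux h hθ hθS hφ hφS hr (pow_mem hy j) hg (pow_mem hyL j) (pow_mem hyS j)
    hgL hgS hm' (htriv' j) hcj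

end CfsgLib.PPrimeCount
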