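import Cfsg.Agent.PPrimeCount.Ext
import Cfsg.Agent.GlaubermanCorr.Main

/-!
# The correspondence relative to a normal subgroup, as a relation between characters
-/

set_option autoImplicit false

namespace CfsgLib.PPrimeCount

open Finset Cfsg
open GlaubermanCorr (InvBy Inv)

universe u

variable {G : Type u} [Group G]

/-- Conjugate of a function on a subgroup. -/
noncomputable def cj (H : Subgroup G) (y : G) (θ : ↥H → ℂ) : ↥H → ℂ :=
  fun h => lift0 H θ (y⁻¹ * (h : G) * y)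

theorem conj_mem_of_normalizer {H : Subgroup G} {y : G} (hy : y ∈ Subgroup.normalizer (H : Set G)) {h : G}
    (hh : h ∈ H) : y * h * y⁻¹ ∈ H := (Subgroup.mem_normalizer_iff.mp hy h).mp hh

theorem inv_conj_mem {H : Subgroup G} {y : G} (hy : y ∈ Subgroup.normalizer (H : Set G)) {h : G}
    (hh : h ∈ H) : y⁻¹ * h * y ∈ H := by
  simpa using conj_mem_of_normalizer (inv_mem hy) hh

theorem cj_apply {H : Subgroup G} {y : G} (hy : y ∈ Subgroup.normalizer (H : Set G)) (θ : ↥H → ℂ) (h : ↥H) :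
    cj H y θ h = θ ⟨y⁻¹ * h * y, inv_conj_mem hy h.2⟩ := lift0_of_mem θ _

theorem cj_eq_self {H : Subgroup G} {y : G} (hy : y ∈ Subgroup.normalizer (H : Set G)) {θ : ↥H → ℂ}
    (h : InvBy H y θ) : cj H y θ = θ := funext fun k => by
  rw [cj_apply hy]
  exact (h ⟨_, inv_conj_mem hy k.2⟩ k (by simp [mul_assoc])).symm

theorem invBy_of_cj_eq {H : Subgroup G} {y : G} (hy : y ∈ Subgroup.normalizer (H : Set G)) {θ : ↥H → ℂ}
    (h : cj H y θ = θ) : InvBy H y θ := fun k k' e => by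
  have h1 := congrFun h k'
  rw [cj_apply hy] at h1
  rw [← h1]
  exact congrArg θ (Subtype.ext (by simp [e, mul_assoc]))

theorem isIrrCharacter_cj [Finite G] {H : Subgroup G} {y : G} (hy : y ∈ Subgroup.normalizer (H : Set G))
    {θ : ↥H → ℂ} (hθ : IsIrrCharacter ↥H θ) : IsIrrCharacter ↥H (cj H y θ) := by
  have hy' : y⁻¹ ∈ Subgroup.normalizer (H : Set G) := inv_mem hy
  let c : ↥H →* ↥H :=
    { toFun := fun h => ⟨y⁻¹ * h * y, inv_conj_mem hy h.2⟩
      map_one' := Subtype.ext (by simp)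
      map_mul' := fun a b => Subtype.ext (by simp [mul_assoc]) }
  have hinj : Function.Injective c := fun a b hab => Subtype.ext (by
    simpa [c] using congrArg Subtype.val hab)
  rw [show cj H y θ = fun h => θ (c h) from funext fun h => cj_apply hy θ h]
  exact CfsgLib.Char.IsIrrCharacter.comp_surjective hθ c (Finite.injective_iff_surjective.mp hinj)

theorem inv_cj {H S : Subgroup G} {y : G} (hy : y ∈ Subgroup.normalizer (H : Set G))
    (hyS : y ∈ Subgroup.normalizer (S : Set G)) {θ : ↥H → ℂ} (hθ : Inv H S θ) : Inv H S (cj H y θ) := by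
  intro s hs k k' e
  rw [cj_apply hy, cj_apply hy]
  exact hθ _ (inv_conj_mem hyS hs) _ _ (by simp only [e]; group)

/-- The elements of `K` normalizing `L` and commuting with `S` modulo `L`. -/
def relCent (K L S : Subgroup G) : Subgroup G where
  carrier := {k | k ∈ K ∧ k ∈ Subgroup.normalizer (L : Set G) ∧ ∀ s ∈ S, s * k * s⁻¹ * k⁻¹ ∈ L}
  one_mem' := ⟨one_mem _, one_mem _, fun s _ => by simp⟩
  mul_mem' {a b} ha hb := ⟨mul_mem ha.1 hb.1, mul_mem ha.2.1 hb.2.1, fun s hs => by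
    have := mul_mem (ha.2.2 s hs) (conj_mem_of_normalizer ha.2.1 (hb.2.2 s hs))
    convert this using 1
    group⟩
  inv_mem' {a} ha := ⟨inv_mem ha.1, inv_mem ha.2.1, fun s hs => by
    have := inv_conj_mem ha.2.1 (inv_mem (ha.2.2 s hs))
    convert this using 1
    group⟩

/-- The hypotheses of the correspondence relative to `L`. -/
structure Datum (p : ℕ) (K L S C : Subgroup G) : Prop where
  pgroup : IsPGroup p ↥S
  le : L ≤ K
  normL : K ≤ Subgroup.normalizer (L : Set G)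
  normLS : S ≤ Subgroup.normalizer (L : Set G)
  normK : S ≤ Subgroup.normalizer (K : Set G)
  not_dvd : ¬ p ∣ L.relIndex K
  cent : C = relCent K L S

namespace Datum

variable {p : ℕ} {K L S C : Subgroup G}

theorem mem_C (h : Datum p K L S C) (k : G) :
    k ∈ C ↔ k ∈ K ∧ ∀ s ∈ S, s * k * s⁻¹ * k⁻¹ ∈ L := by
  rw [h.cent]
  exact ⟨fun hk => ⟨hk.1, hk.2.2⟩, fun hk => ⟨hk.1, h.normL hk.1, hk.2⟩⟩

theorem C_le (h : Datum p K L S C) : C ≤ K := fun k hk => ((h.mem_C k).mp hk).1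

theorem L_le_C (h : Datum p K L S C) : L ≤ C := fun l hl =>
  (h.mem_C l).mpr ⟨h.le hl, fun _ hs => mul_mem (conj_mem_of_normalizer (h.normLS hs) hl) (inv_mem hl)⟩

theorem normC (h : Datum p K L S C) [Finite G] : S ≤ Subgroup.normalizer (C : Set G) := fun s hs =>
  Subgroup.mem_normalizer_fintype fun c hc => by
    have := mul_mem (h.L_le_C (((h.mem_C c).mp hc).2 s hs)) hc
    rwa [inv_mul_cancel_right] at this

/-- An element normalizing `K`, `L` and `S` normalizes `C`. -/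
theorem mem_normalizer (h : Datum p K L S C) [Finite G] {y : G} (hK : y ∈ Subgroup.normalizer (K : Set G))
    (hL : y ∈ Subgroup.normalizer (L : Set G)) (hS : y ∈ Subgroup.normalizer (S : Set G)) :
    y ∈ Subgroup.normalizer (C : Set G) :=
  Subgroup.mem_normalizer_fintype fun c hc => by
    obtain ⟨h1, h2⟩ := (h.mem_C c).mp hc
    refine (h.mem_C _).mpr ⟨conj_mem_of_normalizer hK h1, fun s hs => ?_⟩
    have := conj_mem_of_normalizer hL (h2 _ (inv_conj_mem hS hs))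
    convert this using 1
    group

end Datum

variable [Fintype G]

open scoped Classical in
/-- The multiplicity of `φ` in the restriction of `θ` is prime to `p`. -/
def Rel (p : ℕ) (K C : Subgroup G) (θ : ↥K → ℂ) (φ : ↥C → ℂ) : Prop :=
  ∃ m : ℕ, classInner (res C θ) φ = (m : ℂ) ∧ (m : ZMod p) ≠ 0

theorem rel_iff {p : ℕ} {K C : Subgroup G} {θ : ↥K → ℂ} {φ : ↥C → ℂ} [Fintype ↥C] :
    Rel p K C θ φ ↔ ∃ m : ℕ, classInner (res C θ) φ = (m : ℂ) ∧ (m : ZMod p) ≠ 0 := by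
  unfold Rel
  simp only [GlaubermanCorr.classInner_congr_sum (iA' := ‹Fintype ↥C›)]

open scoped Classical in
theorem rel_self {p : ℕ} [Fact p.Prime] {K : Subgroup G} {θ : ↥K → ℂ} (hθ : IsIrrCharacter ↥K θ) :
    Rel p K K θ θ :=
  ⟨1, by rw [res_self, CfsgLib.Char.IsIrrCharacter.classInner_self hθ, Nat.cast_one], by simp⟩

open scoped Classical in
theorem classInner_res_cj {K C : Subgroup G} [Fintype ↥C] (hCK : C ≤ K) {y : G}
    (hyK : y ∈ Subgroup.normalizer (K : Set G)) (hyC : y ∈ Subgroup.normalizer (C : Set G))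
    (θ : ↥K → ℂ) (φ : ↥C → ℂ) :
    classInner (res C (cj K y θ)) (cj C y φ) = classInner (res C θ) φ := by
  let e : ↥C ≃* ↥C :=
    GlaubermanCorr.conjSub (P := Subgroup.normalizer (C : Set G)) le_rfl (⟨y, hyC⟩⁻¹)
  rw [← GlaubermanCorr.classInner_comp_equiv e (res C θ) φ]
  congr 1 <;> funext c
  · rw [res_apply _ c (hCK c.2), cj_apply hyK, res_apply θ _ (hCK (e c).2)]
    exact congrArg θ (Subtype.ext (by simp [e, GlaubermanCorr.conjSub_coe]))
  · rw [cj_apply hyC]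
    exact congrArg φ (Subtype.ext (by simp [e, GlaubermanCorr.conjSub_coe]))

open scoped Classical in
theorem Rel.conj {p : ℕ} {K C : Subgroup G} (hCK : C ≤ K) {y : G}
    (hyK : y ∈ Subgroup.normalizer (K : Set G)) (hyC : y ∈ Subgroup.normalizer (C : Set G))
    {θ : ↥K → ℂ} {φ : ↥C → ℂ} (h : Rel p K C θ φ) : Rel p K C (cj K y θ) (cj C y φ) := by
  obtain ⟨m, hm, hm0⟩ := h
  exact ⟨m, by rw [classInner_res_cj hCK hyK hyC]; exact hm, hm0⟩

variable {p : ℕ} [Fact p.Prime]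

open scoped Classical in
/-- A multiplicity modulo `p`, computed through the invariant characters of an intermediate group. -/
theorem exists_intermediate {S K D C : Subgroup G} [Fintype ↥C] [Fintype ↥D] (hS : IsPGroup p ↥S)
    (hCD : C ≤ D) (hDK : D ≤ K) (hSK : S ≤ Subgroup.normalizer (K : Set G))
    (hSD : S ≤ Subgroup.normalizer (D : Set G)) (hSC : S ≤ Subgroup.normalizer (C : Set G))
    (θ : IrrCharacter ↥K) (φ : IrrCharacter ↥C) (hθ : Inv K S (θ : ↥K → ℂ)) (hφ : Inv C S (φ : ↥C → ℂ))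
    (h : Rel p K C θ φ) :
    ∃ ψ : IrrCharacter ↥D, Inv D S (ψ : ↥D → ℂ) ∧ Rel p K D θ ψ ∧ Rel p D C ψ φ := by
  obtain ⟨m, hm, hm0⟩ := rel_iff.mp h
  have hcθ := CfsgLib.Char.IsIrrCharacter.isCharacter θ.2
  choose a ha using fun ψ : IrrCharacter ↥D =>
    CfsgLib.Char.IsCharacter.exists_classInner_eq_natCast (isCharacter_res hDK hcθ) ψ.2
  choose b hb using fun ψ : IrrCharacter ↥D =>
    CfsgLib.Char.IsCharacter.exists_classInner_eq_natCast
      (isCharacter_res hCD (CfsgLib.Char.IsIrrCharacter.isCharacter ψ.2)) φ.2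
  have := Fintype.ofFinite (IrrCharacter ↥D)
  have hsum : (m : ℂ) = ∑ ψ : IrrCharacter ↥D, (a ψ : ℂ) * (b ψ : ℂ) := by
    rw [← hm, res_eq (hCD.trans hDK), GlaubermanCorr.classInner_trans hDK hCD hcθ]
    exact sum_congr rfl fun ψ _ => by rw [← ha, ← hb, res_eq hDK, res_eq hCD]
  have hsum' : m = ∑ ψ : IrrCharacter ↥D, a ψ * b ψ := by exact_mod_cast hsum
  letI := GlaubermanCorr.charAction hSD
  have hFinv : ∀ (y : ↥S) (ψ : IrrCharacter ↥D),
      ((a (y • ψ) * b (y • ψ) : ℕ) : ZMod p) = ((a ψ * b ψ : ℕ) : ZMod p) := by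
    intro y ψ
    have h1 := GlaubermanCorr.classInner_charAction hDK hSK hSD y θ ψ
    rw [show (GlaubermanCorr.charAction hSK).smul y θ = θ from
      (GlaubermanCorr.charAction_fixed hSK θ).mpr hθ y] at h1
    have h2 := GlaubermanCorr.classInner_charAction hCD hSD hSC y ψ φ
    rw [show (GlaubermanCorr.charAction hSC).smul y φ = φ from
      (GlaubermanCorr.charAction_fixed hSC φ).mpr hφ y] at h2
    have e1 : a (y • ψ) = a ψ := by
      have h3 : classInner (res D (θ : ↥K → ℂ)) ((y • ψ : IrrCharacter ↥D) : ↥D → ℂ) =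
          classInner (res D (θ : ↥K → ℂ)) (ψ : ↥D → ℂ) := by rw [res_eq hDK]; exact h1
      rw [ha, ha] at h3
      exact_mod_cast h3
    have e2 : b (y • ψ) = b ψ := by
      have h3 : classInner (res C ((y • ψ : IrrCharacter ↥D) : ↥D → ℂ)) (φ : ↥C → ℂ) =
          classInner (res C (ψ : ↥D → ℂ)) (φ : ↥C → ℂ) := by rw [res_eq hCD, res_eq hCD]; exact h2
      rw [hb, hb] at h3
      exact_mod_cast h3
    rw [e1, e2]
  rw [hsum', Nat.cast_sum, GlaubermanCorr.sum_eq_sum_fixed hS _ hFinv] at hm0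
  obtain ⟨ψ, hψ, hne⟩ := exists_ne_zero_of_sum_ne_zero hm0
  rw [Nat.cast_mul] at hne
  exact ⟨ψ, (GlaubermanCorr.charAction_fixed hSD ψ).mp (mem_filter.mp hψ).2,
    rel_iff.mpr ⟨a ψ, ha ψ, left_ne_zero_of_mul hne⟩, rel_iff.mpr ⟨b ψ, hb ψ, right_ne_zero_of_mul hne⟩⟩

namespace Datum

variable {K L S C : Subgroup G}

open scoped Classical in
theorem exists_equiv (h : Datum p K L S C) :
    ∃ f : {χ : IrrCharacter ↥K // Inv K S (χ : ↥K → ℂ)} ≃ {ξ : IrrCharacter ↥C // Inv C S (ξ : ↥C → ℂ)},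
      ∀ χ ξ, Rel p K C (χ.1 : ↥K → ℂ) (ξ.1 : ↥C → ℂ) ↔ f χ = ξ := by
  obtain ⟨f, hf, hm⟩ := GlaubermanCorr.exists_correspondence_rel (p := p) h.pgroup h.le
    (fun k hk q hq => conj_mem_of_normalizer (h.normL hk) hq)
    (fun y hy q hq => conj_mem_of_normalizer (h.normLS hy) hq) h.not_dvd
    (fun y hy k hk => conj_mem_of_normalizer (h.normK hy) hk) h.C_le h.mem_C
  refine ⟨Equiv.ofBijective f hf, fun χ ξ => ?_⟩
  obtain ⟨m, hm1, hm2, hm3⟩ := hm χ ξ
  rw [rel_iff, res_eq h.C_le]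
  constructor
  · rintro ⟨n, hn, hn0⟩
    by_contra hne
    have : n = m := by exact_mod_cast hn.symm.trans hm1
    exact hn0 (this ▸ hm3 fun e => hne e.symm)
  · intro e
    refine ⟨m, hm1, fun h0 => ?_⟩
    have := hm2 e.symm
    rw [h0] at this
    simp at this

/-- Existence of the correspondent below. -/
theorem exists_rel (h : Datum p K L S C) {θ : ↥K → ℂ} (hθ : IsIrrCharacter ↥K θ) (hi : Inv K S θ) :
    ∃ φ : ↥C → ℂ, IsIrrCharacter ↥C φ ∧ Inv C S φ ∧ Rel p K C θ φ := by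
  obtain ⟨f, hf⟩ := h.exists_equiv
  exact ⟨_, (f ⟨⟨θ, hθ⟩, hi⟩).1.2, (f ⟨⟨θ, hθ⟩, hi⟩).2, (hf ⟨⟨θ, hθ⟩, hi⟩ _).mpr rfl⟩

/-- Existence of the correspondent above. -/
theorem exists_rel_above (h : Datum p K L S C) {φ : ↥C → ℂ} (hφ : IsIrrCharacter ↥C φ) (hi : Inv C S φ) :
    ∃ θ : ↥K → ℂ, IsIrrCharacter ↥K θ ∧ Inv K S θ ∧ Rel p K C θ φ := by
  obtain ⟨f, hf⟩ := h.exists_equiv
  exact ⟨_, (f.symm ⟨⟨φ, hφ⟩, hi⟩).1.2, (f.symm ⟨⟨φ, hφ⟩, hi⟩).2,
    (hf _ ⟨⟨φ, hφ⟩, hi⟩).mpr (f.apply_symm_apply _)⟩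

/-- Uniqueness of the correspondent below. -/
theorem rel_unique (h : Datum p K L S C) {θ : ↥K → ℂ} (hθ : IsIrrCharacter ↥K θ) (hi : Inv K S θ)
    {φ φ' : ↥C → ℂ} (hφ : IsIrrCharacter ↥C φ) (hφi : Inv C S φ) (hφ' : IsIrrCharacter ↥C φ')
    (hφi' : Inv C S φ') (h1 : Rel p K C θ φ) (h2 : Rel p K C θ φ') : φ = φ' := by
  obtain ⟨f, hf⟩ := h.exists_equiv
  exact congrArg (fun x => (x.1 : IrrCharacter ↥C).1)
    (((hf ⟨⟨θ, hθ⟩, hi⟩ ⟨⟨φ, hφ⟩, hφi⟩).mp h1).symm.trans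
      ((hf ⟨⟨θ, hθ⟩, hi⟩ ⟨⟨φ', hφ'⟩, hφi'⟩).mp h2))

/-- Uniqueness of the correspondent above. -/
theorem rel_unique_above (h : Datum p K L S C) {θ θ' : ↥K → ℂ} (hθ : IsIrrCharacter ↥K θ) (hi : Inv K S θ)
    (hθ' : IsIrrCharacter ↥K θ') (hi' : Inv K S θ') {φ : ↥C → ℂ} (hφ : IsIrrCharacter ↥C φ)
    (hφi : Inv C S φ) (h1 : Rel p K C θ φ) (h2 : Rel p K C θ' φ) : θ = θ' := by
  obtain ⟨f, hf⟩ := h.exists_equiv
  exact congrArg (fun x => (x.1 : IrrCharacter ↥K).1) (f.injective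
    (((hf ⟨⟨θ, hθ⟩, hi⟩ ⟨⟨φ, hφ⟩, hφi⟩).mp h1).trans
      ((hf ⟨⟨θ', hθ'⟩, hi'⟩ ⟨⟨φ, hφ⟩, hφi⟩).mp h2).symm))

/-- An element fixing one of two corresponding characters fixes the other. -/
theorem invBy_of_rel (h : Datum p K L S C) {θ : ↥K → ℂ} (hθ : IsIrrCharacter ↥K θ) (hi : Inv K S θ)
    {φ : ↥C → ℂ} (hφ : IsIrrCharacter ↥C φ) (hφi : Inv C S φ) (hr : Rel p K C θ φ) {y : G}
    (hK : y ∈ Subgroup.normalizer (K : Set G)) (hL : y ∈ Subgroup.normalizer (L : Set G))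
    (hS : y ∈ Subgroup.normalizer (S : Set G)) : InvBy K y θ ↔ InvBy C y φ := by
  have hC := h.mem_normalizer hK hL hS
  have h1 := hr.conj h.C_le hK hC
  refine ⟨fun hy => invBy_of_cj_eq hC ?_, fun hy => invBy_of_cj_eq hK ?_⟩
  · rw [cj_eq_self hK hy] at h1
    exact h.rel_unique hθ hi (isIrrCharacter_cj hC hφ) (inv_cj hC hS hφi) hφ hφi h1 hr
  · rw [cj_eq_self hC hy] at h1
    exact h.rel_unique_above (isIrrCharacter_cj hK hθ) (inv_cj hK hS hi) hθ hi hφ hφi h1 hr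

end Datum

end CfsgLib.PPrimeCount
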